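import Mathlib

/-!
Abelian groups of order thirty-two whose squares form a group of order two.
-/

set_option autoImplicit false

namespace Cfsg.Lib.LThreeRadical

open Subgroup

/-- the homomorphism of a cyclic group onto powers -/
def zmodPow {G : Type*} [Group G] (n : ℕ) [NeZero n] (g : G) (hg : g ^ n = 1) : Multiplicative (ZMod n) →* G :=
  MonoidHom.mk' (fun x => g ^ x.toAdd.val) fun x y => by
    rw [toAdd_mul, ZMod.val_add, ← pow_eq_pow_mod _ hg, pow_add]

theorem zmodPow_one {G : Type*} [Group G] (n : ℕ) [NeZero n] [Fact (1 < n)] (g : G) (hg : g ^ n = 1) :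
    zmodPow n g hg (Multiplicative.ofAdd 1) = g := by
  show g ^ (1 : ZMod n).val = g
  rw [ZMod.val_one, pow_one]

theorem exists_grow {G : Type*} [Group G] [Finite G] {Ω A : Subgroup G} (hA : A ≤ Ω) :
    ∃ e ∈ Ω, A ⊔ zpowers e ≤ Ω ∧ min (Nat.card Ω) (2 * Nat.card A) ≤ Nat.card (A ⊔ zpowers e : Subgroup G) := by
  by_cases h : A = Ω
  · subst h
    refine ⟨1, one_mem _, ?_, ?_⟩ <;> rw [zpowers_one_eq_bot, sup_bot_eq]
    exact min_le_left _ _
  obtain ⟨e, he, heA⟩ := SetLike.exists_of_lt (lt_of_le_of_ne hA h)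
  refine ⟨e, he, sup_le hA (zpowers_le.2 he), le_trans (min_le_right _ _) ?_⟩
  have hlt : A < A ⊔ zpowers e := lt_of_le_of_ne le_sup_left fun h' => heA (h' ▸ mem_sup_right (mem_zpowers e))
  obtain ⟨k, hk⟩ := card_dvd_of_le hlt.le
  have hne : Nat.card A ≠ Nat.card (A ⊔ zpowers e : Subgroup G) := fun e' =>
    hlt.ne (eq_of_le_of_card_ge hlt.le e'.ge)
  have hpos : 0 < Nat.card (A ⊔ zpowers e : Subgroup G) := Nat.card_pos
  rw [hk] at hne hpos ⊢
  rcases k with _ | _ | k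
  · simp at hpos
  · simp at hne
  · rw [mul_comm]
    exact Nat.mul_le_mul le_rfl (by omega)

theorem abelian_model {G : Type*} [CommGroup G] [Finite G] (h32 : Nat.card G = 32) {c : G} (hc : c ≠ 1)
    (hcc : c * c = 1) (hsq : ∀ g : G, g * g = 1 ∨ g * g = c) {a : G} (ha : a * a = c) :
    Nonempty (G ≃* Multiplicative (ZMod 4) × (Fin 3 → Multiplicative (ZMod 2))) := by
  classical
  haveI : Fact (1 < 4) := ⟨by norm_num⟩
  haveI : Fact (1 < 2) := ⟨by norm_num⟩
  set Ω := (powMonoidHom 2 : G →* G).ker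
  have hmemΩ : ∀ g, g ∈ Ω ↔ g * g = 1 := fun g => by rw [MonoidHom.mem_ker, powMonoidHom_apply, pow_two]
  have haΩ : a ∉ Ω := fun h => hc (ha ▸ (hmemΩ a).1 h)
  have hΩ : Nat.card Ω = 16 := by
    have hr : (powMonoidHom 2 : G →* G).range = zpowers c := by
      refine le_antisymm ?_ (zpowers_le.2 ⟨a, by rw [powMonoidHom_apply, pow_two, ha]⟩)
      rintro _ ⟨g, rfl⟩
      rw [powMonoidHom_apply, pow_two]
      rcases hsq g with h | h <;> rw [h]
      · exact one_mem _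
      · exact mem_zpowers c
    have h := Ω.card_mul_index
    rw [Subgroup.index_ker, hr, Nat.card_zpowers, h32,
      orderOf_eq_prime (p := 2) (by rw [pow_two]; exact hcc) hc] at h
    omega
  have hc0 : zpowers c ≤ Ω := zpowers_le.2 ((hmemΩ c).2 hcc)
  have hc2 : Nat.card (zpowers c) = 2 := by
    rw [Nat.card_zpowers]
    exact orderOf_eq_prime (by rw [pow_two]; exact hcc) hc
  obtain ⟨e₁, he₁, hle₁, hcard₁⟩ := exists_grow hc0
  obtain ⟨e₂, he₂, hle₂, hcard₂⟩ := exists_grow hle₁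
  obtain ⟨e₃, he₃, hle₃, hcard₃⟩ := exists_grow hle₂
  rw [hΩ] at hcard₁ hcard₂ hcard₃
  rw [hc2] at hcard₁
  have htop : zpowers c ⊔ zpowers e₁ ⊔ zpowers e₂ ⊔ zpowers e₃ = Ω := by
    refine eq_of_le_of_card_ge hle₃ ?_
    rw [hΩ]
    omega
  have ha4 : a ^ 4 = 1 := by rw [show (4 : ℕ) = 2 * 2 from rfl, pow_mul, pow_two, pow_two, ha, hcc]
  let e : Fin 3 → Ω := ![⟨e₁, he₁⟩, ⟨e₂, he₂⟩, ⟨e₃, he₃⟩]
  have he : ∀ i, (e i : G) ^ 2 = 1 := fun i => by rw [pow_two]; exact (hmemΩ _).1 (e i).2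
  let φ : (Fin 3 → Multiplicative (ZMod 2)) →* G :=
    MonoidHom.mk' (fun x => ∏ i, zmodPow 2 (e i : G) (he i) (x i)) fun x y => by
      simp only [Pi.mul_apply, map_mul]
      exact Finset.prod_mul_distrib
  let f : Multiplicative (ZMod 4) × (Fin 3 → Multiplicative (ZMod 2)) →* G :=
    (zmodPow 4 a ha4).coprod φ
  have hfa : a ∈ f.range := ⟨(Multiplicative.ofAdd (1 : ZMod 4), 1), by
    show zmodPow 4 a ha4 (Multiplicative.ofAdd 1) * φ 1 = a
    rw [φ.map_one, mul_one, zmodPow_one]⟩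
  have hfe : ∀ i, (e i : G) ∈ f.range := fun i => by
    refine ⟨(1, (Pi.mulSingle i (Multiplicative.ofAdd 1) : Fin 3 → Multiplicative (ZMod 2))), ?_⟩
    show zmodPow 4 a ha4 1 * φ (Pi.mulSingle i (Multiplicative.ofAdd 1)) = _
    rw [map_one, one_mul]
    show (∏ j, zmodPow 2 (e j : G) (he j) ((Pi.mulSingle i (Multiplicative.ofAdd 1) : Fin 3 → Multiplicative (ZMod 2)) j)) = _
    rw [Finset.prod_eq_single i]
    · rw [Pi.mulSingle_eq_same, zmodPow_one]
    · intro j _ hj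
      rw [Pi.mulSingle_eq_of_ne hj, map_one]
    · exact fun h => absurd (Finset.mem_univ i) h
  have hΩf : Ω ≤ f.range := by
    rw [← htop]
    exact sup_le (sup_le (sup_le (zpowers_le.2 (ha ▸ mul_mem hfa hfa)) (zpowers_le.2 (hfe 0))) (zpowers_le.2 (hfe 1)))
      (zpowers_le.2 (hfe 2))
  have hsurj : Function.Surjective f := by
    rw [← MonoidHom.range_eq_top]
    have hlt : Ω < f.range := lt_of_le_of_ne hΩf fun h => haΩ (h ▸ hfa)
    refine Subgroup.eq_top_of_card_eq _ ?_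
    have h1 : Nat.card Ω < Nat.card f.range := lt_of_le_of_ne (Subgroup.card_le_of_le hΩf) fun h =>
      hlt.ne (eq_of_le_of_card_ge hlt.le h.ge)
    have h2 := Subgroup.card_subgroup_dvd_card f.range
    rw [h32] at h2 ⊢
    rw [hΩ] at h1
    have h3 := Nat.le_of_dvd (by norm_num) h2
    interval_cases hh : Nat.card f.range <;> omega
  refine ⟨(MulEquiv.ofBijective f ((Nat.bijective_iff_surjective_and_card f).2 ⟨hsurj, ?_⟩)).symm⟩
  rw [h32, Nat.card_eq_fintype_card]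
  rfl

end Cfsg.Lib.LThreeRadical
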