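import Cfsg.Agent.SolvStruct.LThreeRadical.ThirdLayer
import Cfsg.Agent.SolvStruct.LThreeRadical.Model
import Cfsg.Agent.SolvStruct.AltFiveRadical.Radical

/-!
The 2-radical of an extension by the linear group of degree three over two elements.
-/

set_option autoImplicit false
set_option linter.unusedSectionVars false
set_option linter.style.haveILetI false
set_option maxRecDepth 4000

namespace Cfsg.Lib.LThreeRadical

open Subgroup
open Cfsg.Lib.AltFiveRadical (quotient_minimal map_sqs_ne_bot exists_maximal_below)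

universe u
variable {Y : Type u} [Group Y] [Finite Y] {π : Y →* L3} {P : Subgroup Y}

theorem no_two_normal (N : Subgroup L3) (hN : N.Normal) (h2 : IsPGroup 2 N) : N = ⊥ := by
  haveI := hN
  rcases normal_cases N with h | h
  · exact h
  subst h
  haveI : Fact (Nat.Prime 7) := ⟨by norm_num⟩
  obtain ⟨k, hk⟩ := h2 ⟨fE, mem_top _⟩
  have e : fE ^ 2 ^ k = 1 := congrArg Subtype.val hk
  have h := orderOf_dvd_of_pow_eq_one e
  rw [orderOf_eq_prime fE_pow.1 fE_pow.2] at h
  have := Nat.le_of_dvd (by norm_num) ((Fact.out : Nat.Prime 7).dvd_of_dvd_pow h)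
  omega

theorem layer_facts (E : Setup π P) (F : Faithful P (sqs P)) {M : Subgroup Y} [M.Normal] (hM : M < sqs P)
    (hmax : ∀ N : Subgroup Y, N.Normal → M ≤ N → N < sqs P → N = M) :
    Nat.card ((sqs P).map (QuotientGroup.mk' M)) = 2 ∧
      (∀ a ∈ P.map (QuotientGroup.mk' M), ∀ b ∈ P.map (QuotientGroup.mk' M), a * b = b * a) ∧
      Nat.card (P.map (QuotientGroup.mk' M)) = 32 := by
  haveI := E.normal
  haveI := sqs_normal P
  haveI : ((sqs P).map (QuotientGroup.mk' M)).Normal :=
    Normal.map inferInstance _ (QuotientGroup.mk'_surjective _)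
  exact top_layer (E.quotient M (hM.le.trans (sqs_le P))) (sqs_map _ _) (map_sqs_ne_bot hM) (F.quotient hM.le)
    (quotient_minimal hM.le hmax)

theorem no_second_step (E : Setup π P) (F : Faithful P (sqs P)) {M : Subgroup Y} [M.Normal] (hM : M < sqs P)
    (hmax : ∀ N : Subgroup Y, N.Normal → M ≤ N → N < sqs P → N = M) (hM0 : M ≠ ⊥) : False := by
  obtain ⟨M₂, hM₂n, hM₂, hmax₂⟩ := exists_maximal_below M hM0
  haveI := hM₂n
  haveI := E.normal
  haveI := sqs_normal P
  set m := QuotientGroup.mk' M₂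
  have hs : Function.Surjective m := QuotientGroup.mk'_surjective M₂
  have hM₂P : M₂ ≤ P := (hM₂.trans hM).le.trans (sqs_le P)
  have E₂ := E.quotient M₂ hM₂P
  have F₂ : Faithful (P.map m) (sqs (P.map m)) := sqs_map m P ▸ F.quotient (hM₂.trans hM).le
  haveI : (M.map m).Normal := Normal.map inferInstance _ hs
  have hcomap : ∀ T : Subgroup Y, M₂ ≤ T → (T.map m).comap m = T := fun T hT =>
    Subgroup.comap_map_eq_self (by rw [QuotientGroup.ker_mk']; exact hT)
  have hlt : M.map m < sqs (P.map m) := by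
    rw [← sqs_map]
    refine lt_of_le_of_ne (Subgroup.map_mono hM.le) fun h => hM.ne ?_
    rw [← hcomap M hM₂.le, h, hcomap _ (hM₂.trans hM).le]
  have hmax' : ∀ N : Subgroup (Y ⧸ M₂), N.Normal → M.map m ≤ N → N < sqs (P.map m) → N = M.map m := by
    intro N hN h1 h2
    haveI := hN
    rw [← sqs_map] at h2
    have h3 : N.comap m = M := by
      refine hmax _ (Normal.comap inferInstance _) (hcomap M hM₂.le ▸ Subgroup.comap_mono h1) ?_
      refine lt_of_le_of_ne ((Subgroup.comap_mono h2.le).trans (hcomap _ (hM₂.trans hM).le).le) fun h => h2.ne ?_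
      rw [← Subgroup.map_comap_eq_self_of_surjective hs N, h]
    rw [← h3, Subgroup.map_comap_eq_self_of_surjective hs]
  obtain ⟨hc2, hab, h32⟩ := layer_facts E₂ F₂ hlt hmax'
  exact third_layer E₂ F₂ (map_sqs_ne_bot hM₂) hlt.le (quotient_minimal hM₂.le hmax₂) hc2 hab h32

theorem radical_structure (E : Setup π P) (hC : centralizer (P : Set Y) ≤ P) :
    (Cfsg.IsElementaryAbelian 2 P ∧ (Nat.card P = 8 ∨ Nat.card P = 16)) ∨
      Nonempty (P ≃* Multiplicative (ZMod 4) × (Fin 3 → Multiplicative (ZMod 2))) := by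
  classical
  haveI := E.normal
  haveI := sqs_normal P
  have F := faithful_sqs E no_two_normal hC
  by_cases h0 : sqs P = ⊥
  · left
    have hexp : ∀ a ∈ P, a * a = 1 := fun a ha => Subgroup.mem_bot.1 (h0 ▸ sq_mem_sqs ha)
    obtain ⟨V, iV, fV, ⟨L⟩⟩ := exists_layer E (R := sqs P) (sqs_le P) (fun a ha => sq_mem_sqs ha) F
    refine ⟨⟨⟨⟨fun a b => Subtype.ext ?_⟩⟩, fun a ha => by rw [pow_two]; exact hexp a ha⟩, ?_⟩
    · have h : ∀ c : Y, c ∈ P → c⁻¹ = c := fun c hc => inv_eq_of_mul_eq_one_right (hexp c hc)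
      show (a : Y) * b = b * a
      rw [← h _ (mul_mem a.2 b.2), mul_inv_rev, h _ a.2, h _ b.2]
    · rw [L.card (sqs_le P), h0, Subgroup.card_bot, mul_one]
      exact card_cases L.ρ L.exp L.le16 L.inj
  · right
    obtain ⟨M, hMn, hM, hmax⟩ := exists_maximal_below (sqs P) h0
    haveI := hMn
    obtain ⟨h2, hab, h32⟩ := layer_facts E F hM hmax
    by_cases hM0 : M = ⊥
    swap
    · exact (no_second_step E F hM hmax hM0).elim
    have hinj : Function.Injective (QuotientGroup.mk' M) := by
      rw [← MonoidHom.ker_eq_bot_iff, QuotientGroup.ker_mk', hM0]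
    rw [card_map_of_injective hinj] at h2 h32
    letI : CommGroup P := { (inferInstance : Group P) with
      mul_comm := fun a b => Subtype.ext (hinj (by
        rw [Subgroup.coe_mul, Subgroup.coe_mul, map_mul, map_mul]; exact hab _ (mem_map_of_mem _ a.2) _ (mem_map_of_mem _ b.2))) }
    obtain ⟨c, hc1, hc⟩ := (Nat.card_eq_two_iff' (1 : sqs P)).1 h2
    have hsq : ∀ g : P, g * g = 1 ∨ g * g = ⟨c, sqs_le P c.2⟩ := fun g => by
      by_cases h : g * g = 1
      · exact Or.inl h
      · exact Or.inr (Subtype.ext (congrArg (fun r : sqs P => (r : Y))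
          (hc ⟨(g : Y) * g, sq_mem_sqs g.2⟩ fun e => h (Subtype.ext (congrArg (fun r : sqs P => (r : Y)) e)))))
    obtain ⟨a, ha⟩ : ∃ a : P, a * a ≠ 1 := by
      by_contra hno
      push Not at hno
      exact h0 (le_bot_iff.1 (sqs_le_iff.2 fun g hg => Subgroup.mem_bot.2 (congrArg Subtype.val (hno ⟨g, hg⟩))))
    refine abelian_model h32 (c := ⟨c, sqs_le P c.2⟩) (fun e => hc1 (Subtype.ext (congrArg (fun r : P => (r : Y)) e))) ?_ hsq
      (a := a) ((hsq a).resolve_left ha)
    have h := pow_card_eq_one' (x := c)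
    rw [h2, pow_two] at h
    exact Subtype.ext (congrArg (fun r : sqs P => (r : Y)) h)

end Cfsg.Lib.LThreeRadical
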