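import Cfsg.Agent.SolvStruct.LThreeRadical.TopLayer

/-!
No abelian radical of exponent eight: a section of rank five from commutators of lifts.
-/

set_option autoImplicit false
set_option linter.unusedSectionVars false
set_option linter.style.haveILetI false
set_option maxRecDepth 100000
set_option maxHeartbeats 1000000
set_option synthInstance.maxHeartbeats 400000
set_option synthInstance.maxSize 2000

namespace Cfsg.Lib.LThreeRadical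

open Subgroup

theorem cyc_facts : act sE cV = cV ∧ act tE cV = cV ∧ act uE cV = cV ∧ sE * uE * sE⁻¹ * uE⁻¹ = tE ∧
    (∀ v : Vec2, act tE v = v → act sE v + v = 0 → v = 0 ∨ v = cV) ∧
    (∀ v : Vec2, (v + act uE v) + act tE (v + act uE v) = 0) ∧ cV ≠ 0 ∧ cV + cV = 0 ∧
    (∀ v : Vec2, act tE v + v = 0 ∨ act tE v + v = cV) ∧ (∀ v : Vec2, act sE v + v = 0 ∨ act sE v + v = cV) ∧
    Function.Injective (fun w : Fin 2 × Fin 2 => tE ^ (w.1 : ℕ) * sE ^ (w.2 : ℕ)) := by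
  decide +kernel

universe u
variable {Y : Type u} [Group Y] [Finite Y]

/-- the data of a cyclic middle layer -/
structure CyclicData (π : Y →* L3) (P : Subgroup Y) (s z : Y) (ψ : Y → Vec2) : Prop where
  surj : Function.Surjective π
  ker : π.ker = P
  rank : Cfsg.SectionalPRankLE 2 4 Y
  ab : ∀ a ∈ P, ∀ b ∈ P, a * b = b * a
  zz : z * z = s
  ss : s * s = 1
  s1 : s ≠ 1
  zP : z ∈ P
  zc : ∀ y, y * z * y⁻¹ = z
  sqP : ∀ k ∈ P, ∃ j : Fin 4, k * k = z ^ (j : ℕ)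
  mul : ∀ a ∈ P, ∀ b ∈ P, a * a = 1 → b * b = 1 → ψ (a * b) = ψ a + ψ b
  kerψ : ∀ a ∈ P, a * a = 1 → ψ a = 0 → a = 1 ∨ a = s
  equiv : ∀ (y : Y), ∀ a ∈ P, a * a = 1 → ψ (y * a * y⁻¹) = act (π y) (ψ a)
  card : 32 ≤ {k : Y | k ∈ P ∧ k ^ 4 = 1}.ncard

namespace CyclicData

variable {π : Y →* L3} {P : Subgroup Y} {s z : Y} {ψ : Y → Vec2} (D : CyclicData π P s z ψ)
include D

theorem normal : P.Normal := D.ker ▸ inferInstance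

theorem mem {y : Y} : y ∈ P ↔ π y = 1 := by rw [← D.ker]; exact Iff.rfl

theorem sP : s ∈ P := D.zz ▸ mul_mem D.zP D.zP

theorem sc (y : Y) : y * s * y⁻¹ = s := by
  rw [← D.zz, show y * (z * z) * y⁻¹ = y * z * y⁻¹ * (y * z * y⁻¹) by group, D.zc]

theorem ψ_one : ψ 1 = 0 := by
  have h := D.mul 1 (one_mem _) 1 (one_mem _) (one_mul 1) (one_mul 1)
  rw [one_mul] at h
  exact left_eq_add.1 h

theorem ψ_s : ψ s = 0 := by
  have h := D.equiv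
  obtain ⟨fl, hfl⟩ := D.surj fE
  refine vec_seven fE fE_pow.1 fE_pow.2 _ ?_
  rw [← hfl, ← h fl s D.sP D.ss, D.sc]

theorem sq_sq {k : Y} (hk : k ∈ P) : k * k * (k * k) = 1 ∨ k * k * (k * k) = s := by
  obtain ⟨j, hj⟩ := D.sqP k hk
  have h4 : z * z * (z * z) = 1 := by rw [D.zz, D.ss]
  fin_cases j <;> simp only at hj <;> rw [hj]
  · left; simp
  · right; rw [pow_one, D.zz]
  · left; rw [pow_two, h4]
  · right
    rw [show z ^ 3 * z ^ 3 = (z * z * (z * z)) * (z * z) by simp only [pow_succ, pow_zero, one_mul, mul_assoc], h4, one_mul, D.zz]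

theorem split {k : Y} (hk : k ∈ P) (h4 : k * k * (k * k) = 1) :
    ∃ δ ω, (δ = 1 ∨ δ = z) ∧ ω ∈ P ∧ ω * ω = 1 ∧ k = δ * ω := by
  obtain ⟨j, hj⟩ := D.sqP k hk
  fin_cases j <;> simp only at hj
  · exact ⟨1, k, Or.inl rfl, hk, by rw [hj, pow_zero], (one_mul k).symm⟩
  · exfalso
    rw [hj, pow_one, D.zz] at h4
    exact D.s1 h4
  · refine ⟨z, z⁻¹ * k, Or.inr rfl, mul_mem (inv_mem D.zP) hk, ?_, (mul_inv_cancel_left z k).symm⟩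
    rw [show z⁻¹ * k * (z⁻¹ * k) = z⁻¹ * (k * z⁻¹) * k by group, D.ab k hk z⁻¹ (inv_mem D.zP),
      show z⁻¹ * (z⁻¹ * k) * k = (z * z)⁻¹ * (k * k) by group, hj, pow_two, inv_mul_cancel]
  · exfalso
    rw [hj, show z ^ 3 * z ^ 3 = (z * z * (z * z)) * (z * z) by simp only [pow_succ, pow_zero, one_mul, mul_assoc], D.zz, D.ss, one_mul] at h4
    exact D.s1 h4

theorem conj_sq (y : Y) {a : Y} (ha : a * a = 1) : y * a * y⁻¹ * (y * a * y⁻¹) = 1 := by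
  rw [show y * a * y⁻¹ * (y * a * y⁻¹) = y * (a * a) * y⁻¹ by group, ha, mul_one, mul_inv_cancel]

theorem mul_sq {a b : Y} (ha : a ∈ P) (hb : b ∈ P) (ha2 : a * a = 1) (hb2 : b * b = 1) : a * b * (a * b) = 1 := by
  rw [show a * b * (a * b) = a * (b * a) * b by group, D.ab b hb a ha, show a * (a * b) * b = a * a * (b * b) by group,
    ha2, hb2, mul_one]

theorem fixS {a : Y} (h : a = 1 ∨ a = s) (y : Y) : y * a * y⁻¹ = a := by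
  rcases h with rfl | rfl
  · simp
  · exact D.sc y

theorem rel {σ ul : Y} (hσ : π σ = sE) :
    σ * (σ * ul * σ⁻¹ * ul⁻¹) * σ⁻¹ = (σ * σ * ul * (σ * σ)⁻¹ * ul⁻¹) * (σ * ul * σ⁻¹ * ul⁻¹)⁻¹ := by
  group

theorem comm_lift {σ ul : Y} (hσ : π σ = sE) (hu : π ul = uE) : π (σ * ul * σ⁻¹ * ul⁻¹) = tE := by
  rw [map_mul, map_mul, map_mul, map_inv, map_inv, hσ, hu]
  exact cyc_facts.2.2.2.1

/-- round one: the square of the commutator has order dividing four -/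
theorem round_one {σ ul : Y} (hσ : π σ = sE) (hu : π ul = uE) :
    (σ * ul * σ⁻¹ * ul⁻¹) * (σ * ul * σ⁻¹ * ul⁻¹) ∈ P ∧
    (σ * ul * σ⁻¹ * ul⁻¹) * (σ * ul * σ⁻¹ * ul⁻¹) * ((σ * ul * σ⁻¹ * ul⁻¹) * (σ * ul * σ⁻¹ * ul⁻¹)) *
      ((σ * ul * σ⁻¹ * ul⁻¹) * (σ * ul * σ⁻¹ * ul⁻¹) * ((σ * ul * σ⁻¹ * ul⁻¹) * (σ * ul * σ⁻¹ * ul⁻¹))) = 1 := by
  haveI := D.normal
  set c := σ * ul * σ⁻¹ * ul⁻¹ with hc
  have hπc : π c = tE := D.comm_lift hσ hu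
  have hx : c * c ∈ P := D.mem.2 (by rw [map_mul, hπc]; exact rel_facts.2.2.2.2.1)
  refine ⟨hx, ?_⟩
  set ξ := σ * σ
  have hξ : ξ ∈ P := D.mem.2 (by rw [map_mul, hσ]; exact rel_facts.1)
  set e := ξ * ul * ξ⁻¹ * ul⁻¹ with he
  have hconjξ : ul * ξ⁻¹ * ul⁻¹ ∈ P := Normal.conj_mem D.normal _ (inv_mem hξ) ul
  have heP : e ∈ P := by
    rw [he, show ξ * ul * ξ⁻¹ * ul⁻¹ = ξ * (ul * ξ⁻¹ * ul⁻¹) by group]
    exact mul_mem hξ hconjξ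
  have he2 : e * e = 1 := by
    obtain ⟨j, hj⟩ := D.sqP ξ hξ
    have hcz : ul * (z ^ (j : ℕ))⁻¹ * ul⁻¹ = (z ^ (j : ℕ))⁻¹ := by
      have h : Commute ul z := mul_inv_eq_iff_eq_mul.1 (D.zc ul)
      rw [((h.pow_right (j : ℕ)).inv_right).eq, mul_inv_cancel_right]
    rw [he, show ξ * ul * ξ⁻¹ * ul⁻¹ * (ξ * ul * ξ⁻¹ * ul⁻¹) = ξ * ((ul * ξ⁻¹ * ul⁻¹) * ξ) * (ul * ξ⁻¹ * ul⁻¹) by group,
      D.ab _ hconjξ _ hξ, show ξ * (ξ * (ul * ξ⁻¹ * ul⁻¹)) * (ul * ξ⁻¹ * ul⁻¹) = ξ * ξ * (ul * (ξ * ξ)⁻¹ * ul⁻¹) by group,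
      hj, hcz, mul_inv_cancel]
  have hce : c⁻¹ * e * c ∈ P := by
    have := Normal.conj_mem D.normal _ heP c⁻¹
    rwa [inv_inv] at this
  have hce2 : c⁻¹ * e * c * (c⁻¹ * e * c) = 1 := by
    have := D.conj_sq c⁻¹ he2
    rwa [inv_inv] at this
  set m := e * (c⁻¹ * e * c)
  have hm : m * m = 1 := D.mul_sq heP hce he2 hce2
  have hmP : m ∈ P := mul_mem heP hce
  have hrel : σ * c * σ⁻¹ = e * c⁻¹ := D.rel hσ
  have hsx : σ * (c * c) * σ⁻¹ = m * (c * c)⁻¹ := by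
    rw [show σ * (c * c) * σ⁻¹ = σ * c * σ⁻¹ * (σ * c * σ⁻¹) by group, hrel]
    simp only [m]
    group
  have hfix : σ * (c * c * (c * c)) * σ⁻¹ = c * c * (c * c) := by
    obtain ⟨j, hj⟩ := D.sqP _ hx
    have h : Commute σ z := mul_inv_eq_iff_eq_mul.1 (D.zc σ)
    rw [hj, (h.pow_right (j : ℕ)).eq, mul_inv_cancel_right]
  rw [show σ * (c * c * (c * c)) * σ⁻¹ = σ * (c * c) * σ⁻¹ * (σ * (c * c) * σ⁻¹) by group, hsx] at hfix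
  have h2 : m * (c * c)⁻¹ * (m * (c * c)⁻¹) = (c * c * (c * c))⁻¹ := by
    rw [show m * (c * c)⁻¹ * (m * (c * c)⁻¹) = m * ((c * c)⁻¹ * m) * (c * c)⁻¹ by group, D.ab _ (inv_mem hx) _ hmP,
      show m * (m * (c * c)⁻¹) * (c * c)⁻¹ = m * m * (c * c * (c * c))⁻¹ by group, hm, one_mul]
  rw [h2] at hfix
  nth_rewrite 1 [← hfix]
  exact inv_mul_cancel _

theorem round_two {σ ul : Y} (hσ : π σ = sE) (hu : π ul = uE) {δ₀ ω₀ δ ω : Y} (hδ₀ : δ₀ = 1 ∨ δ₀ = z)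
    (hω₀ : ω₀ ∈ P) (hω₀2 : ω₀ * ω₀ = 1) (hξ : σ * σ = δ₀ * ω₀) (hδ : δ = 1 ∨ δ = z) (hω : ω ∈ P) (hω2 : ω * ω = 1)
    (hx : (σ * ul * σ⁻¹ * ul⁻¹) * (σ * ul * σ⁻¹ * ul⁻¹) = δ * ω) :
    (ψ ω = 0 ∨ ψ ω = cV) ∧ σ * σ * ul * (σ * σ)⁻¹ * ul⁻¹ ∈ P ∧
      σ * σ * ul * (σ * σ)⁻¹ * ul⁻¹ * (σ * σ * ul * (σ * σ)⁻¹ * ul⁻¹) = 1 ∧
      ψ (σ * σ * ul * (σ * σ)⁻¹ * ul⁻¹) = ψ ω₀ + act uE (ψ ω₀) ∧
      (ψ (σ * σ * ul * (σ * σ)⁻¹ * ul⁻¹) = 0 → (σ * σ * ul * (σ * σ)⁻¹ * ul⁻¹ = 1 ∨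
        σ * σ * ul * (σ * σ)⁻¹ * ul⁻¹ = s) ∧ σ * ω * σ⁻¹ = δ⁻¹ * δ⁻¹ * ω) := by
  haveI := D.normal
  set c := σ * ul * σ⁻¹ * ul⁻¹ with hc
  have hπc : π c = tE := D.comm_lift hσ hu
  have hzδ : ∀ {d : Y}, (d = 1 ∨ d = z) → d ∈ P ∧ ∀ y, y * d * y⁻¹ = d := by
    intro d hd
    rcases hd with rfl | rfl
    · exact ⟨one_mem _, fun y => by simp⟩
    · exact ⟨D.zP, D.zc⟩
  obtain ⟨hδ₀P, hδ₀c⟩ := hzδ hδ₀
  obtain ⟨hδP, hδc⟩ := hzδ hδ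
  set e := σ * σ * ul * (σ * σ)⁻¹ * ul⁻¹ with he
  have hω' : ul * ω₀ * ul⁻¹ ∈ P := Normal.conj_mem D.normal _ hω₀ ul
  have hω'2 : ul * ω₀ * ul⁻¹ * (ul * ω₀ * ul⁻¹) = 1 := D.conj_sq ul hω₀2
  have hee : e = ω₀ * (ul * ω₀ * ul⁻¹) := by
    rw [he, hξ, show δ₀ * ω₀ * ul * (δ₀ * ω₀)⁻¹ * ul⁻¹ = δ₀ * ω₀ * (ul * ω₀⁻¹ * ul⁻¹) * (ul * δ₀⁻¹ * ul⁻¹) by group,
      show ul * δ₀⁻¹ * ul⁻¹ = (ul * δ₀ * ul⁻¹)⁻¹ by group, hδ₀c, inv_eq_of_mul_eq_one_left hω₀2,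
      D.ab δ₀ hδ₀P ω₀ hω₀, mul_assoc ω₀ δ₀, D.ab δ₀ hδ₀P _ hω', ← mul_assoc, mul_inv_cancel_right]
  have heP : e ∈ P := hee ▸ mul_mem hω₀ hω'
  have he2 : e * e = 1 := hee ▸ D.mul_sq hω₀ hω' hω₀2 hω'2
  have hψe : ψ e = ψ ω₀ + act uE (ψ ω₀) := by
    rw [hee, D.mul _ hω₀ _ hω' hω₀2 hω'2, D.equiv ul _ hω₀ hω₀2, hu]
  have hce : c⁻¹ * e * c ∈ P := by
    have := Normal.conj_mem D.normal _ heP c⁻¹
    rwa [inv_inv] at this
  have hce2 : c⁻¹ * e * c * (c⁻¹ * e * c) = 1 := by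
    have := D.conj_sq c⁻¹ he2
    rwa [inv_inv] at this
  set m := e * (c⁻¹ * e * c) with hm
  have hm2 : m * m = 1 := D.mul_sq heP hce he2 hce2
  have hmP : m ∈ P := mul_mem heP hce
  have hψm : ψ m = ψ e + act tE (ψ e) := by
    rw [hm, D.mul _ heP _ hce he2 hce2]
    have h := D.equiv c⁻¹ e heP he2
    rw [inv_inv, map_inv, hπc, inv_eq_of_mul_eq_one_left rel_facts.2.2.2.2.1] at h
    rw [h]
  have hψm0 : ψ m = 0 := by rw [hψm, hψe]; exact cyc_facts.2.2.2.2.2.1 _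
  have hsx : σ * (c * c) * σ⁻¹ = m * (c * c)⁻¹ := by
    rw [show σ * (c * c) * σ⁻¹ = σ * c * σ⁻¹ * (σ * c * σ⁻¹) by group, D.rel hσ]
    simp only [m, e, c]
    group
  have hσω : σ * ω * σ⁻¹ = δ⁻¹ * δ⁻¹ * (m * ω) := by
    rw [hx, show σ * (δ * ω) * σ⁻¹ = σ * δ * σ⁻¹ * (σ * ω * σ⁻¹) by group, hδc, _root_.mul_inv_rev,
      inv_eq_of_mul_eq_one_left hω2] at hsx
    calc σ * ω * σ⁻¹ = δ⁻¹ * (δ * (σ * ω * σ⁻¹)) := (inv_mul_cancel_left _ _).symm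
      _ = δ⁻¹ * (m * ω * δ⁻¹) := by rw [hsx]; simp only [m, mul_assoc]
      _ = δ⁻¹ * δ⁻¹ * (m * ω) := by rw [D.ab _ (mul_mem hmP hω) _ (inv_mem hδP)]; simp only [mul_assoc]
  have hδ2 : δ⁻¹ * δ⁻¹ = 1 ∨ δ⁻¹ * δ⁻¹ = s := by
    rcases hδ with rfl | rfl
    · left; simp
    · right; rw [← _root_.mul_inv_rev, D.zz, inv_eq_of_mul_eq_one_left D.ss]
  have hδ2P : δ⁻¹ * δ⁻¹ ∈ P := mul_mem (inv_mem hδP) (inv_mem hδP)
  have hδ22 : δ⁻¹ * δ⁻¹ * (δ⁻¹ * δ⁻¹) = 1 := by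
    rcases hδ2 with h | h <;> rw [h]
    · rw [one_mul]
    · exact D.ss
  have hψδ : ψ (δ⁻¹ * δ⁻¹) = 0 := by
    rcases hδ2 with h | h <;> rw [h]
    · exact D.ψ_one
    · exact D.ψ_s
  have hs : act sE (ψ ω) = ψ ω := by
    have h := D.equiv σ ω hω hω2
    rw [hσ, hσω, D.mul _ hδ2P _ (mul_mem hmP hω) hδ22 (D.mul_sq hmP hω hm2 hω2), D.mul _ hmP _ hω hm2 hω2, hψδ,
      hψm0, zero_add, zero_add] at h
    exact h.symm
  have ht : act tE (ψ ω) = ψ ω := by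
    rw [← hπc, ← D.equiv c ω hω hω2]
    congr 1
    have e1 : ω = δ⁻¹ * (c * c) := by rw [hx, inv_mul_cancel_left]
    rw [e1, show c * (δ⁻¹ * (c * c)) * c⁻¹ = (c * δ * c⁻¹)⁻¹ * (c * c) by group, hδc]
  refine ⟨cyc_facts.2.2.2.2.1 _ ht (by rw [hs]; funext j; exact CharTwo.add_self_eq_zero _), heP, he2, hψe, fun h0 => ?_⟩
  have he1 := D.kerψ e heP he2 h0
  refine ⟨he1, ?_⟩
  rw [hσω, show m = 1 by
    rw [hm]
    have h := D.fixS he1 c⁻¹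
    rw [inv_inv] at h
    rw [h, he2], one_mul]

theorem centre_fix (y₁ y₂ : Y) (h₁ : act (π y₁) cV = cV) (h₂ : act (π y₂) cV = cV) {ω : Y} (hω : ω ∈ P)
    (hω2 : ω * ω = 1) (hψ : ψ ω = 0 ∨ ψ ω = cV) :
    y₁ * y₂ * y₁⁻¹ * y₂⁻¹ * ω * (y₁ * y₂ * y₁⁻¹ * y₂⁻¹)⁻¹ = ω := by
  haveI := D.normal
  rcases hψ with hψ | hψ
  · exact D.fixS (D.kerψ ω hω hω2 hψ) _
  have key : ∀ y : Y, act (π y) cV = cV → ∃ r, (r = 1 ∨ r = s) ∧ y * ω * y⁻¹ = r * ω ∧ y⁻¹ * ω * y = r * ω := by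
    intro y hy
    have hP' : y * ω * y⁻¹ ∈ P := Normal.conj_mem D.normal _ hω y
    have h2' := D.conj_sq y hω2
    have hr := D.kerψ (y * ω * y⁻¹ * ω) (mul_mem hP' hω) (D.mul_sq hP' hω h2' hω2) (by
      rw [D.mul _ hP' _ hω h2' hω2, D.equiv y ω hω hω2, hψ, hy]; exact cyc_facts.2.2.2.2.2.2.2.1)
    refine ⟨_, hr, by rw [mul_assoc (y * ω * y⁻¹), hω2, mul_one], ?_⟩
    set r := y * ω * y⁻¹ * ω with hrdef
    have hy' : y * ω * y⁻¹ = r * ω := by rw [hrdef, mul_assoc (y * ω * y⁻¹), hω2, mul_one]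
    have hrfix := D.fixS hr y⁻¹
    rw [inv_inv] at hrfix
    have h3 : ω = r * (y⁻¹ * ω * y) := by
      calc ω = y⁻¹ * (y * ω * y⁻¹) * y := by group
        _ = (y⁻¹ * r * y) * (y⁻¹ * ω * y) := by rw [hy']; group
        _ = _ := by rw [hrfix]
    have hr2 : r * r = 1 := by
      rcases hr with h | h <;> rw [h]
      · rw [one_mul]
      · exact D.ss
    conv_rhs => rw [h3, ← mul_assoc, hr2, one_mul]
  obtain ⟨r₁, hr₁, a₁, b₁⟩ := key y₁ h₁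
  obtain ⟨r₂, hr₂, a₂, b₂⟩ := key y₂ h₂
  have hrP : ∀ {r : Y}, (r = 1 ∨ r = s) → r ∈ P ∧ r * r = 1 := by
    rintro r (rfl | rfl)
    · exact ⟨one_mem _, one_mul _⟩
    · exact ⟨D.sP, D.ss⟩
  calc y₁ * y₂ * y₁⁻¹ * y₂⁻¹ * ω * (y₁ * y₂ * y₁⁻¹ * y₂⁻¹)⁻¹
      = y₁ * (y₂ * (y₁⁻¹ * (y₂⁻¹ * ω * y₂) * y₁) * y₂⁻¹) * y₁⁻¹ := by group
    _ = y₁ * (y₂ * ((y₁⁻¹ * r₂ * y₁) * (y₁⁻¹ * ω * y₁)) * y₂⁻¹) * y₁⁻¹ := by rw [b₂]; group
    _ = y₁ * ((y₂ * r₂ * y₂⁻¹) * (y₂ * r₁ * y₂⁻¹) * (y₂ * ω * y₂⁻¹)) * y₁⁻¹ := by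
        have := D.fixS hr₂ y₁⁻¹
        rw [inv_inv] at this
        rw [this, b₁]; group
    _ = (y₁ * r₂ * y₁⁻¹) * (y₁ * r₁ * y₁⁻¹) * (y₁ * r₂ * y₁⁻¹) * (y₁ * ω * y₁⁻¹) := by
        rw [D.fixS hr₂, D.fixS hr₁, a₂]; group
    _ = r₂ * (r₁ * r₂) * (r₁ * ω) := by rw [D.fixS hr₂, D.fixS hr₁, a₁]; group
    _ = ω := by
        rw [D.ab r₁ (hrP hr₁).1 r₂ (hrP hr₂).1, ← mul_assoc r₂ r₂, (hrP hr₂).2, one_mul, ← mul_assoc, (hrP hr₁).2,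
          one_mul]

theorem conj_fix {c y : Y} (hy : act (π y) cV = cV) (hc : ∀ ω ∈ P, ω * ω = 1 → (ψ ω = 0 ∨ ψ ω = cV) → c * ω * c⁻¹ = ω)
    {ω : Y} (hω : ω ∈ P) (hω2 : ω * ω = 1) (hψ : ψ ω = 0 ∨ ψ ω = cV) :
    y * c * y⁻¹ * ω * (y * c * y⁻¹)⁻¹ = ω := by
  haveI := D.normal
  have hP' : y⁻¹ * ω * y ∈ P := by
    have := Normal.conj_mem D.normal _ hω y⁻¹
    rwa [inv_inv] at this
  have h2' : y⁻¹ * ω * y * (y⁻¹ * ω * y) = 1 := by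
    have := D.conj_sq y⁻¹ hω2
    rwa [inv_inv] at this
  have he := D.equiv y _ hP' h2'
  rw [show y * (y⁻¹ * ω * y) * y⁻¹ = ω by group] at he
  have hψ' : ψ (y⁻¹ * ω * y) = 0 ∨ ψ (y⁻¹ * ω * y) = cV := by
    have hz : act (π y) 0 = 0 := by simp [act]
    have hinj : ∀ v w, act (π y) v = act (π y) w → v = w := fun v w e => by
      have := congrArg (act (π y)⁻¹) e
      rwa [← act_mul, ← act_mul, inv_mul_cancel, show act 1 v = v by simp [act], show act 1 w = w by simp [act]] at this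
    rcases hψ with h | h
    · exact Or.inl (hinj _ _ (by rw [hz, ← he, h]))
    · exact Or.inr (hinj _ _ (by rw [hy, ← he, h]))
  calc y * c * y⁻¹ * ω * (y * c * y⁻¹)⁻¹ = y * (c * (y⁻¹ * ω * y) * c⁻¹) * y⁻¹ := by group
    _ = y * (y⁻¹ * ω * y) * y⁻¹ := by rw [hc _ hP' h2' hψ']
    _ = ω := by group

/-- a lift whose square lies in the centre -/
def Good (c : Y) : Prop := π c = tE ∧ c * c * (c * c) = 1 ∧
  ∀ ω ∈ P, ω * ω = 1 → (ψ ω = 0 ∨ ψ ω = cV) → c * ω * c⁻¹ = ω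

theorem contradiction : False := by
  classical
  haveI := D.normal
  obtain ⟨σ₀, hσ₀⟩ := D.surj sE
  obtain ⟨ul, hul⟩ := D.surj uE
  obtain ⟨k, hkc, hkt, -⟩ := centre_three
  obtain ⟨kl, hkl⟩ := D.surj k
  have hconj : ∀ c, π c = tE → π (kl * c * kl⁻¹) = sE := fun c h => by
    rw [map_mul, map_mul, map_inv, hkl, h, hkt]
  set C : Y → Y := fun σ => σ * ul * σ⁻¹ * ul⁻¹
  have hfix : ∀ σ, π σ = sE → ∀ ω ∈ P, ω * ω = 1 → (ψ ω = 0 ∨ ψ ω = cV) → C σ * ω * (C σ)⁻¹ = ω :=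
    fun σ hσ ω hω h2 hψ => D.centre_fix σ ul (by rw [hσ]; exact cyc_facts.1) (by rw [hul]; exact cyc_facts.2.2.1) hω h2 hψ
  have hdec : ∀ σ, π σ = sE → ∃ δ ω, (δ = 1 ∨ δ = z) ∧ ω ∈ P ∧ ω * ω = 1 ∧ C σ * C σ = δ * ω := fun σ hσ => by
    obtain ⟨hP', h8⟩ := D.round_one hσ hul
    obtain ⟨j, hj⟩ := D.sqP _ hP'
    refine D.split hP' ?_
    -- an element of the layer of order two
    rcases D.sq_sq hP' with h | h
    · exact h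
    · exfalso
      rw [hj] at h8 h
      have h4 : z * z * (z * z) = 1 := by rw [D.zz, D.ss]
      fin_cases j <;> simp only at h8 h
      · simp at h; exact D.s1 h.symm
      · rw [pow_one, D.zz] at h8; exact D.s1 h8
      · rw [pow_two, h4] at h; exact D.s1 h.symm
      · rw [show z ^ 3 * z ^ 3 = (z * z * (z * z)) * (z * z) by simp only [pow_succ, pow_zero, one_mul, mul_assoc], h4, one_mul, D.zz] at h8; exact D.s1 h8
  -- first approximation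
  set σ₁ := kl * C σ₀ * kl⁻¹
  have hσ₁ : π σ₁ = sE := hconj _ (D.comm_lift hσ₀ hul)
  have hsq : ∀ σ, π σ = sE → ∀ δ ω, (δ = 1 ∨ δ = z) → C σ * C σ = δ * ω →
      (kl * C σ * kl⁻¹) * (kl * C σ * kl⁻¹) = δ * (kl * ω * kl⁻¹) := by
    intro σ hσ δ ω hδ e
    have hδc : kl * δ * kl⁻¹ = δ := by
      rcases hδ with rfl | rfl
      · simp
      · exact D.zc kl
    rw [show kl * C σ * kl⁻¹ * (kl * C σ * kl⁻¹) = kl * (C σ * C σ) * kl⁻¹ by group, e,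
      show kl * (δ * ω) * kl⁻¹ = kl * δ * kl⁻¹ * (kl * ω * kl⁻¹) by group, hδc]
  obtain ⟨δ₀, ω₀, hδ₀, hω₀, hω₀2, hx₀⟩ := hdec σ₀ hσ₀
  obtain ⟨δ₁, ω₁, hδ₁, hω₁, hω₁2, hx₁⟩ := hdec σ₁ hσ₁
  obtain ⟨hψ₁, -⟩ := D.round_two hσ₁ hul hδ₀ (Normal.conj_mem D.normal _ hω₀ kl) (D.conj_sq kl hω₀2)
    (hsq σ₀ hσ₀ δ₀ ω₀ hδ₀ hx₀) hδ₁ hω₁ hω₁2 hx₁
  -- second approximation
  have step : ∀ σ, π σ = sE → ∀ δ ω, (δ = 1 ∨ δ = z) → ω ∈ P → ω * ω = 1 → (ψ ω = 0 ∨ ψ ω = cV) →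
      C σ * C σ = δ * ω →
      let σ' := kl * C σ * kl⁻¹
      π σ' = sE ∧ ∃ ω', ω' ∈ P ∧ ω' * ω' = 1 ∧ (ψ ω' = 0 ∨ ψ ω' = cV) ∧ C σ' * C σ' = ω' ∧
        (σ' * σ' * ul * (σ' * σ')⁻¹ * ul⁻¹ = 1 ∨ σ' * σ' * ul * (σ' * σ')⁻¹ * ul⁻¹ = s) := by
    intro σ hσ δ ω hδ hω hω2 hψ e σ'
    have hσ' : π σ' = sE := hconj _ (D.comm_lift hσ hul)
    refine ⟨hσ', ?_⟩
    have hψk : ψ (kl * ω * kl⁻¹) = ψ ω := by
      rw [D.equiv kl ω hω hω2, hkl]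
      rcases hψ with h | h <;> rw [h]
      · simp [act]
      · exact hkc
    obtain ⟨δ', ω', hδ', hω', hω'2, hx'⟩ := hdec σ' hσ'
    obtain ⟨hψ', heP, he2, hψe, h0⟩ := D.round_two hσ' hul hδ (Normal.conj_mem D.normal _ hω kl) (D.conj_sq kl hω2)
      (hsq σ hσ δ ω hδ e) hδ' hω' hω'2 hx'
    obtain ⟨he1, hflip⟩ := h0 (by
      rw [hψe, hψk]
      rcases hψ with h | h <;> rw [h]
      · simp [act]
      · rw [cyc_facts.2.2.1]; exact cyc_facts.2.2.2.2.2.2.2.1)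
    have hfx : σ' * ω' * σ'⁻¹ = ω' := D.conj_fix (by rw [hkl]; exact hkc) (hfix σ hσ) hω' hω'2 hψ'
    rw [hfx] at hflip
    have hδ1 : δ' = 1 := by
      rcases hδ' with h | h
      · exact h
      · exfalso
        rw [h] at hflip
        have : (z * z)⁻¹ = 1 := by rw [_root_.mul_inv_rev]; exact mul_eq_right.1 hflip.symm
        exact D.s1 (by rw [← D.zz]; exact inv_eq_one.1 this)
    exact ⟨ω', hω', hω'2, hψ', by rw [hx', hδ1, one_mul], he1⟩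
  obtain ⟨hσ₂, ω₂, hω₂, hω₂2, hψ₂, hx₂, -⟩ := step σ₁ hσ₁ δ₁ ω₁ hδ₁ hω₁ hω₁2 hψ₁ hx₁
  set σ₂ := kl * C σ₁ * kl⁻¹
  obtain ⟨hσ₃, ω₃, hω₃, hω₃2, hψ₃, hx₃, he₃⟩ :=
    step σ₂ hσ₂ 1 ω₂ (Or.inl rfl) hω₂ hω₂2 hψ₂ (by rw [hx₂, one_mul])
  set σ := kl * C σ₂ * kl⁻¹
  set c := C σ
  have hπc : π c = tE := D.comm_lift hσ₃ hul
  have hσσ : σ * σ = kl * ω₂ * kl⁻¹ := by
    rw [← one_mul (kl * ω₂ * kl⁻¹)]
    exact hsq σ₂ hσ₂ 1 ω₂ (Or.inl rfl) (by rw [hx₂, one_mul])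
  -- the kernel of the section
  let N : Subgroup Y :=
    { carrier := {ω | ω ∈ P ∧ ω * ω = 1 ∧ (ψ ω = 0 ∨ ψ ω = cV)}
      one_mem' := ⟨one_mem _, one_mul _, Or.inl D.ψ_one⟩
      mul_mem' := fun {a b} ha hb => ⟨mul_mem ha.1 hb.1, D.mul_sq ha.1 hb.1 ha.2.1 hb.2.1, by
        rw [D.mul a ha.1 b hb.1 ha.2.1 hb.2.1]
        rcases ha.2.2 with h | h <;> rcases hb.2.2 with h' | h' <;> rw [h, h']
        · exact Or.inl (add_zero _)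
        · exact Or.inr (zero_add _)
        · exact Or.inr (add_zero _)
        · exact Or.inl cyc_facts.2.2.2.2.2.2.2.1⟩
      inv_mem' := fun {a} ha => by rw [inv_eq_of_mul_eq_one_left ha.2.1]; exact ha }
  have hsN : ∀ r, (r = 1 ∨ r = s) → r ∈ N := by
    rintro r (rfl | rfl)
    · exact one_mem _
    · exact ⟨D.sP, D.ss, Or.inl D.ψ_s⟩
  let K : Set Y := {k | k ∈ P ∧ k ^ 4 = 1}
  have hK4 : ∀ k ∈ K, k * k * (k * k) = 1 := fun k hk => by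
    rw [show k * k * (k * k) = k ^ 4 by simp only [pow_succ, pow_zero, one_mul, mul_assoc]]; exact hk.2
  have hKsq : ∀ k ∈ K, k * k ∈ N := by
    intro k hk
    obtain ⟨δ, ω, hδ, hω, hω2, rfl⟩ := D.split hk.1 (hK4 k hk)
    have hδP : δ ∈ P := by
      rcases hδ with rfl | rfl
      exacts [one_mem _, D.zP]
    rw [show δ * ω * (δ * ω) = δ * (ω * δ) * ω by group, D.ab ω hω δ hδP,
      show δ * (δ * ω) * ω = δ * δ * (ω * ω) by group, hω2, mul_one]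
    refine hsN _ ?_
    rcases hδ with rfl | rfl
    · exact Or.inl (one_mul 1)
    · exact Or.inr D.zz
  have hmixed : ∀ g, (π g = tE ∨ π g = sE) → ∀ b ∈ K, g * b * g⁻¹ * b⁻¹ ∈ N ∧ b * g * b⁻¹ * g⁻¹ ∈ N := by
    intro g hg b hb
    obtain ⟨δ, ω, hδ, hω, hω2, rfl⟩ := D.split hb.1 (hK4 b hb)
    have hδc : g * δ * g⁻¹ = δ := by
      rcases hδ with rfl | rfl
      · simp
      · exact D.zc g
    have hδP : δ ∈ P := by
      rcases hδ with rfl | rfl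
      exacts [one_mem _, D.zP]
    have hP' : g * ω * g⁻¹ ∈ P := Normal.conj_mem D.normal _ hω g
    have h1 : g * (δ * ω) * g⁻¹ * (δ * ω)⁻¹ ∈ N := by
      rw [show g * (δ * ω) * g⁻¹ * (δ * ω)⁻¹ = (g * δ * g⁻¹) * (g * ω * g⁻¹ * ω⁻¹) * δ⁻¹ by group, hδc,
        inv_eq_of_mul_eq_one_left hω2, D.ab δ hδP _ (mul_mem hP' hω), mul_inv_cancel_right]
      refine ⟨mul_mem hP' hω, D.mul_sq hP' hω (D.conj_sq g hω2) hω2, ?_⟩
      rw [D.mul _ hP' _ hω (D.conj_sq g hω2) hω2, D.equiv g ω hω hω2]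
      rcases hg with e | e <;> rw [e]
      · exact cyc_facts.2.2.2.2.2.2.2.2.1 _
      · exact cyc_facts.2.2.2.2.2.2.2.2.2.1 _
    exact ⟨h1, by simpa [mul_assoc] using inv_mem h1⟩
  have hpair : σ * c * σ⁻¹ * c⁻¹ ∈ N ∧ c * σ * c⁻¹ * σ⁻¹ ∈ N := by
    have h1 : σ * c * σ⁻¹ * c⁻¹ ∈ N := by
      rw [show σ * c * σ⁻¹ = (σ * σ * ul * (σ * σ)⁻¹ * ul⁻¹) * c⁻¹ from D.rel hσ₃, mul_assoc, ← _root_.mul_inv_rev,
        hx₃]
      exact mul_mem (hsN _ he₃) (inv_mem ⟨hω₃, hω₃2, hψ₃⟩)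
    exact ⟨h1, by simpa [mul_assoc] using inv_mem h1⟩
  let gens : Set Y := K ∪ {c, σ}
  obtain ⟨hnorm, hsqU⟩ := sq_mem_of_gens (N := N) (gens := gens)
    (by
      rintro g (hg | rfl | rfl) n hn
      · exact D.ab g hg.1 n hn.1
      · exact mul_inv_eq_iff_eq_mul.1 (hfix σ hσ₃ n hn.1 hn.2.1 hn.2.2)
      · exact mul_inv_eq_iff_eq_mul.1 (D.conj_fix (by rw [hkl]; exact hkc) (hfix σ₂ hσ₂) hn.1 hn.2.1 hn.2.2))
    (by
      rintro g (hg | rfl | rfl)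
      · exact hKsq g hg
      · rw [hx₃]; exact ⟨hω₃, hω₃2, hψ₃⟩
      · rw [hσσ]
        refine ⟨Normal.conj_mem D.normal _ hω₂ kl, D.conj_sq kl hω₂2, ?_⟩
        rw [D.equiv kl ω₂ hω₂ hω₂2, hkl]
        rcases hψ₂ with h | h <;> rw [h]
        · left; simp [act]
        · right; exact hkc)
    (by
      rintro x (hx | rfl | rfl) r (hr | rfl | rfl)
      · rw [D.ab x hx.1 r hr.1, mul_inv_cancel_right, mul_inv_cancel]
        exact one_mem _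
      · exact (hmixed _ (Or.inl hπc) x hx).2
      · exact (hmixed _ (Or.inr hσ₃) x hx).2
      · exact (hmixed _ (Or.inl hπc) r hr).1
      · simp
      · exact hpair.2
      · exact (hmixed _ (Or.inr hσ₃) r hr).1
      · exact hpair.1
      · simp)
  have hb := sq_subgroup_bound' D.rank hnorm hsqU
  have hNc : Nat.card N ≤ 4 := by
    by_cases hex : ∃ n₁ : N, ψ (n₁ : Y) = cV
    · obtain ⟨n₁, hn₁⟩ := hex
      let m : N → Fin 2 × ({1, s} : Set Y) := fun n =>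
        if h : ψ (n : Y) = 0 then (0, ⟨n, D.kerψ _ n.2.1 n.2.2.1 h⟩)
        else (1, ⟨(n : Y) * n₁, D.kerψ _ (mul_mem n.2.1 n₁.2.1) (D.mul_sq n.2.1 n₁.2.1 n.2.2.1 n₁.2.2.1) (by
          rw [D.mul _ n.2.1 _ n₁.2.1 n.2.2.1 n₁.2.2.1, n.2.2.2.resolve_left h, hn₁]
          exact cyc_facts.2.2.2.2.2.2.2.1)⟩)
      have hm : Function.Injective m := by
        intro a b e
        simp only [m] at e
        split_ifs at e with ha hb hb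
        · exact Subtype.ext (congrArg (fun w : Fin 2 × ({1, s} : Set Y) => (w.2 : Y)) e)
        · exact absurd (congrArg Prod.fst e) (by simp)
        · exact absurd (congrArg Prod.fst e) (by simp)
        · exact Subtype.ext (mul_right_cancel (congrArg (fun w : Fin 2 × ({1, s} : Set Y) => (w.2 : Y)) e))
      have h := Nat.card_le_card_of_injective m hm
      rw [Nat.card_prod, Nat.card_fin, Nat.card_coe_set_eq] at h
      have h2 := Set.ncard_insert_le (1 : Y) {s}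
      rw [Set.ncard_singleton] at h2
      omega
    · push Not at hex
      let m : N → ({1, s} : Set Y) := fun n => ⟨n, D.kerψ _ n.2.1 n.2.2.1 (n.2.2.2.resolve_right (hex n))⟩
      have h := Nat.card_le_card_of_injective m fun a b e =>
        Subtype.ext (congrArg (fun w : ({1, s} : Set Y) => (w : Y)) e)
      rw [Nat.card_coe_set_eq] at h
      have h2 := Set.ncard_insert_le (1 : Y) {s}
      rw [Set.ncard_singleton] at h2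
      omega
  have hU : 128 ≤ Nat.card (closure gens) := by
    have hcm : c ∈ closure gens := Subgroup.subset_closure (Or.inr (Set.mem_insert _ _))
    have hσm : σ ∈ closure gens := Subgroup.subset_closure (Or.inr (Set.mem_insert_of_mem _ rfl))
    let m : K × (Fin 2 × Fin 2) → closure gens := fun w =>
      ⟨(w.1 : Y) * (c ^ (w.2.1 : ℕ) * σ ^ (w.2.2 : ℕ)),
        mul_mem (Subgroup.subset_closure (Or.inl w.1.2)) (mul_mem ((closure gens).pow_mem hcm _) ((closure gens).pow_mem hσm _))⟩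
    have hm : Function.Injective m := by
      rintro ⟨x, w⟩ ⟨x', w'⟩ heq
      have h1 := congrArg Subtype.val heq
      have h2 := congrArg π h1
      simp only [m, map_mul, map_pow, hπc, hσ₃] at h2
      rw [D.mem.1 x.2.1, D.mem.1 x'.2.1, one_mul, one_mul] at h2
      obtain rfl := cyc_facts.2.2.2.2.2.2.2.2.2.2 h2
      exact Prod.ext (Subtype.ext (mul_right_cancel h1)) rfl
    have h := Nat.card_le_card_of_injective m hm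
    rw [Nat.card_prod, Nat.card_prod, Nat.card_fin, Nat.card_coe_set_eq] at h
    have := D.card
    show 128 ≤ Nat.card (closure gens)
    have hK : (32 : ℕ) ≤ K.ncard := D.card
    omega
  omega

end CyclicData

end Cfsg.Lib.LThreeRadical
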