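import Cfsg.Agent.SolvStruct.LThreeRadical.Layers

/-!
Sections generated by commuting involutions modulo a subgroup.
-/

set_option autoImplicit false
set_option linter.unusedSectionVars false
set_option linter.style.haveILetI false

namespace Cfsg.Lib.LThreeRadical

open Subgroup

theorem sq_mem_of_gens {Y : Type*} [Group Y] {N : Subgroup Y} {gens : Set Y}
    (hcent : ∀ g ∈ gens, ∀ n ∈ N, g * n = n * g) (hsq : ∀ g ∈ gens, g * g ∈ N)
    (hgg : ∀ s ∈ gens, ∀ r ∈ gens, s * r * s⁻¹ * r⁻¹ ∈ N) :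
    closure gens ≤ normalizer (N : Set Y) ∧ ∀ u ∈ closure gens, u * u ∈ N := by
  set U := closure gens
  have hWU : ∀ w ∈ N, ∀ u ∈ U, u * w = w * u := by
    intro w hw u hu
    induction hu using closure_induction with
    | mem s hs => exact hcent s hs w hw
    | one => simp
    | mul a b _ _ ha hb => exact (Commute.mul_left (ha : Commute a _) hb).eq
    | inv a _ ha => exact (Commute.inv_left (ha : Commute a _)).eq
  have hUg : ∀ u ∈ U, ∀ r ∈ gens, u * r * u⁻¹ * r⁻¹ ∈ N := by
    intro u hu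
    induction hu using closure_induction with
    | mem s hs => exact hgg s hs
    | one => intro r _; simp
    | mul a b ha hb iha ihb =>
      intro r hr'
      have e : a * b * r * (a * b)⁻¹ * r⁻¹ = a * (b * r * b⁻¹ * r⁻¹) * a⁻¹ * (a * r * a⁻¹ * r⁻¹) := by group
      rw [e, hWU _ (ihb r hr') a ha, mul_inv_cancel_right]
      exact mul_mem (ihb r hr') (iha r hr')
    | inv a ha iha =>
      intro r hr'
      have e : a⁻¹ * r * a⁻¹⁻¹ * r⁻¹ = a⁻¹ * (a * r * a⁻¹ * r⁻¹)⁻¹ * a := by group
      rw [e, hWU _ (inv_mem (iha r hr')) _ (inv_mem ha), inv_mul_cancel_right]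
      exact inv_mem (iha r hr')
  have hUU : ∀ u ∈ U, ∀ w ∈ U, u * w * u⁻¹ * w⁻¹ ∈ N := by
    intro u hu w hw
    induction hw using closure_induction with
    | mem s hs => exact hUg u hu s hs
    | one => simp
    | mul a b ha hb iha ihb =>
      have e : u * (a * b) * u⁻¹ * (a * b)⁻¹ = u * a * u⁻¹ * a⁻¹ * (a * (u * b * u⁻¹ * b⁻¹) * a⁻¹) := by group
      rw [e, hWU _ ihb a ha, mul_inv_cancel_right]
      exact mul_mem iha ihb
    | inv a ha iha =>
      have e : u * a⁻¹ * u⁻¹ * a⁻¹⁻¹ = a⁻¹ * (u * a * u⁻¹ * a⁻¹)⁻¹ * a := by group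
      rw [e, hWU _ (inv_mem iha) _ (inv_mem ha), inv_mul_cancel_right]
      exact inv_mem iha
  refine ⟨fun u hu => ?_, fun u hu => ?_⟩
  · rw [mem_normalizer_iff]
    intro w
    constructor
    · intro hw; rw [hWU w hw u hu, mul_inv_cancel_right]; exact hw
    · intro hw
      have h := hWU _ hw u⁻¹ (inv_mem hu)
      have e : u⁻¹ * (u * w * u⁻¹) * u = w := by group
      rw [h, inv_mul_cancel_right] at e
      rwa [← e]
  · induction hu using closure_induction with
    | mem s hs => exact hsq s hs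
    | one => simp
    | mul a b ha hb iha ihb =>
      have e : a * b * (a * b) = a * a * (a⁻¹ * b * a⁻¹⁻¹ * b⁻¹) * (b * b) := by group
      rw [e]
      exact mul_mem (mul_mem iha (hUU _ (inv_mem ha) b hb)) ihb
    | inv a ha iha => rw [← mul_inv_rev]; exact inv_mem iha

theorem sq_subgroup_bound' {Y : Type*} [Group Y] [Finite Y] (hr : Cfsg.SectionalPRankLE 2 4 Y) {N U : Subgroup Y}
    (hn : U ≤ normalizer (N : Set Y)) (hsq : ∀ u ∈ U, u * u ∈ N) : Nat.card U ≤ Nat.card N * 16 := by
  have h := Cfsg.Lib.SectionalRank.sectional_bound hr hn hsq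
  change N.relIndex U ≤ 16 at h
  rw [← (N.subgroupOf U).card_mul_index]
  refine Nat.mul_le_mul ?_ h
  exact Nat.card_le_card_of_injective (fun x : N.subgroupOf U => (⟨((x : U) : Y), mem_subgroupOf.1 x.2⟩ : N))
    fun a b e => Subtype.ext (Subtype.ext (congrArg (fun x : N => (x : Y)) e))

theorem sectional_sub {G : Type*} [Group G] {k : ℕ} (hr : Cfsg.SectionalPRankLE 2 k G) (H : Subgroup G) :
    Cfsg.SectionalPRankLE 2 k H := by
  intro U N hN A hA hexp
  let e : U ≃* U.map H.subtype := U.equivMapOfInjective H.subtype H.subtype_injective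
  set N' := N.map e.toMonoidHom
  haveI : N'.Normal := Normal.map hN _ e.surjective
  let q : U ⧸ N ≃* U.map H.subtype ⧸ N' := QuotientGroup.congr N N' e rfl
  have h := hr (U.map H.subtype) N' (A.map q.toMonoidHom) (Subgroup.map_isMulCommutative A _) (by
    rintro _ ⟨a, ha, rfl⟩
    rw [← map_pow, hexp a ha, map_one])
  rwa [card_map_of_injective (f := q.toMonoidHom) q.injective] at h

end Cfsg.Lib.LThreeRadical
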