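import Mathlib

/-!
The linear group of degree three over the field with two elements, as matrices.
-/

set_option autoImplicit false
set_option maxRecDepth 100000
set_option maxHeartbeats 1000000
set_option synthInstance.maxHeartbeats 400000
set_option synthInstance.maxSize 2000

namespace Cfsg.Lib.LThreeRadical

open Matrix

abbrev L3 := Matrix.SpecialLinearGroup (Fin 3) (ZMod 2)

abbrev Vec2 := Fin 3 → ZMod 2

/-- the action on vectors -/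
abbrev act (σ : L3) (v : Vec2) : Vec2 := (σ : Matrix (Fin 3) (Fin 3) (ZMod 2)) *ᵥ v

/-- an element of order seven -/
def fE : L3 := ⟨!![0, 0, 1; 1, 0, 1; 0, 1, 0], by decide⟩

/-- an element of order three normalising it -/
def gE : L3 := ⟨!![1, 0, 0; 0, 0, 1; 0, 1, 1], by decide⟩

/-- an involution -/
def sE : L3 := ⟨!![1, 0, 0; 0, 0, 1; 0, 1, 0], by decide⟩

/-- an element of order four inverted by it -/
def uE : L3 := fE * sE * fE * fE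

/-- its square -/
def tE : L3 := uE * uE

/-- the common centre -/
def cV : Vec2 := ![0, 1, 1]

theorem fE_pow : fE ^ 7 = 1 ∧ fE ≠ 1 := by decide +kernel

theorem gE_facts : gE ^ 3 = 1 ∧ gE ≠ 1 ∧ gE * fE * gE⁻¹ = fE ^ 2 ∧ act gE ![1, 0, 0] = ![1, 0, 0] := by decide +kernel

theorem rel_facts : sE * sE = 1 ∧ sE ≠ 1 ∧ sE * uE * sE⁻¹ = uE⁻¹ ∧ uE ^ 4 = 1 ∧ tE * tE = 1 ∧ tE ≠ 1 ∧
    (sE * fE) ^ 3 = 1 ∧ (sE * gE) ^ 2 = 1 ∧ sE * tE = tE * sE ∧ sE ≠ tE := by decide +kernel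

theorem involution_conj : ∀ σ : L3, σ * σ = 1 → σ ≠ 1 → ∃ h : L3, h * tE * h⁻¹ = σ := by decide +kernel

theorem involution_sqrt : ∀ σ : L3, σ * σ = 1 → σ ≠ 1 → ∃ u : L3, u * u = σ := by decide +kernel

theorem kernel_step : ∀ σ : L3, σ ≠ 1 → ∃ a : L3,
    (σ * (a * σ⁻¹ * a⁻¹)) ^ 21 = 1 ∧ σ * (a * σ⁻¹ * a⁻¹) ≠ 1 := by
  decide +kernel

theorem kernel_step_two : ∀ σ : L3, σ ^ 21 = 1 → σ ≠ 1 → σ ^ 7 = 1 ∨ ∃ a : L3,
    (σ * (a * σ * a⁻¹)) ^ 7 = 1 ∧ σ * (a * σ * a⁻¹) ≠ 1 := by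
  decide +kernel

theorem seven_conj : ∀ σ : L3, σ ^ 7 = 1 → σ ≠ 1 → ∃ h : L3, h * σ * h⁻¹ = fE ∨ h * σ⁻¹ * h⁻¹ = fE := by
  decide +kernel

theorem seven_gen : ∀ σ : L3, ∃ a : L3, a ^ 7 = 1 ∧ (a⁻¹ * σ) ^ 7 = 1 := by decide +kernel

theorem card_L3 : Nat.card L3 = 168 := by
  rw [Nat.card_eq_fintype_card]
  decide +kernel

theorem normal_cases (N : Subgroup L3) [N.Normal] : N = ⊥ ∨ N = ⊤ := by
  by_cases h : N = ⊥
  · exact Or.inl h
  right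
  obtain ⟨⟨σ, hσ⟩, hσ1⟩ := Subgroup.ne_bot_iff_exists_ne_one.1 h
  have hσ1' : σ ≠ 1 := fun e => hσ1 (Subtype.ext e)
  obtain ⟨x, hx, hx7, hx1⟩ : ∃ x ∈ N, x ^ 7 = 1 ∧ x ≠ 1 := by
    obtain ⟨a, h1, h2⟩ := kernel_step σ hσ1'
    have hm := mul_mem hσ (Subgroup.Normal.conj_mem inferInstance _ (inv_mem hσ) a)
    rcases kernel_step_two _ h1 h2 with h | ⟨b, h3, h4⟩
    · exact ⟨_, hm, h, h2⟩
    · exact ⟨_, mul_mem hm (Subgroup.Normal.conj_mem inferInstance _ hm b), h3, h4⟩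
  have hf : fE ∈ N := by
    obtain ⟨k, hk | hk⟩ := seven_conj x hx7 hx1 <;> rw [← hk]
    · exact Subgroup.Normal.conj_mem inferInstance x hx k
    · exact Subgroup.Normal.conj_mem inferInstance _ (inv_mem hx) k
  have hall : ∀ y : L3, y ^ 7 = 1 → y ∈ N := by
    intro y hy
    by_cases hy1 : y = 1
    · rw [hy1]; exact one_mem _
    obtain ⟨k, hk | hk⟩ := seven_conj y hy hy1
    · have e : y = k⁻¹ * fE * k⁻¹⁻¹ := by rw [← hk]; group
      rw [e]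
      exact Subgroup.Normal.conj_mem inferInstance _ hf _
    · have e : y = k⁻¹ * fE⁻¹ * k⁻¹⁻¹ := by rw [← hk]; group
      rw [e]
      exact Subgroup.Normal.conj_mem inferInstance _ (inv_mem hf) _
  rw [eq_top_iff]
  intro y _
  obtain ⟨a, ha, hb⟩ := seven_gen y
  have := mul_mem (hall a ha) (hall _ hb)
  rwa [mul_inv_cancel_left] at this

theorem hom_dichotomy {W : Type*} [Group W] (F : L3 →* W) : F = 1 ∨ Function.Injective F := by
  rcases normal_cases F.ker with h | h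
  · exact Or.inr ((MonoidHom.ker_eq_bot_iff _).1 h)
  · exact Or.inl (MonoidHom.ext fun x => MonoidHom.mem_ker.1 (h ▸ Subgroup.mem_top x))

/-! facts on vectors -/

theorem vec_cases : ∀ v : Vec2, v = ![0, 0, 0] ∨ v = ![1, 0, 0] ∨ v = ![0, 1, 0] ∨ v = ![0, 0, 1] ∨
    v = ![1, 1, 0] ∨ v = ![1, 0, 1] ∨ v = ![0, 1, 1] ∨ v = ![1, 1, 1] := by decide +kernel

theorem vec_trans : ∀ v w : Vec2, v ≠ 0 → w ≠ 0 → ∃ σ : L3, act σ v = w := by decide +kernel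

theorem vec_fix_pair : ∀ v w : Vec2, ∃ σ : L3, σ * σ = 1 ∧ σ ≠ 1 ∧ act σ v = v ∧ act σ w = w := by decide +kernel

theorem vec_trans_pair : ∀ v w : Vec2, v ≠ 0 → w ≠ 0 → v ≠ w →
    ∃ σ : L3, act σ ![1, 0, 0] = v ∧ act σ ![0, 1, 0] = w := by decide +kernel

theorem vec_move : ∀ v : Vec2, v ≠ 0 → ∃ σ : L3, act σ v ≠ v := by decide +kernel

theorem vec_fix_card : ∀ σ : L3, σ * σ = 1 → σ ≠ 1 → (Finset.univ.filter fun v : Vec2 => act σ v = v).card = 4 := by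
  decide +kernel

theorem vec_fix_four : ∀ σ : L3, σ * σ ≠ 1 → σ ^ 4 = 1 → ∀ v : Vec2, act σ v = v → ∃ w : Vec2, v = w + act (σ * σ) w := by
  decide +kernel

theorem vec_seven : ∀ σ : L3, σ ^ 7 = 1 → σ ≠ 1 → ∀ v : Vec2, act σ v = v → v = 0 := by decide +kernel

theorem vec_form : ∀ σ : L3, σ ^ 7 = 1 → σ ≠ 1 → ∀ a b c : ZMod 2,
    (∀ v w : Vec2, a * (act σ v 0 * act σ w 1 + act σ v 1 * act σ w 0) + b * (act σ v 0 * act σ w 2 + act σ v 2 * act σ w 0) +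
        c * (act σ v 1 * act σ w 2 + act σ v 2 * act σ w 1) =
      a * (v 0 * w 1 + v 1 * w 0) + b * (v 0 * w 2 + v 2 * w 0) + c * (v 1 * w 2 + v 2 * w 1)) →
    a = 0 ∧ b = 0 ∧ c = 0 := by decide +kernel

theorem centre_facts : (∀ v : Vec2, act tE v = v → act sE v = v → v = 0 ∨ v = cV) ∧
    (∀ v : Vec2, act tE v + v = 0 ∨ act tE v + v = cV) ∧ (∀ v : Vec2, act sE v + v = 0 ∨ act sE v + v = cV) ∧
    (∀ v : Vec2, act tE v = v → act sE v + v = 0 ∨ act tE v = v ∧ v ≠ cV) ∧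
    act uE cV = cV ∧ act sE cV = cV ∧ act tE cV = cV ∧ cV ≠ 0 ∧
    (∀ v : Vec2, (act uE v + v) + act tE (act uE v + v) = 0) ∧
    (∀ v : Vec2, act uE v = v → v = 0 ∨ v = cV) := by decide +kernel

theorem centre_three : ∃ k : L3, act k cV = cV ∧ k * tE * k⁻¹ = sE ∧ k * sE * k⁻¹ = tE * sE := by decide +kernel

end Cfsg.Lib.LThreeRadical
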