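import Cfsg.Agent.SolvStruct.LThreeRadical.Group
import Cfsg.Agent.SolvStruct.AltFiveRadical.Quadratic

/-!
Faithful actions of the linear group of degree three on elementary abelian groups of order at most sixteen.
-/

set_option autoImplicit false
set_option linter.unusedSectionVars false
set_option linter.style.haveILetI false
set_option maxRecDepth 100000
set_option maxHeartbeats 1000000

namespace Cfsg.Lib.LThreeRadical

open Subgroup Matrix
open Cfsg.Lib.SymSixSection (fix inv_self' eq_of_mul_one)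

theorem act_mul (σ τ : L3) (v : Vec2) : act (σ * τ) v = act σ (act τ v) := by
  simp [act, Matrix.mulVec_mulVec]

theorem vec_orbit : ∀ σ : L3, σ ^ 7 = 1 → σ ≠ 1 → ∀ v : Vec2, v ≠ 0 →
    (v + act σ v = act (σ ^ 3) v ∨ v + act σ v = act (σ ^ 5) v) ∧ ∀ w : Vec2, w ≠ 0 → ∃ j : Fin 7, act (σ ^ (j : ℕ)) v = w := by
  decide +kernel

section eight

variable {W : Type*} [CommGroup W] [Finite W]

/-- a power with exponent a bit -/
def bp (a : W) (x : ZMod 2) : W := if x = 0 then 1 else a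

theorem bit_two : ∀ x : ZMod 2, x = 0 ∨ x = 1 := by decide

theorem bit_one_add : (1 : ZMod 2) + 1 = 0 := by decide

theorem bp_add (hexp : ∀ a : W, a * a = 1) (a : W) : ∀ x y : ZMod 2, bp a (x + y) = bp a x * bp a y := by
  intro x y
  rcases bit_two x with rfl | rfl <;> rcases bit_two y with rfl | rfl <;> simp [bp, hexp, bit_one_add]

/-- coordinates in three generators -/
theorem exists_coords (hexp : ∀ a : W, a * a = 1) (h8 : Nat.card W = 8) :
    ∃ i : W ≃ Vec2, ∀ a b, i (a * b) = i a + i b := by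
  classical
  haveI := Fintype.ofFinite W
  have hsmall : ∀ s : Finset W, s.card < 8 → ∃ x, x ∉ s := fun s hs => by
    by_contra h
    push Not at h
    have := Finset.eq_univ_iff_forall.2 h
    rw [this, Finset.card_univ, ← Nat.card_eq_fintype_card, h8] at hs
    omega
  obtain ⟨a, ha⟩ := hsmall {1} (by simp)
  obtain ⟨b, hb⟩ := hsmall {1, a} (lt_of_le_of_lt Finset.card_le_two (by norm_num))
  obtain ⟨c, hc⟩ := hsmall {1, a, b, a * b} (lt_of_le_of_lt Finset.card_le_four (by norm_num))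
  simp only [Finset.mem_insert, Finset.mem_singleton, not_or] at ha hb hc
  obtain ⟨c1, ca, cb, cab⟩ := hc
  let m : Vec2 → W := fun x => bp a (x 0) * bp b (x 1) * bp c (x 2)
  have hm : ∀ x y, m (x + y) = m x * m y := fun x y => by
    simp only [m, Pi.add_apply, bp_add hexp]
    ac_rfl
  have hm1 : ∀ x, m x = 1 → x = 0 := by
    intro x hx
    rcases vec_cases x with rfl | rfl | rfl | rfl | rfl | rfl | rfl | rfl <;> simp [m, bp] at hx ⊢
    · exact ha hx
    · exact hb.1 hx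
    · exact c1 hx
    · exact hb.2 (eq_of_mul_one hexp hx)
    · exact ca (eq_of_mul_one hexp hx)
    · exact cb (eq_of_mul_one hexp hx)
    · exact cab (eq_of_mul_one hexp hx)
  have hinj : Function.Injective m := fun x y e => by
    have h : m (x + y) = 1 := by rw [hm, e, hexp]
    have h2 := hm1 _ h
    funext k
    exact CharTwo.add_eq_zero.1 (congrFun h2 k)
  have hbij := (Nat.bijective_iff_injective_and_card m).2 ⟨hinj, by rw [h8, Nat.card_eq_fintype_card]; rfl⟩
  refine ⟨(Equiv.ofBijective m hbij).symm, fun x y => hbij.1 ?_⟩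
  show m ((Equiv.ofBijective m hbij).symm (x * y)) = m _
  rw [hm]
  have e : ∀ z, m ((Equiv.ofBijective m hbij).symm z) = z := (Equiv.ofBijective m hbij).apply_symm_apply
  rw [e, e, e]

theorem exists_toSL (i : W ≃ Vec2) (hi : ∀ a b, i (a * b) = i a + i b) :
    ∃ F : MulAut W →* L3, Function.Injective F ∧ ∀ φ w, i (φ w) = act (F φ) (i w) := by
  classical
  have hsymm : ∀ x y, i.symm (x + y) = i.symm x * i.symm y := fun x y =>
    i.injective (by rw [hi, i.apply_symm_apply, i.apply_symm_apply, i.apply_symm_apply])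
  let g : MulAut W → Vec2 →+ Vec2 := fun φ =>
    AddMonoidHom.mk' (fun x => i (φ (i.symm x))) fun x y => by rw [hsymm, map_mul, hi]
  let M : MulAut W → Matrix (Fin 3) (Fin 3) (ZMod 2) := fun φ => LinearMap.toMatrix' ((g φ).toZModLinearMap 2)
  have hM : ∀ φ w, M φ *ᵥ i w = i (φ w) := fun φ w => by
    rw [LinearMap.toMatrix'_mulVec]
    show i (φ (i.symm (i w))) = _
    rw [i.symm_apply_apply]
  have hext : ∀ A B : Matrix (Fin 3) (Fin 3) (ZMod 2), (∀ w, A *ᵥ i w = B *ᵥ i w) → A = B := by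
    intro A B h
    refine Matrix.ext_iff_mulVec.2 fun x => ?_
    rw [← i.apply_symm_apply x]
    exact h _
  have hmul : ∀ φ ψ, M (φ * ψ) = M φ * M ψ := fun φ ψ => hext _ _ fun w => by
    rw [← Matrix.mulVec_mulVec, hM, hM, hM, MulAut.mul_apply]
  have hone : M 1 = 1 := hext _ _ fun w => by rw [hM, one_mulVec, MulAut.one_apply]
  have hdet : ∀ φ, (M φ).det = 1 := by
    intro φ
    have h : (M φ).det * (M φ⁻¹).det = 1 := by rw [← det_mul, ← hmul, mul_inv_cancel, hone, det_one]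
    exact (by decide : ∀ x y : ZMod 2, x * y = 1 → x = 1) _ _ h
  refine ⟨MonoidHom.mk' (fun φ => (⟨M φ, hdet φ⟩ : L3)) fun φ ψ => Subtype.ext (hmul φ ψ), ?_, fun φ w => (hM φ w).symm⟩
  intro φ ψ e
  refine MulEquiv.ext fun w => i.injective ?_
  rw [← hM φ w, ← hM ψ w]
  exact congrArg (fun A : L3 => (A : Matrix (Fin 3) (Fin 3) (ZMod 2)) *ᵥ i w) e

/-- the natural parametrisation -/
theorem exists_natural (hexp : ∀ a : W, a * a = 1) (h8 : Nat.card W = 8) {ρ : L3 →* MulAut W}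
    (hρ : Function.Injective ρ) :
    ∃ (i : W ≃ Vec2) (β : L3 ≃* L3), (∀ a b, i (a * b) = i a + i b) ∧ ∀ σ w, i (ρ σ w) = act (β σ) (i w) := by
  obtain ⟨i, hi⟩ := exists_coords hexp h8
  obtain ⟨F, hF, hFi⟩ := exists_toSL i hi
  exact ⟨i, MulEquiv.ofBijective (F.comp ρ)
    (Finite.injective_iff_bijective.1 (hF.comp hρ)), hi, fun σ w => hFi _ w⟩

variable (hexp : ∀ a : W, a * a = 1) (h8 : Nat.card W = 8) {ρ : L3 →* MulAut W} (hρ : Function.Injective ρ)
include hexp h8 hρ

theorem map_zero' {i : W ≃ Vec2} (hi : ∀ a b, i (a * b) = i a + i b) : i 1 = 0 := by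
  have := hi 1 1
  rw [mul_one] at this
  exact left_eq_add.1 this

theorem nat_seven {σ : L3} (h7 : σ ^ 7 = 1) (h1 : σ ≠ 1) {w : W} (hw : ρ σ w = w) : w = 1 := by
  obtain ⟨i, β, hi, hβ⟩ := exists_natural hexp h8 hρ
  refine i.injective ?_
  rw [map_zero' hexp h8 hρ hi]
  refine vec_seven (β σ) (by rw [← map_pow, h7, map_one]) ((map_ne_one_iff β β.injective).2 h1) _ ?_
  rw [← hβ, hw]

theorem nat_fix_inv {σ : L3} (h2 : σ * σ = 1) (h1 : σ ≠ 1) : Nat.card (fix (ρ σ)) = 4 := by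
  classical
  obtain ⟨i, β, hi, hβ⟩ := exists_natural hexp h8 hρ
  rw [← vec_fix_card (β σ) (by rw [← map_mul, h2, map_one]) ((map_ne_one_iff β β.injective).2 h1),
    ← Fintype.card_subtype, ← Nat.card_eq_fintype_card]
  refine Nat.card_congr (i.subtypeEquiv fun w => ?_)
  show ρ σ w = w ↔ _
  rw [← hβ, i.injective.eq_iff]

theorem nat_trans {v w : W} (hv : v ≠ 1) (hw : w ≠ 1) : ∃ σ : L3, ρ σ v = w := by
  obtain ⟨i, β, hi, hβ⟩ := exists_natural hexp h8 hρ
  have h0 := map_zero' hexp h8 hρ hi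
  obtain ⟨σ, hσ⟩ := vec_trans (i v) (i w) (fun e => hv (i.injective (e.trans h0.symm)))
    (fun e => hw (i.injective (e.trans h0.symm)))
  exact ⟨β.symm σ, i.injective (by rw [hβ, β.apply_symm_apply, hσ])⟩

theorem nat_fix_pair (v w : W) : ∃ σ : L3, σ * σ = 1 ∧ σ ≠ 1 ∧ ρ σ v = v ∧ ρ σ w = w := by
  obtain ⟨i, β, hi, hβ⟩ := exists_natural hexp h8 hρ
  obtain ⟨σ, h2, h1, hv, hw⟩ := vec_fix_pair (i v) (i w)
  exact ⟨β.symm σ, by rw [← map_mul, h2, map_one], (map_ne_one_iff β.symm β.symm.injective).2 h1,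
    i.injective (by rw [hβ, β.apply_symm_apply, hv]), i.injective (by rw [hβ, β.apply_symm_apply, hw])⟩

theorem nat_trans_pair {x y v w : W} (hx : x ≠ 1) (hy : y ≠ 1) (hxy : x ≠ y) (hv : v ≠ 1) (hw : w ≠ 1) (hvw : v ≠ w) :
    ∃ σ : L3, ρ σ x = v ∧ ρ σ y = w := by
  obtain ⟨i, β, hi, hβ⟩ := exists_natural hexp h8 hρ
  have h0 := map_zero' hexp h8 hρ hi
  have hne : ∀ {a : W}, a ≠ 1 → i a ≠ 0 := fun h e => h (i.injective (e.trans h0.symm))
  obtain ⟨σ, h1, h2⟩ := vec_trans_pair _ _ (hne hx) (hne hy) (i.injective.ne hxy)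
  obtain ⟨τ, h3, h4⟩ := vec_trans_pair _ _ (hne hv) (hne hw) (i.injective.ne hvw)
  refine ⟨β.symm (τ * σ⁻¹), i.injective ?_, i.injective ?_⟩ <;> rw [hβ, β.apply_symm_apply]
  · rw [← h1, ← h3, ← act_mul, inv_mul_cancel_right]
  · rw [← h2, ← h4, ← act_mul, inv_mul_cancel_right]

theorem nat_fix_four {σ : L3} (h2 : σ * σ ≠ 1) (h4 : σ ^ 4 = 1) {v : W} (hv : ρ σ v = v) :
    ∃ w : W, v = w * ρ (σ * σ) w := by
  obtain ⟨i, β, hi, hβ⟩ := exists_natural hexp h8 hρ
  obtain ⟨w, hw⟩ := vec_fix_four (β σ) (by rw [← map_mul]; exact (map_ne_one_iff β β.injective).2 h2)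
    (by rw [← map_pow, h4, map_one]) (i v) (by rw [← hβ, hv])
  refine ⟨i.symm w, i.injective ?_⟩
  rw [hi, hβ, i.apply_symm_apply, map_mul]
  exact hw

end eight

/-- forms invariant under an element of order seven vanish -/
theorem form_zero {W Z : Type*} [CommGroup W] [Finite W] [CommGroup Z] (hexp : ∀ a : W, a * a = 1)
    (h8 : Nat.card W = 8) {φ : MulAut W} (h7 : φ ^ 7 = 1) (h1 : φ ≠ 1) (b : W → W → Z)
    (hZ : ∀ z : Z, z * z = 1) (hl : ∀ x y z, b (x * y) z = b x z * b y z) (hs : ∀ x y, b x y = b y x)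
    (hd : ∀ x, b x x = 1) (hinv : ∀ x y, b (φ x) (φ y) = b x y) (x y : W) : b x y = 1 := by
  obtain ⟨i, hi⟩ := exists_coords hexp h8
  obtain ⟨F, hF, hFi⟩ := exists_toSL i hi
  have h0 : i 1 = 0 := by
    have := hi 1 1
    rw [mul_one] at this
    exact left_eq_add.1 this
  have hone : ∀ y, b 1 y = 1 := fun y => by
    have := hl 1 1 y
    rw [mul_one] at this
    exact left_eq_mul.1 this
  have hF7 : F φ ^ 7 = 1 := by rw [← map_pow, h7, map_one]
  have hF1 : F φ ≠ 1 := (map_ne_one_iff F hF).2 h1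
  have hpow : ∀ (n : ℕ) (x y : W), b ((φ ^ n) x) ((φ ^ n) y) = b x y := by
    intro n
    induction n with
    | zero => intro x y; rw [pow_zero]; rfl
    | succ n ih => intro x y; rw [pow_succ', MulAut.mul_apply, MulAut.mul_apply, hinv, ih]
  by_cases hx : x = 1
  · rw [hx, hone]
  by_cases hy : y = 1
  · rw [hy, hs, hone]
  obtain ⟨hrel, horb⟩ := vec_orbit (F φ) hF7 hF1 (i x) fun e => hx (i.injective (e.trans h0.symm))
  have hpi : ∀ n : ℕ, i ((φ ^ n) x) = act (F φ ^ n) (i x) := fun n => by rw [hFi, map_pow]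
  obtain ⟨j, hj⟩ := horb (i y) fun e => hy (i.injective (e.trans h0.symm))
  have hy' : y = (φ ^ (j : ℕ)) x := i.injective (by rw [hpi, hj])
  set c : ℕ → Z := fun n => b x ((φ ^ n) x)
  have hc0 : c 0 = 1 := by simp only [c, pow_zero]; exact hd x
  have hshift : ∀ n m : ℕ, m + n = 7 → c n = c m := fun n m h => by
    show b x ((φ ^ n) x) = b x ((φ ^ m) x)
    rw [← hpow m x ((φ ^ n) x), ← MulAut.mul_apply, ← pow_add, h, h7, MulAut.one_apply, hs]
  have hc61 : c 6 = c 1 := hshift 6 1 rfl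
  have hc52 : c 5 = c 2 := hshift 5 2 rfl
  have hc43 : c 4 = c 3 := hshift 4 3 rfl
  have hb1 : ∀ k : ℕ, x * φ x = (φ ^ k) x → c k = c 1 ∧ ∀ l, l + 1 = k → c l = c 1 := by
    intro k hk
    constructor
    · show b x ((φ ^ k) x) = b x ((φ ^ 1) x)
      rw [← hk, hs, hl, hd, one_mul, hs, pow_one]
    · intro l hl'
      show b x ((φ ^ l) x) = b x ((φ ^ 1) x)
      rw [← hinv x ((φ ^ l) x), ← MulAut.mul_apply, ← pow_succ', hl', ← hk, hs, hl, hd, mul_one, pow_one]
  obtain ⟨hc2, hc3⟩ : c 2 = c 1 ∧ c 3 = c 1 := by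
    rcases hrel with e | e
    · have h := hb1 3 (i.injective (by rw [hi, hFi, hpi]; exact e))
      exact ⟨h.2 2 rfl, h.1⟩
    · have h := hb1 5 (i.injective (by rw [hi, hFi, hpi]; exact e))
      exact ⟨hc52 ▸ h.1, hc43 ▸ h.2 4 rfl⟩
  have hall : ∀ n : ℕ, 1 ≤ n → n ≤ 6 → c n = c 1 := by
    intro n h1 h6
    interval_cases n
    · rfl
    · exact hc2
    · exact hc3
    · rw [hc43, hc3]
    · rw [hc52, hc2]
    · exact hc61
  have hc1 : c 1 = 1 := by
    obtain ⟨k, hk, hk'⟩ : ∃ k, x * φ x = (φ ^ k) x ∧ 2 ≤ k ∧ k ≤ 5 := by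
      rcases hrel with e | e
      · exact ⟨3, i.injective (by rw [hi, hFi, hpi]; exact e), by norm_num, by norm_num⟩
      · exact ⟨5, i.injective (by rw [hi, hFi, hpi]; exact e), by norm_num, by norm_num⟩
    -- the two other entries of one line
    have h2 : b x (φ x * (φ ^ 2) x) = c 1 * c 2 := by rw [hs, hl, hs _ x, hs _ x]; simp only [c, pow_one]
    have h3 : φ x * (φ ^ 2) x = (φ ^ (k + 1)) x := by
      rw [pow_succ' φ k, MulAut.mul_apply, ← hk, map_mul, pow_two, MulAut.mul_apply]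
    rw [h3] at h2
    have h4 : c (k + 1) = c 1 * c 2 := h2
    rw [hall (k + 1) (by omega) (by omega), hc2, hZ] at h4
    exact h4
  rw [hy']
  rcases Nat.eq_zero_or_pos (j : ℕ) with h | h
  · exact h ▸ hc0
  · exact (hall j h (by have := j.2; omega)).trans hc1

section sixteen

variable {V : Type*} [CommGroup V] [Finite V] (ρ : L3 →* MulAut V) (hexp : ∀ a : V, a * a = 1)
  (hle : Nat.card V ≤ 16) (hρ : Function.Injective ρ)
include hexp hle hρ

theorem seven_facts {σ : L3} (h7 : σ ^ 7 = 1) (h1 : σ ≠ 1) :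
    (Nat.card V = 8 ∧ fix (ρ σ) = ⊥) ∨ (Nat.card V = 16 ∧ Nat.card (fix (ρ σ)) = 2) := by
  haveI : Fact (Nat.Prime 2) := ⟨Nat.prime_two⟩
  haveI : Fact (Nat.Prime 7) := ⟨by norm_num⟩
  obtain ⟨n, hn⟩ := IsPGroup.iff_card.1 (fun a : V => ⟨1, by rw [pow_one, pow_two]; exact hexp a⟩ : IsPGroup 2 V)
  have hn4 : n ≤ 4 := by
    by_contra h5
    have := Nat.pow_le_pow_right (n := 2) two_pos (show 5 ≤ n by omega)
    omega
  have hP : IsPGroup 7 (zpowers (ρ σ)) := fun ⟨x, hx⟩ => by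
    obtain ⟨i, rfl⟩ := mem_zpowers_iff.1 hx
    exact ⟨1, Subtype.ext (show (ρ σ ^ i) ^ (7 ^ 1) = 1 by
      rw [pow_one, ← zpow_natCast, ← _root_.zpow_mul, mul_comm, _root_.zpow_mul, zpow_natCast, ← map_pow, h7, map_one, _root_.one_zpow])⟩
  have e : MulAction.fixedPoints (zpowers (ρ σ)) V = (fix (ρ σ) : Set V) := by
    ext a
    constructor
    · intro h
      exact h ⟨ρ σ, mem_zpowers _⟩
    · rintro (ha : ρ σ a = a) ⟨x, hx⟩
      have h1 : ρ σ ∈ MulAction.stabilizer (MulAut V) a := ha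
      exact (zpowers_le.2 h1) hx
  have h := hP.card_modEq_card_fixedPoints V
  rw [Nat.card_congr (Equiv.setCongr e), hn] at h
  change 2 ^ n % 7 = Nat.card (fix (ρ σ)) % 7 at h
  have hd : Nat.card (fix (ρ σ)) ∣ 2 ^ n := hn ▸ Subgroup.card_subgroup_dvd_card _
  obtain ⟨i, hi, hi'⟩ := (Nat.dvd_prime_pow Nat.prime_two).1 hd
  have hin : i ≠ n := fun e => Cfsg.Lib.SymSixSection.fix_ne_top ((map_ne_one_iff ρ hρ).2 h1)
    (eq_top_of_card_eq _ (by rw [hi', e, hn]))
  rw [hi'] at h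
  obtain ⟨rfl, rfl⟩ | ⟨rfl, rfl⟩ : (n = 3 ∧ i = 0) ∨ (n = 4 ∧ i = 1) := by
    interval_cases n <;> interval_cases i <;> simp at h hin ⊢
  · exact Or.inl ⟨hn, Subgroup.card_eq_one.1 hi'⟩
  · exact Or.inr ⟨hn, hi'⟩

theorem card_cases : Nat.card V = 8 ∨ Nat.card V = 16 :=
  (seven_facts ρ hexp hle hρ fE_pow.1 fE_pow.2).imp (·.1) (·.1)

/-- the commutator with the element of order seven -/
def commSeven : Subgroup V := ((ρ fE).toMonoidHom * MonoidHom.id V).range

theorem commSeven_facts (h16 : Nat.card V = 16) :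
    Nat.card (commSeven ρ) = 8 ∧ (∀ v ∈ commSeven ρ, ρ fE v = v → v = 1) ∧
      ∀ v ∈ commSeven ρ, ρ fE v ∈ commSeven ρ := by
  obtain ⟨-, hf⟩ : Nat.card V = 16 ∧ Nat.card (fix (ρ fE)) = 2 := by
    rcases seven_facts ρ hexp hle hρ fE_pow.1 fE_pow.2 with h | h
    · omega
    · exact h
  set δ := (ρ fE).toMonoidHom * MonoidHom.id V
  have hk : δ.ker = fix (ρ fE) := by
    ext a
    show ρ fE a * a = 1 ↔ ρ fE a = a
    exact ⟨fun e => (eq_of_mul_one hexp e).symm, fun e => by rw [e, hexp]⟩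
  have hcard : Nat.card δ.range = 8 := by
    have := δ.ker.card_mul_index
    rw [Subgroup.index_ker, hk, hf, h16] at this
    omega
  refine ⟨hcard, ?_, ?_⟩
  · rintro _ ⟨a, rfl⟩ (hv : ρ fE (ρ fE a * a) = ρ fE a * a)
    rw [map_mul, mul_comm (ρ fE a) a] at hv
    have h2 : ρ fE (ρ fE a) = a := mul_right_cancel hv
    have h3 : ρ fE a = a := by
      have e7 : ρ (fE ^ 7) a = a := by rw [fE_pow.1, map_one]; rfl
      rw [map_pow] at e7
      simp only [pow_succ, pow_zero, one_mul, MulAut.mul_apply, h2] at e7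
      exact e7
    show ρ fE a * a = 1
    rw [h3, hexp]
  · rintro _ ⟨a, rfl⟩
    exact ⟨ρ fE a, (map_mul (ρ fE) _ _).symm⟩

/-- the orbit of a coset outside an invariant subgroup of order eight -/
theorem coset_cases (h16 : Nat.card V = 16) {W : Subgroup V} (hW : Nat.card W = 8)
    (hinv : ∀ σ : L3, ∀ w ∈ W, ρ σ w ∈ W) :
    (∃ z ∉ W, ∀ σ, ρ σ z = z) ∨
      ((∀ σ : L3, σ * σ = 1 → σ ≠ 1 → ∀ v ∉ W, ρ σ v ≠ v) ∧ ∀ v ∉ W, ∀ w ∉ W, ∃ σ, ρ σ v = w) := by
  classical
  haveI : Fact (Nat.Prime 2) := ⟨Nat.prime_two⟩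
  have hidx : W.index = 2 := by
    have := W.card_mul_index
    rw [hW, h16] at this
    omega
  obtain ⟨-, hf⟩ : Nat.card V = 16 ∧ Nat.card (fix (ρ fE)) = 2 := by
    rcases seven_facts ρ hexp hle hρ fE_pow.1 fE_pow.2 with h | h
    · omega
    · exact h
  let ρW : L3 →* MulAut W :=
    { toFun := fun σ =>
        { toFun := fun w => ⟨ρ σ w, hinv σ _ w.2⟩
          invFun := fun w => ⟨ρ σ⁻¹ w, hinv _ _ w.2⟩
          left_inv := fun w => Subtype.ext (by
            show ρ σ⁻¹ (ρ σ w) = w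
            rw [← MulAut.mul_apply, ← map_mul, inv_mul_cancel, map_one, MulAut.one_apply])
          right_inv := fun w => Subtype.ext (by
            show ρ σ (ρ σ⁻¹ w) = w
            rw [← MulAut.mul_apply, ← map_mul, mul_inv_cancel, map_one, MulAut.one_apply])
          map_mul' := fun a b => Subtype.ext (map_mul (ρ σ) _ _) }
      map_one' := MulEquiv.ext fun w => Subtype.ext (by show ρ 1 (w : V) = w; rw [map_one]; rfl)
      map_mul' := fun σ τ => MulEquiv.ext fun w => Subtype.ext (by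
        show ρ (σ * τ) (w : V) = ρ σ (ρ τ w)
        rw [map_mul]; rfl) }
  have hρW : Function.Injective ρW := by
    rcases hom_dichotomy ρW with h | h
    · exfalso
      have hle' : W ≤ fix (ρ fE) := fun w hw => by
        show ρ fE w = w
        exact congrArg Subtype.val (DFunLike.congr_fun (DFunLike.congr_fun h fE) ⟨w, hw⟩)
      have := Nat.card_le_card_of_injective _ (Subgroup.inclusion_injective hle')
      omega
    · exact h
  have hWf : ∀ w ∈ W, ρ fE w = w → w = 1 := fun w hw e => congrArg Subtype.val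
    (nat_seven (fun a => Subtype.ext (hexp a)) hW hρW fE_pow.1 fE_pow.2 (w := ⟨w, hw⟩) (Subtype.ext e))
  obtain ⟨⟨z, hzf⟩, hz1⟩ := Subgroup.ne_bot_iff_exists_ne_one.1
    (fun e => by rw [e, Subgroup.card_bot] at hf; omega : fix (ρ fE) ≠ ⊥)
  have hzf' : ρ fE z = z := hzf
  have hzW : z ∉ W := fun h => hz1 (Subtype.ext (hWf z h hzf'))
  by_cases hall : ∀ σ, ρ σ z = z
  · exact Or.inl ⟨z, hzW, hall⟩
  right
  push Not at hall
  obtain ⟨σ₀, hσ₀⟩ := hall
  have hout : ∀ σ, ∀ v ∉ W, ρ σ v ∉ W := fun σ v hv h => hv (by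
    have := hinv σ⁻¹ _ h
    rwa [← MulAut.mul_apply, ← map_mul, inv_mul_cancel, map_one, MulAut.one_apply] at this)
  have hmul : ∀ {a b : V}, a ∉ W → b ∉ W → a * b ∈ W := fun ha hb =>
    (Subgroup.mul_mem_iff_of_index_two hidx).2 (iff_of_false ha hb)
  have hreach : ∀ v ∉ W, ∃ σ, ρ σ z = v := by
    intro v hv
    by_cases hvz : v = z
    · exact ⟨1, by rw [hvz, map_one]; rfl⟩
    have hw0 : ρ σ₀ z * z ∈ W := hmul (hout σ₀ z hzW) hzW
    have hwv : v * z ∈ W := hmul hv hzW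
    obtain ⟨i, hi⟩ := exists_coords (fun a : W => Subtype.ext (hexp a)) hW
    obtain ⟨F, hF, hFi⟩ := exists_toSL i hi
    have h0 : i 1 = 0 := by
      have := hi 1 1
      rw [mul_one] at this
      exact left_eq_add.1 this
    have hne : ∀ x : W, x ≠ 1 → i x ≠ 0 := fun x hx e => hx (i.injective (e.trans h0.symm))
    obtain ⟨-, horb⟩ := vec_orbit (F (ρW fE)) (by rw [← map_pow, ← map_pow, fE_pow.1, map_one, map_one])
      ((map_ne_one_iff F hF).2 ((map_ne_one_iff ρW hρW).2 fE_pow.2)) (i ⟨_, hw0⟩)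
      (hne _ fun e => hσ₀ (eq_of_mul_one hexp (congrArg Subtype.val e)).symm)
    obtain ⟨j, hj⟩ := horb (i ⟨_, hwv⟩) (hne _ fun e => hvz (eq_of_mul_one hexp (congrArg Subtype.val e)).symm)
    rw [← map_pow, ← map_pow, ← hFi] at hj
    have e : ρ (fE ^ (j : ℕ)) (ρ σ₀ z * z) = v * z := congrArg Subtype.val (i.injective hj)
    have hzj : ∀ n : ℕ, ρ (fE ^ n) z = z := by
      intro n
      induction n with
      | zero => rw [pow_zero, map_one]; rfl
      | succ n ih => rw [pow_succ, map_mul, MulAut.mul_apply, hzf', ih]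
    rw [map_mul, hzj] at e
    exact ⟨fE ^ (j : ℕ) * σ₀, by rw [map_mul, MulAut.mul_apply]; exact mul_right_cancel e⟩
  refine ⟨fun σ h2 h1 v hv e => ?_, fun v hv w hw => ?_⟩
  · letI : MulAction L3 V := MulAction.compHom V ρ
    have horbit : MulAction.orbit L3 z = (W : Set V)ᶜ := by
      ext x
      constructor
      · rintro ⟨τ, rfl⟩
        exact hout τ z hzW
      · intro hx
        exact hreach x hx
    have h8 : Nat.card (MulAction.orbit L3 z) = 8 := by
      rw [Nat.card_coe_set_eq, horbit]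
      have h := Set.ncard_add_ncard_compl (W : Set V)
      rw [h16, ← Nat.card_coe_set_eq, SetLike.coe_sort_coe, hW] at h
      omega
    have hstab : Nat.card (MulAction.stabilizer L3 z) = 21 := by
      have h := Nat.card_congr (MulAction.orbitProdStabilizerEquivGroup L3 z)
      rw [Nat.card_prod, h8, card_L3] at h
      omega
    obtain ⟨τ, rfl⟩ := hreach v hv
    let s : MulAction.stabilizer L3 z := ⟨τ⁻¹ * σ * τ, by
      rw [MulAction.mem_stabilizer_iff]
      show ρ (τ⁻¹ * σ * τ) z = z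
      rw [map_mul, map_mul, MulAut.mul_apply, MulAut.mul_apply, e, ← MulAut.mul_apply, ← map_mul, inv_mul_cancel,
        map_one, MulAut.one_apply]⟩
    have hs2 : orderOf s = 2 := by
      refine orderOf_eq_prime (Subtype.ext ?_) fun e1 => h1 ?_
      · show (τ⁻¹ * σ * τ) ^ 2 = 1
        rw [pow_two, show τ⁻¹ * σ * τ * (τ⁻¹ * σ * τ) = τ⁻¹ * (σ * σ) * τ by group, h2, mul_one, inv_mul_cancel]
      · have e2 : τ⁻¹ * σ * τ = 1 := congrArg Subtype.val e1
        calc σ = τ * (τ⁻¹ * σ * τ) * τ⁻¹ := by group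
          _ = 1 := by rw [e2, mul_one, mul_inv_cancel]
    have := orderOf_dvd_natCard s
    rw [hs2, hstab] at this
    omega
  · obtain ⟨a, rfl⟩ := hreach v hv
    obtain ⟨b, rfl⟩ := hreach w hw
    exact ⟨b * a⁻¹, by rw [← MulAut.mul_apply, ← map_mul, inv_mul_cancel_right]⟩

/-- reducibility in order sixteen -/
theorem reducible (h16 : Nat.card V = 16) :
    (∃ z ≠ 1, ∀ σ, ρ σ z = z) ∨ ∀ σ, ∀ w ∈ commSeven ρ, ρ σ w ∈ commSeven ρ := by
  classical
  obtain ⟨hW, hWf, hWinv⟩ := commSeven_facts ρ hexp hle hρ h16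
  set W := commSeven ρ
  obtain ⟨-, hf⟩ : Nat.card V = 16 ∧ Nat.card (fix (ρ fE)) = 2 := by
    rcases seven_facts ρ hexp hle hρ fE_pow.1 fE_pow.2 with h | h
    · omega
    · exact h
  obtain ⟨⟨z, hzf⟩, hz1⟩ := Subgroup.ne_bot_iff_exists_ne_one.1
    (fun e => by rw [e, Subgroup.card_bot] at hf; omega : fix (ρ fE) ≠ ⊥)
  have hzf' : ρ fE z = z := hzf
  have hz1' : z ≠ 1 := fun e => hz1 (Subtype.ext e)
  have hzW : z ∉ W := fun h => hz1' (hWf z h hzf')
  by_cases hall : ∀ σ, ρ σ z = z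
  · exact Or.inl ⟨z, hz1', hall⟩
  right
  push Not at hall
  obtain ⟨σ₀, hσ₀⟩ := hall
  have hidx : W.index = 2 := by
    have := W.card_mul_index
    rw [hW, h16] at this
    omega
  -- orbits of the element of order seven
  have hfixeq : ∀ v, ρ fE v = v → v = 1 ∨ v = z := by
    intro v hv
    obtain ⟨c, -, hc⟩ := (Nat.card_eq_two_iff' (1 : fix (ρ fE))).1 hf
    by_cases hv1 : v = 1
    · exact Or.inl hv1
    · exact Or.inr (congrArg Subtype.val ((hc ⟨v, hv⟩ fun e => hv1 (congrArg Subtype.val e)).trans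
        (hc ⟨z, hzf⟩ fun e => hz1' (congrArg Subtype.val e)).symm))
  letI : MulAction L3 V := MulAction.compHom V ρ
  set O := MulAction.orbit L3 z
  have hstep : ∀ x ∈ O, ρ fE x ∈ O := by
    rintro _ ⟨τ, rfl⟩
    exact ⟨fE * τ, by show ρ (fE * τ) z = ρ fE (ρ τ z); rw [map_mul]; rfl⟩
  have hgz : ρ gE z = z := by
    have h2 : ρ (fE ^ 2) (ρ gE z) = ρ gE z := by
      rw [← MulAut.mul_apply, ← map_mul, ← gE_facts.2.2.1, inv_mul_cancel_right, map_mul, MulAut.mul_apply, hzf']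
    have h3 : ρ fE (ρ gE z) = ρ gE z := by
      have h4 : ρ ((fE ^ 2) ^ 4) (ρ gE z) = ρ gE z := by
        simp only [pow_succ, pow_zero, one_mul, map_mul, MulAut.mul_apply] at h2 ⊢
        rw [h2, h2, h2, h2]
      rwa [← pow_mul, show 2 * 4 = 7 + 1 from rfl, pow_succ, fE_pow.1, one_mul] at h4
    rcases hfixeq _ h3 with h | h
    · exact absurd ((ρ gE).injective (h.trans (map_one _).symm)) hz1'
    · exact h
  have hO8 : Nat.card O ≤ 8 := by
    have h := Nat.card_congr (MulAction.orbitProdStabilizerEquivGroup L3 z)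
    rw [Nat.card_prod, card_L3] at h
    haveI : Fact (Nat.Prime 7) := ⟨by norm_num⟩
    haveI : Fact (Nat.Prime 3) := ⟨Nat.prime_three⟩
    have h7 : 7 ∣ Nat.card (MulAction.stabilizer L3 z) := by
      have := orderOf_dvd_natCard (⟨fE, hzf'⟩ : MulAction.stabilizer L3 z)
      rwa [← Subgroup.orderOf_coe, orderOf_eq_prime fE_pow.1 fE_pow.2] at this
    have h3 : 3 ∣ Nat.card (MulAction.stabilizer L3 z) := by
      have := orderOf_dvd_natCard (⟨gE, hgz⟩ : MulAction.stabilizer L3 z)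
      rwa [← Subgroup.orderOf_coe, orderOf_eq_prime gE_facts.1 gE_facts.2.1] at this
    have h21 : 21 ≤ Nat.card (MulAction.stabilizer L3 z) :=
      Nat.le_of_dvd Nat.card_pos ((by norm_num : Nat.Coprime 7 3).mul_dvd_of_dvd_of_dvd h7 h3)
    nlinarith
  obtain ⟨i, hi⟩ := exists_coords (fun a : W => Subtype.ext (hexp a)) hW
  obtain ⟨F, hF, hFi⟩ := exists_toSL i hi
  have h0 : i 1 = 0 := by
    have := hi 1 1
    rw [mul_one] at this
    exact left_eq_add.1 this
  let φ : MulAut W :=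
    MulEquiv.ofBijective (((ρ fE).toMonoidHom.comp W.subtype).codRestrict W fun w => hWinv _ w.2)
      (Finite.injective_iff_bijective.1 fun a b e => Subtype.ext ((ρ fE).injective (congrArg Subtype.val e)))
  have hφ7 : φ ^ 7 = 1 := MulEquiv.ext fun w => Subtype.ext (by
    have e7 : ρ (fE ^ 7) (w : V) = w := by rw [fE_pow.1, map_one]; rfl
    simp only [pow_succ, pow_zero, one_mul, map_mul, MulAut.mul_apply] at e7 ⊢
    exact e7)
  have hφn : ∀ (n : ℕ) (w : W), (((φ ^ n) w : W) : V) = ρ (fE ^ n) w := by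
    intro n
    induction n with
    | zero => intro w; rw [pow_zero, pow_zero, map_one]; rfl
    | succ n ih =>
      intro w
      rw [pow_succ', pow_succ', MulAut.mul_apply, map_mul, MulAut.mul_apply, ← ih]
      rfl
  have hφ1 : φ ≠ 1 := by
    intro e
    obtain ⟨w, hw⟩ := Subgroup.ne_bot_iff_exists_ne_one.1 (fun e' => by rw [e', Subgroup.card_bot] at hW; omega : W ≠ ⊥)
    exact hw (Subtype.ext (hWf _ w.2 (congrArg Subtype.val (DFunLike.congr_fun e w))))
  have horb : ∀ w₁ : W, w₁ ≠ 1 → ∀ w₂ : W, w₂ ≠ 1 → ∃ n : ℕ, ρ (fE ^ n) (w₁ : V) = w₂ := by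
    intro w₁ h1 w₂ h2
    obtain ⟨-, horb⟩ := vec_orbit (F φ) (by rw [← map_pow, hφ7, map_one]) ((map_ne_one_iff F hF).2 hφ1) (i w₁)
      fun e => h1 (i.injective (e.trans h0.symm))
    obtain ⟨j, hj⟩ := horb (i w₂) fun e => h2 (i.injective (e.trans h0.symm))
    rw [← map_pow, ← hFi] at hj
    exact ⟨j, (hφn _ _).symm.trans (congrArg Subtype.val (i.injective hj))⟩
  have hzn : ∀ n : ℕ, ρ (fE ^ n) z = z := by
    intro n
    induction n with
    | zero => rw [pow_zero, map_one]; rfl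
    | succ n ih => rw [pow_succ, map_mul, MulAut.mul_apply, hzf', ih]
  have hOn : ∀ n : ℕ, ∀ x ∈ O, ρ (fE ^ n) x ∈ O := by
    intro n
    induction n with
    | zero => intro x hx; rw [pow_zero, map_one]; exact hx
    | succ n ih => intro x hx; rw [pow_succ', map_mul, MulAut.mul_apply]; exact hstep _ (ih x hx)
  set x₀ := ρ σ₀ z
  have hx₀O : x₀ ∈ O := ⟨σ₀, rfl⟩
  have hx₀1 : x₀ ≠ 1 := fun e => hz1' ((ρ σ₀).injective (e.trans (map_one _).symm))
  have hOinv : ∀ σ, ∀ x ∈ O, ρ σ x ∈ O := by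
    rintro σ _ ⟨τ, rfl⟩
    exact ⟨σ * τ, by show ρ (σ * τ) z = ρ σ (ρ τ z); rw [map_mul]; rfl⟩
  have hO1 : (1 : V) ∉ O := by
    rintro ⟨τ, e⟩
    exact hz1' ((ρ τ).injective (e.trans (map_one _).symm))
  by_cases hx₀W : x₀ ∈ W
  · -- the other coset meets only one orbit
    have hWO : ∀ w ∈ W, w ≠ 1 → w ∈ O := fun w hw h1 => by
      obtain ⟨n, hn⟩ := horb ⟨x₀, hx₀W⟩ (fun e => hx₀1 (congrArg Subtype.val e)) ⟨w, hw⟩
        (fun e => h1 (congrArg Subtype.val e))
      have hn' : ρ (fE ^ n) x₀ = w := hn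
      rw [← hn']
      exact hOn n _ hx₀O
    have hOeq : ∀ x ∈ O, x = z ∨ x ∈ W := by
      intro x hx
      by_contra hcon
      push Not at hcon
      let m : Option W → O := fun o => match o with
        | none => ⟨x, hx⟩
        | some w => if h : (w : V) = 1 then ⟨z, ⟨1, by show ρ 1 z = z; rw [map_one]; rfl⟩⟩ else ⟨w, hWO w w.2 h⟩
      have hm : Function.Injective m := by
        rintro (_ | w) (_ | w') e <;> simp only [m] at e
        · rfl
        · split_ifs at e
          · exact absurd (congrArg (fun y : O => (y : V)) e) hcon.1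
          · have h9 : x = (w' : V) := congrArg (fun y : O => (y : V)) e
            exact absurd (by rw [h9]; exact w'.2) hcon.2
        · split_ifs at e
          · exact absurd (congrArg (fun y : O => (y : V)) e).symm hcon.1
          · have h9 : (w : V) = x := congrArg (fun y : O => (y : V)) e
            exact absurd (by rw [← h9]; exact w.2) hcon.2
        · split_ifs at e with h h' h'
          · rw [Subtype.ext (h.trans h'.symm)]
          · have h9 : z = (w' : V) := congrArg (fun y : O => (y : V)) e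
            exact absurd (by rw [h9]; exact w'.2) hzW
          · have h9 : (w : V) = z := congrArg (fun y : O => (y : V)) e
            exact absurd (by rw [← h9]; exact w.2) hzW
          · have h9 : (w : V) = w' := congrArg (fun y : O => (y : V)) e
            rw [Subtype.ext h9]
      have := Nat.card_le_card_of_injective m hm
      rw [Finite.card_option, hW] at this
      omega
    intro σ w hw
    by_contra hσw
    have hw1 : w ≠ 1 := fun e => hσw (by rw [e, map_one]; exact one_mem _)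
    haveI : Nontrivial W := ⟨⟨⟨w, hw⟩, 1, fun e => hw1 (congrArg Subtype.val e)⟩⟩
    obtain ⟨a, ha, ha1, haw⟩ : ∃ a ∈ W, a ≠ 1 ∧ a ≠ w := by
      by_contra hno
      push Not at hno
      have : (W : Set V) ⊆ {1, w} := fun a ha => by
        by_cases h : a = 1
        · exact Or.inl h
        · exact Or.inr (hno a ha h)
      have h2 := Set.ncard_le_ncard this
      rw [← Nat.card_coe_set_eq, SetLike.coe_sort_coe, hW] at h2
      exact absurd (h2.trans (Set.ncard_insert_le _ _)) (by rw [Set.ncard_singleton]; omega)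
    have hT : ∀ a ∈ W, a ≠ 1 → ρ σ (z * a) * z ∈ W := by
      intro a ha ha1
      have hO' : ρ σ (z * a) ∉ O := fun h => by
        have h2 := hOinv σ⁻¹ _ h
        rw [← MulAut.mul_apply, ← map_mul, inv_mul_cancel, map_one, MulAut.one_apply] at h2
        rcases hOeq _ h2 with e | e
        · exact ha1 (mul_eq_left.1 e)
        · exact hzW (by simpa using mul_mem e (inv_mem ha))
      refine (Subgroup.mul_mem_iff_of_index_two hidx).2 (iff_of_false (fun h => ?_) hzW)
      by_cases h1 : ρ σ (z * a) = 1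
      · have := (ρ σ).injective (h1.trans (map_one _).symm)
        exact hzW (by rw [eq_of_mul_one hexp this] at ha; exact ha)
      · exact hO' (hWO _ h h1)
    apply hσw
    have h := mul_mem (hT a ha ha1) (hT (a * w) (mul_mem ha hw) fun e => haw (eq_of_mul_one hexp e).symm)
    have e : ρ σ (z * a) * z * (ρ σ (z * (a * w)) * z) = ρ σ w := by
      rw [mul_mul_mul_comm, hexp, mul_one, ← map_mul, mul_mul_mul_comm, hexp, one_mul, ← mul_assoc, hexp, one_mul]
    rwa [e] at h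
  · have hzO : ∀ x ∉ W, x ∈ O := fun x hx => by
      by_cases hxz : x = z
      · exact ⟨1, by show ρ 1 z = x; rw [hxz, map_one]; rfl⟩
      have h1 : x₀ * z ∈ W := (Subgroup.mul_mem_iff_of_index_two hidx).2 (iff_of_false hx₀W hzW)
      have h2 : x * z ∈ W := (Subgroup.mul_mem_iff_of_index_two hidx).2 (iff_of_false hx hzW)
      obtain ⟨n, hn⟩ := horb ⟨_, h1⟩ (fun e => hσ₀ (eq_of_mul_one hexp (congrArg Subtype.val e)).symm) ⟨_, h2⟩
        (fun e => hxz (eq_of_mul_one hexp (congrArg Subtype.val e)).symm)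
      rw [show ((⟨x₀ * z, h1⟩ : W) : V) = x₀ * z from rfl, map_mul, hzn] at hn
      rw [← mul_right_cancel hn]
      exact hOn n _ hx₀O
    intro σ w hw
    by_contra hσw
    have h2 := hOinv σ⁻¹ _ (hzO _ hσw)
    rw [← MulAut.mul_apply, ← map_mul, inv_mul_cancel, map_one, MulAut.one_apply] at h2
    have hsub : (W : Set V)ᶜ ∪ {w} ⊆ O := by
      rintro x (hx | rfl)
      · exact hzO x hx
      · exact h2
    have h3 := Set.ncard_le_ncard hsub
    have h := Set.ncard_add_ncard_compl (W : Set V)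
    rw [h16, ← Nat.card_coe_set_eq, SetLike.coe_sort_coe, hW] at h
    rw [Set.union_singleton, Set.ncard_insert_of_notMem (show w ∉ (W : Set V)ᶜ from fun h' => h' hw), ← Nat.card_coe_set_eq O] at h3
    omega

end sixteen

end Cfsg.Lib.LThreeRadical
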