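import Cfsg.Agent.SolvStruct.LThreeRadical.Layers
import Cfsg.Agent.SolvStruct.LThreeRadical.Module
import Cfsg.Agent.SolvStruct.LThreeRadical.Generators

/-!
No extension of a homocyclic group of exponent four and order sixty-four by the linear group of degree three
has sectional rank four.
-/

set_option autoImplicit false
set_option linter.unusedSectionVars false
set_option linter.style.haveILetI false
set_option maxRecDepth 100000
set_option maxHeartbeats 1000000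

namespace Cfsg.Lib.LThreeRadical

open Subgroup Matrix

abbrev Vec4 := Fin 3 → ZMod 4
abbrev Mat4 := Matrix (Fin 3) (Fin 3) (ZMod 4)

/-- reduction -/
def red (v : Vec4) : Vec2 := fun i => ((v i).val : ZMod 2)

def Fm : Mat4 := !![0, 0, 1; 1, 0, 3; 0, 1, 2]
def Gm : Mat4 := !![1, 0, 2; 0, 0, 3; 0, 1, 3]
def Sm : Mat4 := !![3, 0, 0; 0, 0, 1; 0, 1, 0]
def Um : Mat4 := Fm * Sm * Fm * Fm
def Tm : Mat4 := Um * Um

/-- a matrix by columns -/
def ofCols (a b c : Vec4) : Mat4 := Matrix.of fun i j => ![a, b, c] j i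

theorem eq_ofCols (M : Mat4) : M = ofCols (M *ᵥ ![1, 0, 0]) (M *ᵥ ![0, 1, 0]) (M *ᵥ ![0, 0, 1]) := by
  ext i j
  fin_cases j <;> simp [ofCols, Matrix.mulVec, dotProduct, Fin.sum_univ_three]

theorem lift_f : ∀ v : Vec4, red v = ![1, 1, 0] → ofCols ![0, 1, 0] ![0, 0, 1] v ^ 7 = 1 →
    ofCols ![0, 1, 0] ![0, 0, 1] v = Fm := by
  decide +kernel

theorem gm_cols : ofCols ![1, 0, 0] ((Fm * Fm) *ᵥ ![1, 0, 0]) ((Fm * Fm) *ᵥ ((Fm * Fm) *ᵥ ![1, 0, 0])) = Gm := by
  decide +kernel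

theorem lift_s : ∀ a : Vec4, red a = ![1, 0, 0] → ∀ b : Vec4, red b = ![0, 0, 1] → ∀ c : Vec4, red c = ![0, 1, 0] →
    ofCols a b c * ofCols a b c = 1 → (ofCols a b c * Fm) ^ 3 = 1 → (ofCols a b c * Gm) ^ 2 = 1 →
    ofCols a b c = Sm := by
  decide +kernel

theorem cyclic_facts : ∀ x : Vec4, Um *ᵥ x = x → ∃ z : Vec4, x = z + Tm *ᵥ z := by decide +kernel

theorem pair_facts : ∀ k : Vec4, Tm *ᵥ k = -k → Sm *ᵥ k = -k → ∃ y : Vec4, y + Tm *ᵥ y = 0 ∧
    (k + Sm *ᵥ y - y = 0 ∨ k + Sm *ᵥ y - y = ![0, 2, 2]) := by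
  decide +kernel

/-- the vectors over the centre -/
def InK (x : Vec4) : Prop := red x = 0 ∨ red x = cV

instance : DecidablePred InK := fun x => inferInstanceAs (Decidable (_ ∨ _))

theorem kernel_facts : ∀ x : Vec4, InK x → (x + x = 0 ∨ x + x = ![0, 2, 2]) ∧
    (Tm *ᵥ x - x = 0 ∨ Tm *ᵥ x - x = ![0, 2, 2]) ∧ (Sm *ᵥ x - x = 0 ∨ Sm *ᵥ x - x = ![0, 2, 2]) := by
  decide +kernel

theorem fixed_centre : Tm *ᵥ ![0, 2, 2] = ![0, 2, 2] ∧ Sm *ᵥ ![0, 2, 2] = ![0, 2, 2] := by decide +kernel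

theorem red_facts : (∀ x : Vec4, red x = 0 → ∃ y, x = y + y) ∧ (∀ y : Vec4, red y = 0 → y + y = 0) ∧
    (∀ x y : Vec4, red (x + y) = red x + red y) ∧
    (Finset.univ.filter fun x : Vec4 => InK x).card = 16 ∧
    Function.Injective fun w : Fin 2 × Fin 2 => tE ^ (w.1 : ℕ) * sE ^ (w.2 : ℕ) := by
  decide +kernel

universe u
variable {Y : Type u} [Group Y] [Finite Y] {π : Y →* L3} {P : Subgroup Y}

theorem pow_val_add {G : Type*} [Monoid G] {a : G} (ha : a ^ 4 = 1) (x y : ZMod 4) :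
    a ^ (x + y).val = a ^ x.val * a ^ y.val := by
  rw [← pow_add, ZMod.val_add, ← pow_eq_pow_mod _ ha]

/-- coordinates for a homocyclic group with its action -/
theorem exists_model (E : Setup π P) {R : Subgroup Y} [R.Normal] (hR : R ≤ P) (hsq : ∀ a ∈ P, a * a ∈ R)
    (hab : ∀ a ∈ P, ∀ b ∈ P, a * b = b * a) (hexp : ∀ r ∈ R, r * r = 1) (hR8 : Nat.card R = 8)
    (hinj2 : ∀ a ∈ P, a * a = 1 → a ∈ R) {V : Type u} [CommGroup V] [Finite V] (L : Layer π P R V)
    (hV : Nat.card V = 8) :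
    ∃ (π' : Y →* L3) (e : Vec4 ≃ P) (A : Y → Mat4), Function.Surjective π' ∧ π'.ker = P ∧
      (∀ x y, e (x + y) = e x * e y) ∧ (∀ (y : Y) (x : Vec4), (e (A y *ᵥ x) : Y) = y * e x * y⁻¹) ∧
      (∀ y, π' y = sE → A y = Sm) ∧ ∀ y, π' y = uE → A y = Um := by
  classical
  haveI := E.normal
  obtain ⟨i, β, hi, hβ⟩ := exists_natural L.exp hV L.inj
  let π' : Y →* L3 := β.toMonoidHom.comp π
  have hs' : Function.Surjective π' := β.surjective.comp E.surj
  have hk' : π'.ker = P := by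
    rw [← E.ker]
    ext y
    exact map_eq_one_iff β β.injective
  have heq : ∀ (y : Y) (a b : P), (b : Y) = y * a * y⁻¹ → i (L.p b) = act (π' y) (i (L.p a)) := fun y a b e => by
    rw [← L.equiv y a b e, hβ]
    rfl
  have hi1 : i 1 = 0 := by
    have := hi 1 1
    rw [mul_one] at this
    exact left_eq_add.1 this
  have hcentral : ∀ q ∈ P, ∀ a ∈ P, q * a * q⁻¹ = a := fun q hq a ha => by
    rw [hab q hq a ha, mul_inv_cancel_right]
  obtain ⟨fl, hfl⟩ := hs' fE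
  obtain ⟨gl, hgl⟩ := hs' gE
  obtain ⟨v, hv⟩ := L.surj (i.symm ![1, 0, 0])
  let cj : Y → P → P := fun y a => ⟨y * a * y⁻¹, Normal.conj_mem E.normal _ a.2 y⟩
  let a : P := v * cj gl v * cj (gl * gl) v
  have hga : gl * a * gl⁻¹ = (a : Y) := by
    have h3 : gl * gl * gl ∈ P := by
      rw [← hk', MonoidHom.mem_ker, map_mul, map_mul, hgl, ← pow_two, ← pow_succ, gE_facts.1]
    have e : gl * (a : Y) * gl⁻¹ = (cj gl v : Y) * (cj (gl * gl) v : Y) * (gl * gl * gl * v * (gl * gl * gl)⁻¹) := by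
      simp only [a, cj, Subgroup.coe_mul]
      group
    rw [e, hcentral _ h3 _ v.2, hab _ (mul_mem (cj gl v).2 (cj (gl * gl) v).2) _ v.2]
    simp only [a, Subgroup.coe_mul, mul_assoc]
  have hpa : i (L.p a) = ![1, 0, 0] := by
    simp only [a, map_mul, hi]
    rw [heq gl v (cj gl v) rfl, heq (gl * gl) v (cj (gl * gl) v) rfl, hv, i.apply_symm_apply, map_mul, hgl, act_mul,
      gE_facts.2.2.2, gE_facts.2.2.2]
    decide
  let b : P := cj fl a
  let c : P := cj fl b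
  have hpb : i (L.p b) = ![0, 1, 0] := by rw [heq fl a b rfl, hpa, hfl]; decide
  have hpc : i (L.p c) = ![0, 0, 1] := by rw [heq fl b c rfl, hpb, hfl]; decide
  have h4 : ∀ q : P, q ^ 4 = 1 := fun q => Subtype.ext (by
    rw [show (4 : ℕ) = 2 * 2 from rfl, pow_mul, Subgroup.coe_pow, Subgroup.coe_pow, pow_two, pow_two]
    exact hexp _ (hsq _ q.2))
  letI : CommGroup P := { (inferInstance : Group P) with mul_comm := fun x y => Subtype.ext (hab _ x.2 _ y.2) }
  let m : Vec4 → P := fun x => a ^ (x 0).val * b ^ (x 1).val * c ^ (x 2).val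
  have hm : ∀ x y, m (x + y) = m x * m y := fun x y => by
    simp only [m, Pi.add_apply, pow_val_add (h4 a), pow_val_add (h4 b), pow_val_add (h4 c)]
    ac_rfl
  have hpw : ∀ (w : V) (n : ℕ), i (w ^ n) = n • i w := by
    intro w n
    induction n with
    | zero => rw [pow_zero, hi1, zero_smul]
    | succ n ih => rw [pow_succ, hi, ih, succ_nsmul]
  have hred : ∀ x, i (L.p (m x)) = red x := fun x => by
    simp only [m, map_mul, map_pow, hi, hpw, hpa, hpb, hpc]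
    funext k
    fin_cases k <;> simp [red]
  have hm0 : ∀ x, m x = 1 → x = 0 := by
    intro x hx
    have h1 : red x = 0 := by rw [← hred, hx, map_one, hi1]
    obtain ⟨y, rfl⟩ := red_facts.1 x h1
    rw [hm] at hx
    have h2 : red y = 0 := by
      rw [← hred, show L.p (m y) = 1 from (L.ker _).2 (hinj2 _ (m y).2 (congrArg Subtype.val hx)), hi1]
    exact red_facts.2.1 y h2
  have hinj : Function.Injective m := fun x y e => by
    refine sub_eq_zero.1 (hm0 _ ?_)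
    have h := hm (x - y) y
    rw [sub_add_cancel, e] at h
    exact right_eq_mul.1 h
  have hbij := (Nat.bijective_iff_injective_and_card m).2 ⟨hinj, by
    rw [L.card hR, hV, hR8, Nat.card_eq_fintype_card]; rfl⟩
  let e : Vec4 ≃ P := Equiv.ofBijective m hbij
  let g : Y → Vec4 →+ Vec4 := fun y => AddMonoidHom.mk' (fun x => e.symm (cj y (e x))) fun x x' => e.injective (by
    show e (e.symm _) = m (_ + _)
    rw [hm]
    show e (e.symm _) = e (e.symm _) * e (e.symm _)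
    rw [e.apply_symm_apply, e.apply_symm_apply, e.apply_symm_apply, show e (x + x') = e x * e x' from hm x x']
    refine Subtype.ext ?_
    show y * (((e x : P) : Y) * (e x' : P)) * y⁻¹ = y * (e x : P) * y⁻¹ * (y * (e x' : P) * y⁻¹)
    group)
  let A : Y → Mat4 := fun y => LinearMap.toMatrix' ((g y).toZModLinearMap 4)
  have hA : ∀ (y : Y) (x : Vec4), e (A y *ᵥ x) = cj y (e x) := fun y x => by
    rw [LinearMap.toMatrix'_mulVec]
    exact e.apply_symm_apply _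
  have hext : ∀ M N : Mat4, (∀ x, M *ᵥ x = N *ᵥ x) → M = N := fun M N h => Matrix.ext_iff_mulVec.2 h
  have hAmul : ∀ y y', A (y * y') = A y * A y' := fun y y' => hext _ _ fun x => e.injective (by
    rw [← Matrix.mulVec_mulVec, hA, hA, hA]
    refine Subtype.ext ?_
    show y * y' * (e x : P) * (y * y')⁻¹ = y * (y' * (e x : P) * y'⁻¹) * y⁻¹
    group)
  have hAP : ∀ q ∈ P, A q = 1 := fun q hq => hext _ _ fun x => e.injective (by
    rw [hA, Matrix.one_mulVec]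
    exact Subtype.ext (hcentral q hq _ (e x).2))
  have hAeq : ∀ y y', π' y = π' y' → A y = A y' := fun y y' h => by
    have hm' : y * y'⁻¹ ∈ P := by rw [← hk', MonoidHom.mem_ker, map_mul, map_inv, h, mul_inv_cancel]
    conv_lhs => rw [← inv_mul_cancel_right y y', hAmul, hAP _ hm', one_mul]
  have hA1 : A 1 = 1 := hAP 1 (one_mem _)
  have hApow : ∀ y, ∀ n : ℕ, A (y ^ n) = A y ^ n := fun y n => by
    induction n with
    | zero => rw [pow_zero, pow_zero, hA1]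
    | succ n ih => rw [pow_succ, pow_succ, hAmul, ih]
  have hrel : ∀ y, ∀ n : ℕ, π' y ^ n = 1 → A y ^ n = 1 := fun y n h => by
    rw [← hApow, hAeq _ 1 (by rw [map_pow, h, map_one]), hA1]
  have hAred : ∀ y x, red (A y *ᵥ x) = act (π' y) (red x) := fun y x => by
    have h := hred (A y *ᵥ x)
    rw [show m (A y *ᵥ x) = cj y (e x) from hA y x, heq y (e x) _ rfl] at h
    rw [← h]
    exact congrArg _ (hred x)
  have he1 : e ![1, 0, 0] = a := by
    show m _ = a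
    simp [m, show (1 : ZMod 4).val = 1 from rfl]
  have he2 : e ![0, 1, 0] = b := by
    show m _ = b
    simp [m, show (1 : ZMod 4).val = 1 from rfl]
  have he3 : e ![0, 0, 1] = c := by
    show m _ = c
    simp [m, show (1 : ZMod 4).val = 1 from rfl]
  have hF1 : A fl *ᵥ ![1, 0, 0] = ![0, 1, 0] := e.injective (by rw [hA, he1, he2])
  have hF2 : A fl *ᵥ ![0, 1, 0] = ![0, 0, 1] := e.injective (by rw [hA, he2, he3])
  have hF : A fl = Fm := by
    have h := eq_ofCols (A fl)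
    rw [hF1, hF2] at h
    rw [h]
    refine lift_f _ ?_ ?_
    · rw [hAred, hfl]; decide
    · rw [← h]
      exact hrel fl 7 (by rw [hfl, fE_pow.1])
  have hG1 : A gl *ᵥ ![1, 0, 0] = ![1, 0, 0] := e.injective (by rw [hA, he1]; exact Subtype.ext hga)
  have hGF : A gl * Fm = Fm * Fm * A gl := by
    rw [← hF, ← hAmul, ← hAmul, ← hAmul]
    refine hAeq _ _ ?_
    rw [map_mul, map_mul, map_mul, hgl, hfl]
    exact mul_inv_eq_iff_eq_mul.1 (gE_facts.2.2.1.trans (pow_two fE))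
  have hG : A gl = Gm := by
    have h2 : A gl *ᵥ ![0, 1, 0] = (Fm * Fm) *ᵥ ![1, 0, 0] := by
      rw [← hF1, hF, Matrix.mulVec_mulVec, hGF, ← Matrix.mulVec_mulVec, hG1]
    have h3 : A gl *ᵥ ![0, 0, 1] = (Fm * Fm) *ᵥ ((Fm * Fm) *ᵥ ![1, 0, 0]) := by
      rw [← hF2, hF, Matrix.mulVec_mulVec, hGF, ← Matrix.mulVec_mulVec, h2]
    rw [eq_ofCols (A gl), hG1, h2, h3]
    exact gm_cols
  have hS : ∀ y, π' y = sE → A y = Sm := by
    intro y hy
    have h := eq_ofCols (A y)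
    rw [h]
    refine lift_s _ (by rw [hAred, hy]; decide) _ (by rw [hAred, hy]; decide) _ (by rw [hAred, hy]; decide) ?_ ?_ ?_
    · rw [← h, ← pow_two]
      exact hrel y 2 (by rw [hy, pow_two, rel_facts.1])
    · rw [← h, ← hF, ← hAmul]
      exact hrel _ 3 (by rw [map_mul, hy, hfl, rel_facts.2.2.2.2.2.2.1])
    · rw [← h, ← hG, ← hAmul]
      exact hrel _ 2 (by rw [map_mul, hy, hgl, rel_facts.2.2.2.2.2.2.2.1])
  refine ⟨π', e, A, hs', hk', hm, fun y x => congrArg Subtype.val (hA y x), hS, fun y hy => ?_⟩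
  obtain ⟨sl, hsl⟩ := hs' sE
  rw [hAeq y (fl * sl * fl * fl) (by rw [hy, map_mul, map_mul, map_mul, hfl, hsl]; rfl), hAmul, hAmul, hAmul, hF,
    hS sl hsl]
  rfl

theorem no_homocyclic (E : Setup π P) {R : Subgroup Y} [R.Normal] (hR : R ≤ P) (hsq : ∀ a ∈ P, a * a ∈ R)
    (hab : ∀ a ∈ P, ∀ b ∈ P, a * b = b * a) (hexp : ∀ r ∈ R, r * r = 1) (hR8 : Nat.card R = 8)
    (hinj2 : ∀ a ∈ P, a * a = 1 → a ∈ R) {V : Type u} [CommGroup V] [Finite V] (L : Layer π P R V)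
    (hV : Nat.card V = 8) : False := by
  classical
  haveI := E.normal
  obtain ⟨π', e, A, hs, hk, he, hA, hS, hU⟩ := exists_model E hR hsq hab hexp hR8 hinj2 L hV
  have hmem : ∀ {y : Y}, y ∈ P ↔ π' y = 1 := fun {y} => by rw [← hk]; exact Iff.rfl
  let E' : Vec4 → Y := fun x => (e x : Y)
  have hE : ∀ x y, E' (x + y) = E' x * E' y := fun x y => congrArg Subtype.val (he x y)
  have hE0 : E' 0 = 1 := by
    have h := hE 0 0
    rw [add_zero] at h
    exact left_eq_mul.1 h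
  have hEneg : ∀ x, E' (-x) = (E' x)⁻¹ := fun x => by
    rw [eq_inv_iff_mul_eq_one, ← hE, neg_add_cancel, hE0]
  have hEinj : Function.Injective E' := Subtype.val_injective.comp e.injective
  have hof : ∀ q ∈ P, ∃ x, E' x = q := fun q hq => ⟨e.symm ⟨q, hq⟩, congrArg Subtype.val (e.apply_symm_apply _)⟩
  obtain ⟨ul, hul⟩ := hs uE
  obtain ⟨hss, hs1, -, hu4, htt, ht1, -, -, hst, hstne⟩ := rel_facts
  have hTm : ∀ y, π' y = tE → ∀ x, y * E' x * y⁻¹ = E' (Tm *ᵥ x) := fun y hy x => by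
    have hq : y * (ul * ul)⁻¹ ∈ P := by rw [hmem, map_mul, map_inv, map_mul, hy, hul]; exact mul_inv_cancel tE
    have h1 : (ul * ul) * E' x * (ul * ul)⁻¹ = E' (Tm *ᵥ x) := by
      show _ = ((e (Tm *ᵥ x) : P) : Y)
      rw [Tm, ← Matrix.mulVec_mulVec, ← hU ul hul, hA, hA]
      show _ = ul * (ul * E' x * ul⁻¹) * ul⁻¹
      group
    calc y * E' x * y⁻¹ = y * (ul * ul)⁻¹ * ((ul * ul) * E' x * (ul * ul)⁻¹) * (y * (ul * ul)⁻¹)⁻¹ := by group
      _ = E' (Tm *ᵥ x) := by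
          rw [h1, hab _ hq _ (e (Tm *ᵥ x)).2]
          exact mul_inv_cancel_right _ _
  have hSm : ∀ y, π' y = sE → ∀ x, y * E' x * y⁻¹ = E' (Sm *ᵥ x) := fun y hy x => by
    show _ = ((e (Sm *ᵥ x) : P) : Y)
    rw [← hS y hy, hA]
  -- involutions over both
  obtain ⟨τ, hτ, hτ2⟩ : ∃ τ, π' τ = tE ∧ τ * τ = 1 := by
    obtain ⟨x, hx⟩ := hof (ul * ul * (ul * ul)) (hmem.2 (by
      rw [map_mul, map_mul, hul]; exact htt))
    have hfix : Um *ᵥ x = x := hEinj (by
      show ((e (Um *ᵥ x) : P) : Y) = _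
      rw [← hU ul hul, hA]
      show ul * E' x * ul⁻¹ = E' x
      rw [hx]
      group)
    obtain ⟨z, hz⟩ := cyclic_facts x hfix
    refine ⟨E' (-z) * (ul * ul), by rw [map_mul, hmem.1 (e (-z)).2, one_mul, map_mul, hul]; rfl, ?_⟩
    calc E' (-z) * (ul * ul) * (E' (-z) * (ul * ul))
        = E' (-z) * ((ul * ul) * E' (-z) * (ul * ul)⁻¹) * (ul * ul * (ul * ul)) :=
          (by intro a w; simp [mul_assoc] : ∀ a w : Y, a * w * (a * w) = a * (w * a * w⁻¹) * (w * w)) _ _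
      _ = E' (-z) * E' (Tm *ᵥ (-z)) * E' x := by rw [hTm _ (by rw [map_mul, hul]; rfl), hx]
      _ = 1 := by rw [← hE, ← hE, hz, Matrix.mulVec_neg, ← hE0]; exact congrArg E' (by abel)
  obtain ⟨k, hk'⟩ := involution_conj sE hss hs1
  obtain ⟨kl, hkl⟩ := hs k
  set σ := kl * τ * kl⁻¹
  have hσ : π' σ = sE := by rw [map_mul, map_mul, map_inv, hkl, hτ, hk']
  have hσ2 : σ * σ = 1 := by
    calc σ * σ = kl * (τ * τ) * kl⁻¹ := by simp only [σ]; group
      _ = 1 := by rw [hτ2, mul_one, mul_inv_cancel]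
  have hτi : τ⁻¹ = τ := inv_eq_of_mul_eq_one_left hτ2
  have hσi : σ⁻¹ = σ := inv_eq_of_mul_eq_one_left hσ2
  obtain ⟨κ, hκ⟩ := hof (σ * τ * σ * τ) (hmem.2 (by
    rw [map_mul, map_mul, map_mul, hσ, hτ, mul_assoc, mul_assoc, ← mul_assoc tE, ← hst, mul_assoc, htt, mul_one, hss]))
  have hTκ : Tm *ᵥ κ = -κ := hEinj (by
    rw [← hTm τ hτ, hEneg, hκ]
    simp only [_root_.mul_inv_rev, hτi, hσi]
    calc τ * (σ * τ * σ * τ) * τ = τ * σ * τ * σ * (τ * τ) := by group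
      _ = τ * (σ * (τ * σ)) := by rw [hτ2, mul_one]; group)
  have hSκ : Sm *ᵥ κ = -κ := hEinj (by
    rw [← hSm σ hσ, hEneg, hκ]
    simp only [_root_.mul_inv_rev, hτi, hσi]
    calc σ * (σ * τ * σ * τ) * σ = (σ * σ) * τ * σ * τ * σ := by group
      _ = τ * (σ * (τ * σ)) := by rw [hσ2, one_mul]; group)
  obtain ⟨y, hy, hκ'⟩ := pair_facts κ hTκ hSκ
  set τ' := E' y * τ
  have hτ' : π' τ' = tE := by rw [map_mul, hmem.1 (e y).2, one_mul, hτ]
  have hτ'2 : τ' * τ' = 1 := by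
    calc τ' * τ' = E' y * (τ * E' y * τ⁻¹) * (τ * τ) := by simp only [τ']; group
      _ = 1 := by rw [hTm τ hτ, hτ2, mul_one, ← hE, hy, hE0]
  have hτ'i : τ'⁻¹ = τ' := inv_eq_of_mul_eq_one_left hτ'2
  -- the section
  set N := zpowers (E' ![0, 2, 2])
  have hN : ∀ x : Vec4, (x = 0 ∨ x = ![0, 2, 2]) → E' x ∈ N := by
    rintro x (rfl | rfl)
    · rw [hE0]; exact one_mem _
    · exact mem_zpowers _
  have hNP : N ≤ P := zpowers_le.2 (e _).2
  set K : Set Y := E' '' {x | InK x}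
  have hNτ : ∀ g, (∀ x, g * E' x * g⁻¹ = E' (Tm *ᵥ x)) ∨ (∀ x, g * E' x * g⁻¹ = E' (Sm *ᵥ x)) →
      ∀ n ∈ N, g * n = n * g := by
    intro g hg n hn
    obtain ⟨j, rfl⟩ := mem_zpowers_iff.1 hn
    have h1 : Commute g (E' ![0, 2, 2]) := by
      rcases hg with h | h
      · have := h ![0, 2, 2]; rw [fixed_centre.1] at this; exact mul_inv_eq_iff_eq_mul.1 this
      · have := h ![0, 2, 2]; rw [fixed_centre.2] at this; exact mul_inv_eq_iff_eq_mul.1 this
    exact (h1.zpow_right j).eq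
  let gens : Set Y := K ∪ {τ', σ}
  have hTτ' := hTm τ' hτ'
  have hSσ := hSm σ hσ
  have hmixed : ∀ g, ((∀ x, g * E' x * g⁻¹ = E' (Tm *ᵥ x)) ∨ (∀ x, g * E' x * g⁻¹ = E' (Sm *ᵥ x))) → ∀ b ∈ K,
      g * b * g⁻¹ * b⁻¹ ∈ N ∧ b * g * b⁻¹ * g⁻¹ ∈ N := by
    rintro g hg _ ⟨x, hx, rfl⟩
    have h1 : g * E' x * g⁻¹ * (E' x)⁻¹ ∈ N := by
      obtain ⟨-, hT, hS'⟩ := kernel_facts x hx
      rcases hg with h | h <;> rw [h, ← hEneg, ← hE, ← sub_eq_add_neg]
      · exact hN _ hT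
      · exact hN _ hS'
    exact ⟨h1, by simpa [mul_assoc] using inv_mem h1⟩
  have hpair : σ * τ' * σ⁻¹ * τ'⁻¹ ∈ N ∧ τ' * σ * τ'⁻¹ * σ⁻¹ ∈ N := by
    have e1 : σ * τ' * σ⁻¹ * τ'⁻¹ = E' (κ + Sm *ᵥ y - y) := by
      rw [sub_eq_add_neg, add_comm κ, hE, hE, hEneg, ← hSσ y, hκ]
      simp only [τ', _root_.mul_inv_rev, hσi, hτi]
      calc σ * (E' y * τ) * σ * (τ * (E' y)⁻¹) = σ * E' y * 1 * τ * σ * τ * (E' y)⁻¹ := by group
        _ = σ * E' y * (σ * σ) * τ * σ * τ * (E' y)⁻¹ := by rw [hσ2]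
        _ = _ := by group
    have h1 : σ * τ' * σ⁻¹ * τ'⁻¹ ∈ N := e1 ▸ hN _ hκ'
    exact ⟨h1, by simpa [mul_assoc] using inv_mem h1⟩
  obtain ⟨hnorm, hsqU⟩ := sq_mem_of_gens (N := N) (gens := gens)
    (by
      rintro g (⟨x, hx, rfl⟩ | rfl | rfl) n hn
      · exact hab _ (e x).2 n (hNP hn)
      · exact hNτ _ (Or.inl hTτ') n hn
      · exact hNτ _ (Or.inr hSσ) n hn)
    (by
      rintro g (⟨x, hx, rfl⟩ | rfl | rfl)
      · rw [← hE]; exact hN _ (kernel_facts x hx).1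
      · rw [hτ'2]; exact one_mem _
      · rw [hσ2]; exact one_mem _)
    (by
      rintro s (hs | rfl | rfl) r (hr | rfl | rfl)
      · obtain ⟨x, -, rfl⟩ := hs
        obtain ⟨x', -, rfl⟩ := hr
        rw [hab _ (e x).2 _ (e x').2, mul_inv_cancel_right, mul_inv_cancel]
        exact one_mem _
      · exact (hmixed _ (Or.inl hTτ') s hs).2
      · exact (hmixed _ (Or.inr hSσ) s hs).2
      · exact (hmixed _ (Or.inl hTτ') r hr).1
      · simp
      · exact hpair.2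
      · exact (hmixed _ (Or.inr hSσ) r hr).1
      · exact hpair.1
      · simp)
  have hb := sq_subgroup_bound' E.rank hnorm hsqU
  have hNc : Nat.card N ≤ 2 := by
    rw [Nat.card_zpowers]
    exact orderOf_le_of_pow_eq_one two_pos (by rw [pow_two, ← hE, ← hE0]; exact congrArg E' (by decide))
  have hU64 : 64 ≤ Nat.card (closure gens) := by
    have hτmem : τ' ∈ closure gens := Subgroup.subset_closure (Or.inr (Set.mem_insert _ _))
    have hσmem : σ ∈ closure gens := Subgroup.subset_closure (Or.inr (Set.mem_insert_of_mem _ rfl))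
    let m : {x : Vec4 // InK x} × (Fin 2 × Fin 2) → closure gens := fun w =>
      ⟨E' w.1.1 * (τ' ^ (w.2.1 : ℕ) * σ ^ (w.2.2 : ℕ)),
        mul_mem (Subgroup.subset_closure (Or.inl ⟨_, w.1.2, rfl⟩)) (mul_mem
          ((closure gens).pow_mem hτmem _)
          ((closure gens).pow_mem hσmem _))⟩
    have hm : Function.Injective m := by
      rintro ⟨x, w⟩ ⟨x', w'⟩ heq
      have h1 := congrArg Subtype.val heq
      have h2 := congrArg π' h1
      simp only [m, map_mul, map_pow, hτ', hσ] at h2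
      rw [hmem.1 (e x.1).2, hmem.1 (e x'.1).2, one_mul, one_mul] at h2
      obtain rfl := red_facts.2.2.2.2 h2
      exact Prod.ext (Subtype.ext (hEinj (mul_right_cancel h1))) rfl
    have := Nat.card_le_card_of_injective m hm
    rwa [Nat.card_prod, Nat.card_prod, Nat.card_fin, Nat.card_eq_fintype_card, Fintype.card_subtype,
      red_facts.2.2.2.1] at this
  omega

end Cfsg.Lib.LThreeRadical
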