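import Cfsg.Agent.SolvStruct.LThreeRadical.Module

/-!
Invariant forms and quadratic maps for the linear group of degree three.
-/

set_option autoImplicit false
set_option linter.unusedSectionVars false
set_option linter.style.haveILetI false
set_option maxRecDepth 100000
set_option maxHeartbeats 1000000
set_option synthInstance.maxHeartbeats 400000
set_option synthInstance.maxSize 2000

namespace Cfsg.Lib.LThreeRadical

open Subgroup
open Cfsg.Lib.AltFiveRadical (IsQuad pairing)
open Cfsg.Lib.SymSixSection (fix inv_self' eq_of_mul_one)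

theorem square_stab : ∀ x : Vec2, x ≠ 0 → ∀ r : Vec2, r ≠ 0 → r ≠ x →
    ∃ σ : L3, act σ x = x ∧ act (σ * σ) r ≠ r := by
  decide +kernel

theorem hom_ext_seven {W : Type*} [Group W] (F : L3 →* W) (h : F fE = 1) : F = 1 := by
  rcases hom_dichotomy F with h' | h'
  · exact h'
  · exact absurd (h' (h.trans (map_one F).symm)) fE_pow.2

/-- the action on an invariant subgroup -/
def subAct {V : Type*} [CommGroup V] (ρ : L3 →* MulAut V) (W : Subgroup V) (hinv : ∀ σ : L3, ∀ w ∈ W, ρ σ w ∈ W) :
    L3 →* MulAut W where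
  toFun σ :=
    { toFun := fun w => ⟨ρ σ w, hinv σ _ w.2⟩
      invFun := fun w => ⟨ρ σ⁻¹ w, hinv _ _ w.2⟩
      left_inv := fun w => Subtype.ext (by
        show ρ σ⁻¹ (ρ σ w) = w
        rw [← MulAut.mul_apply, ← map_mul, inv_mul_cancel, map_one, MulAut.one_apply])
      right_inv := fun w => Subtype.ext (by
        show ρ σ (ρ σ⁻¹ w) = w
        rw [← MulAut.mul_apply, ← map_mul, mul_inv_cancel, map_one, MulAut.one_apply])
      map_mul' := fun a b => Subtype.ext (map_mul (ρ σ) _ _) }
  map_one' := MulEquiv.ext fun w => Subtype.ext (by show ρ 1 (w : V) = w; rw [map_one]; rfl)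
  map_mul' := fun σ τ => MulEquiv.ext fun w => Subtype.ext (by
    show ρ (σ * τ) (w : V) = ρ σ (ρ τ w)
    rw [map_mul]; rfl)

theorem subAct_apply {V : Type*} [CommGroup V] (ρ : L3 →* MulAut V) (W : Subgroup V)
    (hinv : ∀ σ : L3, ∀ w ∈ W, ρ σ w ∈ W) (σ : L3) (w : W) : ((subAct ρ W hinv σ w : W) : V) = ρ σ w := rfl

section

variable {V : Type*} [CommGroup V] [Finite V] {ρ : L3 →* MulAut V} (hexp : ∀ a : V, a * a = 1)
  (hle : Nat.card V ≤ 16) (hρ : Function.Injective ρ)
include hexp hle hρ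

theorem subAct_injective {W : Subgroup V} (hinv : ∀ σ : L3, ∀ w ∈ W, ρ σ w ∈ W) (hW : 4 ≤ Nat.card W) :
    Function.Injective (subAct ρ W hinv) := by
  rcases hom_dichotomy (subAct ρ W hinv) with h | h
  · exfalso
    have hle' : W ≤ fix (ρ fE) := fun w hw => by
      show ρ fE w = w
      exact congrArg Subtype.val (DFunLike.congr_fun (DFunLike.congr_fun h fE) ⟨w, hw⟩)
    have := Nat.card_le_card_of_injective _ (Subgroup.inclusion_injective hle')
    rcases seven_facts ρ hexp hle hρ fE_pow.1 fE_pow.2 with ⟨-, h8⟩ | ⟨-, h16⟩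
    · rw [h8, Subgroup.card_bot] at this; omega
    · omega
  · exact h

theorem fixed_eq_one_of_eight (h8 : Nat.card V = 8) {v : V} (hv : ρ fE v = v) : v = 1 :=
  nat_seven hexp h8 hρ fE_pow.1 fE_pow.2 hv

/-- an invariant symmetric form is trivial -/
theorem form_trivial {Z : Type*} [CommGroup Z] (hZ : ∀ z : Z, z * z = 1) (b : V → V → Z)
    (hl : ∀ x y z, b (x * y) z = b x z * b y z) (hs : ∀ x y, b x y = b y x) (hd : ∀ x, b x x = 1)
    (hinv : ∀ x y, b (ρ fE x) (ρ fE y) = b x y) : ∀ x y, b x y = 1 := by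
  have h7 : ρ fE ^ 7 = 1 := by rw [← map_pow, fE_pow.1, map_one]
  have h1 : ρ fE ≠ 1 := (map_ne_one_iff ρ hρ).2 fE_pow.2
  rcases card_cases ρ hexp hle hρ with h8 | h16
  · exact form_zero hexp h8 h7 h1 b hZ hl hs hd hinv
  obtain ⟨hW, hWf, hWinv⟩ := commSeven_facts ρ hexp hle hρ h16
  set W := commSeven ρ with hWdef
  obtain ⟨hc, hf⟩ : Nat.card V = 16 ∧ Nat.card (fix (ρ fE)) = 2 := by
    rcases seven_facts ρ hexp hle hρ fE_pow.1 fE_pow.2 with h | h
    · omega
    · exact h
  obtain ⟨⟨z, hzf⟩, hz1⟩ := Subgroup.ne_bot_iff_exists_ne_one.1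
    (fun e => by rw [e, Subgroup.card_bot] at hf; omega : fix (ρ fE) ≠ ⊥)
  have hzf' : ρ fE z = z := hzf
  have hzW : z ∉ W := fun h => hz1 (Subtype.ext (hWf z h hzf'))
  have hidx : W.index = 2 := by
    have := W.card_mul_index
    rw [hW, h16] at this
    omega
  let φ : MulAut W :=
    MulEquiv.ofBijective (((ρ fE).toMonoidHom.comp W.subtype).codRestrict W fun w => hWinv _ w.2)
      (Finite.injective_iff_bijective.1 fun a b e => Subtype.ext ((ρ fE).injective (congrArg Subtype.val e)))
  have hφn : ∀ (n : ℕ) (w : W), (((φ ^ n) w : W) : V) = (ρ fE ^ n) w := by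
    intro n
    induction n with
    | zero => intro w; rfl
    | succ n ih =>
      intro w
      rw [pow_succ', pow_succ', MulAut.mul_apply, MulAut.mul_apply, ← ih]
      rfl
  have hφ7 : φ ^ 7 = 1 := MulEquiv.ext fun w => Subtype.ext (by rw [hφn, h7]; rfl)
  have hφ1 : φ ≠ 1 := by
    intro e
    obtain ⟨w, hw⟩ := Subgroup.ne_bot_iff_exists_ne_one.1 (fun e' => by rw [e', Subgroup.card_bot] at hW; omega : W ≠ ⊥)
    exact hw (Subtype.ext (hWf _ w.2 (congrArg Subtype.val (DFunLike.congr_fun e w))))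
  have hWW : ∀ x ∈ W, ∀ y ∈ W, b x y = 1 := fun x hx y hy =>
    form_zero (fun a : W => Subtype.ext (hexp a)) hW hφ7 hφ1 (fun a c => b a c) hZ (fun a c d => hl _ _ _)
      (fun a c => hs _ _) (fun a => hd _) (fun a c => hinv _ _) ⟨x, hx⟩ ⟨y, hy⟩
  have hzw : ∀ w ∈ W, b z w = 1 := by
    rintro _ ⟨a, rfl⟩
    show b z (ρ fE a * a) = 1
    rw [hs, hl, hs, hs a]
    have := hinv z a
    rw [hzf'] at this
    rw [this, hZ]
  have hgen : ∀ x, ∃ w ∈ W, x = w ∨ x = z * w := fun x => by
    by_cases hx : x ∈ W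
    · exact ⟨x, hx, Or.inl rfl⟩
    · exact ⟨z * x, (Subgroup.mul_mem_iff_of_index_two hidx).2 (iff_of_false hzW hx),
        Or.inr (by rw [← mul_assoc, hexp, one_mul])⟩
  intro x y
  obtain ⟨w, hw, rfl | rfl⟩ := hgen x <;> obtain ⟨w', hw', rfl | rfl⟩ := hgen y
  · exact hWW _ hw _ hw'
  · rw [hs, hl, hzw _ hw, hs, hWW _ hw _ hw', one_mul]
  · rw [hl, hzw _ hw', hWW _ hw _ hw', one_mul]
  · rw [hl, hs z, hl, hd, hs w', hzw _ hw', hs w, hl, hs w', hzw _ hw, hWW _ hw _ hw']
    simp

theorem invariant_quad {Z : Type*} [CommGroup Z] {q : V → Z} (hq : IsQuad q) (hinv : ∀ σ v, q (ρ σ v) = q v)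
    (u v : V) : q (u * v) = q u * q v := by
  have h := form_trivial hexp hle hρ hq.expR (pairing q) hq.pairing_mul hq.pairing_comm hq.pairing_self
    (fun x y => by rw [pairing, pairing, ← map_mul, hinv, hinv, hinv]) u v
  rw [hq.mul_eq, h, one_mul]

end

section natural

variable {W R : Type*} [CommGroup W] [Finite W] [CommGroup R] [Finite R] {ρ : L3 →* MulAut W} {τ : L3 →* MulAut R}
  (heW : ∀ a : W, a * a = 1) (hW : Nat.card W = 8) (hρ : Function.Injective ρ)
  (heR : ∀ a : R, a * a = 1) (hR : Nat.card R = 8) (hτ : Function.Injective τ)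
include heW hW hρ heR hR hτ

/-- an equivariant map between natural modules is linear -/
theorem natural_linear {h : W → R} (h1 : h 1 = 1) (heq : ∀ σ w, h (ρ σ w) = τ σ (h w)) (hne : ∃ w, h w ≠ 1) :
    Function.Injective h ∧ ∀ u v, h (u * v) = h u * h v := by
  classical
  obtain ⟨w₀, hw₀⟩ := hne
  have hnz : ∀ w, w ≠ 1 → h w ≠ 1 := by
    intro w hw e
    obtain ⟨σ, rfl⟩ := nat_trans heW hW hρ hw (fun e' => hw₀ (by rw [e', h1]) : w₀ ≠ 1)
    exact hw₀ (by rw [heq, e, map_one])
  have hinj : Function.Injective h := by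
    intro u v e
    by_contra hne
    have hu : u ≠ 1 := fun e1 => hnz v (fun e2 => hne (e1.trans e2.symm)) (by rw [← e, e1, h1])
    have hv : v ≠ 1 := fun e1 => hnz u hu (by rw [e, e1, h1])
    have hall : ∀ w, w ≠ 1 → h w = h u := by
      intro w hw
      by_cases hwu : w = u
      · rw [hwu]
      obtain ⟨σ, hσu, hσv⟩ := nat_trans_pair heW hW hρ hu hv hne hu hw (Ne.symm hwu)
      rw [← hσv, heq, ← e, ← heq, hσu]
    have hfix : τ fE (h u) = h u := by
      rw [← heq]
      exact hall _ fun e' => hu ((ρ fE).injective (e'.trans (map_one _).symm))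
    exact hnz u hu (nat_seven heR hR hτ fE_pow.1 fE_pow.2 hfix)
  refine ⟨hinj, fun u v => ?_⟩
  by_cases hu : u = 1
  · rw [hu, h1, one_mul, one_mul]
  by_cases hv : v = 1
  · rw [hv, h1, mul_one, mul_one]
  by_cases huv : u = v
  · rw [huv, heW, h1, heR]
  obtain ⟨σ, h2, hσ1, hσu, hσv⟩ := nat_fix_pair heW hW hρ u v
  have hcard := nat_fix_inv heR hR hτ h2 hσ1
  have m1 : h u ∈ fix (τ σ) := show τ σ (h u) = h u by rw [← heq, hσu]
  have m2 : h v ∈ fix (τ σ) := show τ σ (h v) = h v by rw [← heq, hσv]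
  have m3 : h (u * v) ∈ fix (τ σ) := show τ σ (h (u * v)) = h (u * v) by rw [← heq, map_mul, hσu, hσv]
  by_contra hne
  have n1 : h (u * v) ≠ 1 := hnz _ fun e => huv (eq_of_mul_one heW e).symm
  have n2 : h (u * v) ≠ h u := fun e => hv (mul_eq_left.1 (hinj e))
  have n3 : h (u * v) ≠ h v := fun e => hu (mul_eq_right.1 (hinj e))
  have n4 : h u ≠ h v := hinj.ne huv
  have n5 : h u * h v ≠ 1 := fun e => n4 (eq_of_mul_one heR e).symm
  haveI := Fintype.ofFinite (fix (τ σ))
  have hsub : ({h (u * v), 1, h u, h v, h u * h v} : Finset R) ⊆ ((fix (τ σ) : Subgroup R) : Set R).toFinite.toFinset := by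
    intro y hy
    simp only [Finset.mem_insert, Finset.mem_singleton] at hy
    rw [Set.Finite.mem_toFinset]
    rcases hy with rfl | rfl | rfl | rfl | rfl
    exacts [m3, one_mem _, m1, m2, mul_mem m1 m2]
  have h5 := Finset.card_le_card hsub
  rw [← Set.ncard_eq_toFinset_card _ ((fix (τ σ) : Set R).toFinite), ← Nat.card_coe_set_eq, SetLike.coe_sort_coe] at h5
  rw [Finset.card_insert_of_notMem (by simp [n1, n2, n3, hne]),
    Finset.card_insert_of_notMem (by simp [Ne.symm (hnz u hu), Ne.symm (hnz v hv), Ne.symm n5]),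
    Finset.card_insert_of_notMem (by simp [n4, hnz v hv]),
    Finset.card_insert_of_notMem (by simp [hnz u hu]), Finset.card_singleton] at h5
  omega

end natural

/-- classification of equivariant quadratic maps from order sixteen to order eight -/
theorem quad_sixteen {V R : Type*} [CommGroup V] [Finite V] [CommGroup R] [Finite R] {q : V → R} (hq : IsQuad q)
    {ρ : L3 →* MulAut V} {τ : L3 →* MulAut R} (hV : Nat.card V = 16) (hρ : Function.Injective ρ)
    (hR : Nat.card R = 8) (hτ : Function.Injective τ) (heq : ∀ σ v, q (ρ σ v) = τ σ (q v)) (hne : ∃ v, q v ≠ 1) :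
    (∃ z, z ≠ 1 ∧ (∀ σ, ρ σ z = z) ∧ (∀ u v, q (u * v) = q u * q v) ∧ (∀ v, q v = 1 ↔ (v = 1 ∨ v = z)) ∧
        (∀ σ : L3, (∀ v, ρ σ v = v ∨ ρ σ v = v * z) → σ = 1) ∧
        ∀ σ : L3, σ * σ = 1 → σ ≠ 1 → Nat.card (fix (τ σ)) = 4) ∨
      ∃ W : Subgroup V, Nat.card W = 8 ∧ (∀ σ : L3, ∀ w ∈ W, ρ σ w ∈ W) ∧ ((∀ w ∈ W, q w = 1) ∨
        ((∀ u ∈ W, ∀ w ∈ W, q (u * w) = q u * q w) ∧ (∀ w ∈ W, q w = 1 → w = 1) ∧
          ∃ v₀ ∉ W, ∀ w ∈ W, pairing q v₀ w = q w)) := by
  classical
  have hexp := hq.expV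
  have heR := hq.expR
  have hfixR : ∀ r : R, (∀ σ, τ σ r = r) → r = 1 := fun r hr => nat_seven heR hR hτ fE_pow.1 fE_pow.2 (hr fE)
  by_cases hz : ∃ z, z ≠ 1 ∧ ∀ σ, ρ σ z = z
  · obtain ⟨z, hz1, hzfix⟩ := hz
    have hqz : q z = 1 := hfixR _ fun σ => by rw [← heq, hzfix]
    let Zc : Subgroup V := zpowers z
    have hZc : ∀ v ∈ Zc, v = 1 ∨ v = z := by
      intro v hv
      obtain ⟨j, rfl⟩ := mem_zpowers_iff.1 hv
      rcases Int.even_or_odd' j with ⟨k, rfl | rfl⟩
      · left
        rw [zpow_mul, zpow_two, hexp, one_zpow]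
      · right
        rw [zpow_add, zpow_one, zpow_mul, zpow_two, hexp, one_zpow, one_mul]
    have hcardZ : Nat.card Zc = 2 := by
      rw [Nat.card_zpowers]
      exact orderOf_eq_prime (by rw [pow_two, hexp]) hz1
    have hcard : Nat.card (V ⧸ Zc) = 8 := by
      have := Zc.card_mul_index
      rw [Subgroup.index_eq_card, hcardZ, hV] at this
      omega
    have hexpQ : ∀ a : V ⧸ Zc, a * a = 1 := fun a => by
      obtain ⟨a, rfl⟩ := QuotientGroup.mk_surjective a
      rw [← QuotientGroup.mk_mul, hexp, QuotientGroup.mk_one]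
    have hmap : ∀ σ, Zc.map (ρ σ).toMonoidHom = Zc := fun σ => by
      rw [MonoidHom.map_zpowers]
      show zpowers (ρ σ z) = _
      rw [hzfix]
    let ρQ : L3 →* MulAut (V ⧸ Zc) :=
      { toFun := fun σ => QuotientGroup.congr Zc Zc (ρ σ) (hmap σ)
        map_one' := MulEquiv.ext fun a => by
          obtain ⟨a, rfl⟩ := QuotientGroup.mk_surjective a
          show ((ρ 1 a : V) : V ⧸ Zc) = _
          rw [map_one]; rfl
        map_mul' := fun σ σ' => MulEquiv.ext fun a => by
          obtain ⟨a, rfl⟩ := QuotientGroup.mk_surjective a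
          show ((ρ (σ * σ') a : V) : V ⧸ Zc) = ((ρ σ (ρ σ' a) : V) : V ⧸ Zc)
          rw [map_mul]; rfl }
    have hmk : ∀ σ (v : V), ρQ σ (v : V ⧸ Zc) = ((ρ σ v : V) : V ⧸ Zc) := fun σ v => rfl
    have hzero : ∀ σ : L3, (∀ v, ρ σ v = v ∨ ρ σ v = v * z) → ρQ σ = 1 := fun σ h => MulEquiv.ext fun a => by
      obtain ⟨a, rfl⟩ := QuotientGroup.mk_surjective a
      rw [hmk, MulAut.one_apply]
      rcases h a with e | e <;> rw [e]
      rw [QuotientGroup.mk_mul, (QuotientGroup.eq_one_iff z).2 (mem_zpowers z), mul_one]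
    have hρQ : Function.Injective ρQ := by
      rcases hom_dichotomy ρQ with h | h
      · exfalso
        refine fE_pow.2 (hρ ((MulEquiv.ext fun v => ?_ : ρ fE = 1).trans (map_one ρ).symm))
        rw [MulAut.one_apply]
        have e : ((ρ fE v : V) : V ⧸ Zc) = v := DFunLike.congr_fun (DFunLike.congr_fun h fE) (v : V ⧸ Zc)
        have h2 := QuotientGroup.eq.1 e.symm
        rcases hZc _ h2 with h3 | h3
        · exact (inv_mul_eq_one.1 h3).symm
        · exfalso
          have hv : ρ fE v = v * z := by rw [← h3, mul_inv_cancel_left]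
          have e7 : ρ (fE ^ 7) v = v := by rw [fE_pow.1, map_one]; rfl
          rw [map_pow] at e7
          simp only [pow_succ, pow_zero, one_mul, MulAut.mul_apply, hv, map_mul, hzfix, mul_assoc, hexp, mul_one] at e7
          exact hz1 (mul_eq_left.1 e7)
      · exact h
    have hfaith : ∀ σ : L3, (∀ v, ρ σ v = v ∨ ρ σ v = v * z) → σ = 1 := fun σ h =>
      hρQ ((hzero σ h).trans (map_one ρQ).symm)
    -- the pairing with the fixed vector
    let θ : V → R := fun v => pairing q z v
    have hθmul : ∀ u v, θ (u * v) = θ u * θ v := fun u v => by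
      show pairing q z (u * v) = _
      rw [hq.pairing_comm, hq.pairing_mul, hq.pairing_comm u, hq.pairing_comm v]
    have hθz : θ z = 1 := hq.pairing_self z
    have hθeq : ∀ σ v, θ (ρ σ v) = τ σ (θ v) := fun σ v => by
      show pairing q z (ρ σ v) = τ σ (pairing q z v)
      rw [pairing, pairing, map_mul, map_mul, ← heq, ← heq, ← heq, map_mul, hzfix]
    have hqzv : ∀ v, q (v * z) = θ v * q v := fun v => by
      rw [hq.mul_eq, hq.pairing_comm, hqz, mul_one]
    by_cases hθ : ∀ v, θ v = 1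
    · left
      have hinvz : ∀ v, q (v * z) = q v := fun v => by rw [hqzv, hθ, one_mul]
      let qQ : V ⧸ Zc → R := Quotient.lift q fun a b hab => by
        have h := QuotientGroup.leftRel_apply.1 hab
        rcases hZc _ h with e | e
        · rw [inv_mul_eq_one.1 e]
        · rw [← mul_inv_cancel_left a b, e, hinvz]
      have hqQ : ∀ v : V, qQ (v : V ⧸ Zc) = q v := fun v => rfl
      obtain ⟨hinjQ, hmulQ⟩ := natural_linear hexpQ hcard hρQ heR hR hτ (h := qQ)
        ((hqQ 1).trans hq.map_one') (fun σ a => by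
          obtain ⟨a, rfl⟩ := QuotientGroup.mk_surjective a
          rw [hmk, hqQ, hqQ, heq])
        (by obtain ⟨v, hv⟩ := hne; exact ⟨v, hv⟩)
      refine ⟨z, hz1, hzfix, fun u v => ?_, fun v => ⟨fun hv => ?_, ?_⟩, hfaith, fun σ h2 h1 => nat_fix_inv heR hR hτ h2 h1⟩
      · rw [← hqQ (u * v), QuotientGroup.mk_mul, hmulQ, hqQ, hqQ]
      · refine hZc v ((QuotientGroup.eq_one_iff v).1 (hinjQ ?_))
        rw [hqQ, hv, show (1 : V ⧸ Zc) = ((1 : V) : V ⧸ Zc) from rfl, hqQ, hq.map_one']
      · rintro (rfl | rfl)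
        · exact hq.map_one'
        · exact hqz
    · right
      push Not at hθ
      obtain ⟨v₁, hv₁⟩ := hθ
      let θQ : V ⧸ Zc → R := Quotient.lift θ fun a b hab => by
        have h := QuotientGroup.leftRel_apply.1 hab
        rcases hZc _ h with e | e
        · rw [inv_mul_eq_one.1 e]
        · rw [← mul_inv_cancel_left a b, e, hθmul, hθz, mul_one]
      have hθQ : ∀ v : V, θQ (v : V ⧸ Zc) = θ v := fun v => rfl
      obtain ⟨hθinj, -⟩ := natural_linear hexpQ hcard hρQ heR hR hτ (h := θQ)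
        ((hθQ 1).trans (by show pairing q z 1 = 1; rw [hq.pairing_comm]; exact hq.pairing_one z)) (fun σ a => by
          obtain ⟨a, rfl⟩ := QuotientGroup.mk_surjective a
          rw [hmk, hθQ, hθQ, hθeq])
        ⟨v₁, hv₁⟩
      have hθ1 : ∀ v, θ v = 1 → v = 1 ∨ v = z := fun v hv => hZc v ((QuotientGroup.eq_one_iff v).1 (hθinj (by
        rw [hθQ, hv, show (1 : V ⧸ Zc) = ((1 : V) : V ⧸ Zc) from rfl, hθQ]
        exact ((hq.pairing_comm z 1).trans (hq.pairing_one z)).symm)))
      have hθeqv : ∀ u v, θ u = θ v → u = v ∨ u = v * z := fun u v e => by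
        have h := hθ1 (u * v) (by rw [hθmul, e, heR])
        rcases h with h | h
        · exact Or.inl (eq_of_mul_one hexp (a := v) (by rw [mul_comm]; exact h))
        · exact Or.inr (by rw [← h, mul_comm u v, ← mul_assoc, hexp, one_mul])
      -- two values
      obtain ⟨i, β, hi, hβ⟩ := exists_natural heR hR hτ
      have hi1 : i 1 = 0 := by
        have := hi 1 1
        rw [mul_one] at this
        exact left_eq_add.1 this
      have hval : ∀ v, v ≠ 1 → v ≠ z → q v = 1 ∨ q v = θ v := by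
        intro v h1 h2
        by_contra hcon
        push Not at hcon
        have hx : i (θ v) ≠ 0 := fun e => (hθ1 v (i.injective (e.trans hi1.symm))).elim h1 h2
        obtain ⟨σ, hσ, hσr⟩ := square_stab _ hx (i (q v)) (fun e => hcon.1 (i.injective (e.trans hi1.symm)))
          (fun e => hcon.2 (i.injective e))
        apply hσr
        have h3 : θ (ρ (β.symm σ) v) = θ v := i.injective (by rw [hθeq, hβ, β.apply_symm_apply, hσ])
        have h4 : ρ (β.symm σ * β.symm σ) v = v := by
          rw [map_mul, MulAut.mul_apply]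
          rcases hθeqv _ _ h3 with e | e <;> rw [e]
          · exact e
          · rw [map_mul, e, hzfix, mul_assoc, hexp, mul_one]
        have h5 : τ (β.symm σ * β.symm σ) (q v) = q v := by rw [← heq, h4]
        have h6 := congrArg i h5
        rwa [hβ, map_mul, β.apply_symm_apply] at h6
      -- the two sections
      let S1 : V → Prop := fun v => v = 1 ∨ (v ≠ z ∧ q v = θ v)
      let S0 : V → Prop := fun v => v = 1 ∨ (v ≠ z ∧ q v = 1)
      have hshift : ∀ v, v ≠ 1 → v ≠ z → (S1 (v * z) ↔ S0 v) ∧ (S0 (v * z) ↔ S1 v) := by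
        intro v h1 h2
        have hne1 : v * z ≠ 1 := fun e => h2 (eq_of_mul_one hexp e).symm
        have hnez : v * z ≠ z := fun e => h1 (mul_eq_right.1 e)
        simp only [S1, S0, hne1, hnez, h1, h2, false_or, ne_eq, not_false_eq_true, true_and, hqzv, hθmul, hθz, mul_one]
        constructor
        · exact mul_eq_left
        · constructor
          · intro e
            exact (eq_of_mul_one heR e)
          · intro e
            rw [e, heR]
      have huniq : ∀ u w, S1 u → S1 w → θ u = θ w → u = w := by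
        intro u w hu hw e
        rcases hθeqv u w e with h | h
        · exact h
        exfalso
        rcases hw with hw | ⟨hwz, hw⟩
        · rw [hw, one_mul] at h
          rcases hu with hu | ⟨huz, -⟩
          · exact hz1 (h.symm.trans hu)
          · exact huz h
        have hw1 : w ≠ 1 := fun e' => by
          rw [e', one_mul] at h
          rcases hu with hu | ⟨huz, -⟩
          · exact hz1 (h.symm.trans hu)
          · exact huz h
        have h0 := (hshift w hw1 hwz).1.1 (h ▸ hu)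
        rcases h0 with h0 | ⟨-, h0⟩
        · exact hw1 h0
        · exact ((hθ1 w (hw.symm.trans h0)).elim hw1 hwz)
      have hS1inv : ∀ σ v, S1 v → S1 (ρ σ v) := by
        rintro σ v (rfl | ⟨h1, h2⟩)
        · exact Or.inl (map_one _)
        · exact Or.inr ⟨fun e => h1 ((ρ σ).injective (e.trans (hzfix σ).symm)), by rw [heq, hθeq, h2]⟩
      have hS1surj : ∀ v, ∃ u, S1 u ∧ θ u = θ v := fun v => by
        by_cases h1 : v = 1
        · exact ⟨v, Or.inl h1, rfl⟩
        by_cases h2 : v = z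
        · exact ⟨1, Or.inl rfl, by rw [h2, hθz]; exact (hq.pairing_comm z 1).trans (hq.pairing_one z)⟩
        rcases hval v h1 h2 with h | h
        · exact ⟨v * z, (hshift v h1 h2).1.2 (Or.inr ⟨h2, h⟩), by rw [hθmul, hθz, mul_one]⟩
        · exact ⟨v, Or.inr ⟨h2, h⟩, rfl⟩
      have hstep : ∀ x y x' y', x ≠ 1 → y ≠ 1 → x ≠ y → x' ≠ 1 → y' ≠ 1 → x' ≠ y' → S1 x → S1 y → S1 x' → S1 y' →
          S1 (x * y) → S1 (x' * y') := by
        intro x y x' y' hx hy hxy hx' hy' hxy' sx sy sx' sy' h
        have hbne : ∀ {a : V}, a ≠ 1 → S1 a → θ a ≠ 1 := fun ha sa e => by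
          rcases hθ1 _ e with h' | h'
          · exact ha h'
          · exact (sa.resolve_left ha).1 h'
        obtain ⟨σ, hσx, hσy⟩ := nat_trans_pair heR hR hτ (hbne hx sx) (hbne hy sy)
          (fun e => hxy (huniq _ _ sx sy e)) (hbne hx' sx') (hbne hy' sy') (fun e => hxy' (huniq _ _ sx' sy' e))
        have e1 : ρ σ x = x' := huniq _ _ (hS1inv σ x sx) sx' (by rw [hθeq, hσx])
        have e2 : ρ σ y = y' := huniq _ _ (hS1inv σ y sy) sy' (by rw [hθeq, hσy])
        rw [← e1, ← e2, ← map_mul]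
        exact hS1inv σ _ h
      have hmk8 : ∀ (W : Subgroup V), (∀ u ∈ W, ∀ w ∈ W, θ u = θ w → u = w) →
          (∀ v, ∃ u ∈ W, θ u = θ v) → Nat.card W = 8 := by
        intro W hi' hs'
        rw [← hcard]
        refine Nat.card_congr (Equiv.ofBijective (fun w : W => ((w : V) : V ⧸ Zc)) ⟨fun a b e => ?_, fun a => ?_⟩)
        · exact Subtype.ext (hi' _ a.2 _ b.2 (congrArg θQ e))
        · obtain ⟨a, rfl⟩ := QuotientGroup.mk_surjective a
          obtain ⟨u, hu, e⟩ := hs' a
          exact ⟨⟨u, hu⟩, hθinj (by rw [hθQ, hθQ, e])⟩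
      by_cases hclosed : ∀ x y, S1 x → S1 y → S1 (x * y)
      · let W : Subgroup V :=
          { carrier := {v | S1 v}
            one_mem' := Or.inl rfl
            mul_mem' := fun ha hb => hclosed _ _ ha hb
            inv_mem' := fun {a} ha => by rw [inv_self' hexp]; exact ha }
        have hzW : z ∉ W := fun h => by
          rcases h with h | ⟨h, -⟩
          · exact hz1 h
          · exact h rfl
        have hqW : ∀ w ∈ W, q w = θ w := by
          rintro w (rfl | ⟨-, h⟩)
          · rw [hq.map_one']; exact ((hq.pairing_comm z 1).trans (hq.pairing_one z)).symm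
          · exact h
        refine ⟨W, hmk8 W (fun u hu w hw e => huniq u w hu hw e) hS1surj, hS1inv, Or.inr ⟨fun u hu w hw => ?_, fun w hw e => ?_, z, hzW, fun w hw => (hqW w hw).symm⟩⟩
        · rw [hqW _ (mul_mem hu hw), hqW u hu, hqW w hw, hθmul]
        · exact huniq w 1 hw (Or.inl rfl) (by
            rw [← hqW w hw, e]; exact ((hq.pairing_comm z 1).trans (hq.pairing_one z)).symm)
      · push Not at hclosed
        obtain ⟨x₀, y₀, sx₀, sy₀, hxy₀⟩ := hclosed
        have hx₀ : x₀ ≠ 1 := fun e => hxy₀ (by rw [e, one_mul]; exact sy₀)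
        have hy₀ : y₀ ≠ 1 := fun e => hxy₀ (by rw [e, mul_one]; exact sx₀)
        have hxy₀' : x₀ ≠ y₀ := fun e => hxy₀ (by rw [e, hexp]; exact Or.inl rfl)
        have hnever : ∀ x y, x ≠ 1 → y ≠ 1 → x ≠ y → S1 x → S1 y → ¬ S1 (x * y) := fun x y h1 h2 h3 s1 s2 h =>
          hxy₀ (hstep x y x₀ y₀ h1 h2 h3 hx₀ hy₀ hxy₀' s1 s2 sx₀ sy₀ h)
        have hS0 : ∀ v, S0 v → v ≠ 1 → v ≠ z ∧ S1 (v * z) := by
          rintro v (h | ⟨h1, h2⟩) hv
          · exact absurd h hv
          · exact ⟨h1, (hshift v hv h1).1.2 (Or.inr ⟨h1, h2⟩)⟩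
        let W : Subgroup V :=
          { carrier := {v | S0 v}
            one_mem' := Or.inl rfl
            mul_mem' := fun {a b} ha hb => by
              by_cases h1 : a = 1
              · rw [h1, one_mul]; exact hb
              by_cases h2 : b = 1
              · rw [h2, mul_one]; exact ha
              by_cases h3 : a = b
              · rw [h3, hexp]; exact Or.inl rfl
              obtain ⟨haz, sa⟩ := hS0 a ha h1
              obtain ⟨hbz, sb⟩ := hS0 b hb h2
              have hn := hnever _ _ (fun e => haz (eq_of_mul_one hexp e).symm) (fun e => hbz (eq_of_mul_one hexp e).symm)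
                (fun e => h3 (mul_right_cancel e)) sa sb
              rw [mul_mul_mul_comm, hexp, mul_one] at hn
              have hne1 : a * b ≠ 1 := fun e => hn (by rw [e]; exact Or.inl rfl)
              have hnez : a * b ≠ z := by
                intro e
                exact h3 (huniq _ _ sa sb (by
                  have := congrArg θ e
                  rw [hθmul, hθz] at this
                  rw [hθmul, hθmul, (eq_of_mul_one heR this).symm]) |> mul_right_cancel)
              rcases hval _ hne1 hnez with h | h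
              · exact Or.inr ⟨hnez, h⟩
              · exact absurd (Or.inr ⟨hnez, h⟩) hn
            inv_mem' := fun {a} ha => by rw [inv_self' hexp]; exact ha }
        refine ⟨W, hmk8 W ?_ ?_, ?_, Or.inl ?_⟩
        · intro u hu w hw e
          rcases hθeqv u w e with h | h
          · exact h
          exfalso
          have hz' : z ∈ W := by
            have := mul_mem hu hw
            rwa [h, mul_comm w z, mul_assoc, hexp, mul_one] at this
          rcases hz' with h' | ⟨h', -⟩
          · exact hz1 h'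
          · exact h' rfl
        · intro v
          by_cases h1 : θ v = 1
          · exact ⟨1, one_mem W, by rw [h1]; exact (hq.pairing_comm z 1).trans (hq.pairing_one z)⟩
          obtain ⟨u, hu, e⟩ := hS1surj v
          have hu1 : u ≠ 1 := fun e' => h1 (by rw [← e, e']; exact (hq.pairing_comm z 1).trans (hq.pairing_one z))
          have huz : u ≠ z := fun e' => h1 (by rw [← e, e', hθz])
          exact ⟨u * z, (hshift u hu1 huz).2.2 hu, by rw [hθmul, hθz, mul_one, e]⟩
        · rintro σ v (rfl | ⟨h1, h2⟩)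
          · exact Or.inl (map_one _)
          · exact Or.inr ⟨fun e => h1 ((ρ σ).injective (e.trans (hzfix σ).symm)), by rw [heq, h2, map_one]⟩
        · rintro w (rfl | ⟨-, h⟩)
          · exact hq.map_one'
          · exact h
  · right
    push Not at hz
    have hle : Nat.card V ≤ 16 := hV.le
    obtain ⟨z, hz1, hzall⟩ | hinv := reducible ρ hexp hle hρ hV
    · obtain ⟨σ, hσ⟩ := hz z hz1
      exact absurd (hzall σ) hσ
    obtain ⟨hW, -, -⟩ := commSeven_facts ρ hexp hle hρ hV
    set W := commSeven ρ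
    refine ⟨W, hW, hinv, ?_⟩
    by_cases hzero : ∀ w ∈ W, q w = 1
    · exact Or.inl hzero
    right
    push Not at hzero
    obtain ⟨w₁, hw₁, hw₁'⟩ := hzero
    obtain ⟨hinj, hmul⟩ := natural_linear (fun a : W => Subtype.ext (hexp a)) hW
      (subAct_injective hexp hle hρ hinv (by omega)) heR hR hτ (h := fun w : W => q w) hq.map_one'
      (fun σ w => heq σ w) ⟨⟨w₁, hw₁⟩, hw₁'⟩
    refine ⟨fun u hu w hw => hmul ⟨u, hu⟩ ⟨w, hw⟩, fun w hw e => ?_, ?_⟩
    · exact congrArg Subtype.val (hinj (a₁ := ⟨w, hw⟩) (a₂ := 1) (e.trans hq.map_one'.symm))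
    rcases coset_cases ρ hexp hle hρ hV hW hinv with ⟨v, hv, hall⟩ | ⟨-, htrans⟩
    · exfalso
      obtain ⟨σ, hσ⟩ := hz v (fun e => hv (e ▸ one_mem W))
      exact hσ (hall σ)
    obtain ⟨-, hf⟩ : Nat.card V = 16 ∧ Nat.card (fix (ρ fE)) = 2 := by
      rcases seven_facts ρ hexp hle hρ fE_pow.1 fE_pow.2 with h | h
      · omega
      · exact h
    obtain ⟨⟨z, hzf⟩, hz1⟩ := Subgroup.ne_bot_iff_exists_ne_one.1
      (fun e => by rw [e, Subgroup.card_bot] at hf; omega : fix (ρ fE) ≠ ⊥)
    have hzf' : ρ fE z = z := hzf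
    have hzW : z ∉ W := fun h => hz1 (Subtype.ext ((commSeven_facts ρ hexp hle hρ hV).2.1 z h hzf'))
    have hqz : q z = 1 := nat_seven heR hR hτ fE_pow.1 fE_pow.2 (by rw [← heq, hzf'])
    have hout : ∀ v ∉ W, q v = 1 := fun v hv => by
      obtain ⟨σ, rfl⟩ := htrans z hzW v hv
      rw [heq, hqz, map_one]
    refine ⟨z, hzW, fun w hw => ?_⟩
    rw [pairing, hqz, hout (z * w) (fun h => hzW (by simpa using mul_mem h (inv_mem hw))), one_mul, one_mul]

end Cfsg.Lib.LThreeRadical
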