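import Cfsg.Agent.SolvStruct.LThreeRadical.Homocyclic
import Cfsg.Agent.SolvStruct.LThreeRadical.Quadratic

/-!
Sections of rank five and reductions to the homocyclic case.
-/

set_option autoImplicit false
set_option linter.unusedSectionVars false
set_option linter.style.haveILetI false
set_option maxRecDepth 100000
set_option maxHeartbeats 1000000

namespace Cfsg.Lib.LThreeRadical

open Subgroup Matrix
open Cfsg.Lib.AltFiveRadical (IsQuad pairing)
open Cfsg.Lib.SymSixSection (fix inv_self' eq_of_mul_one)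

universe u
variable {Y : Type u} [Group Y] [Finite Y] {π : Y →* L3} {P R : Subgroup Y}

/-- an involution lifting into the central layer gives a large section -/
theorem section_bound (E : Setup π P) [R.Normal] (C : Central P R) {V : Type u} [CommGroup V] [Finite V]
    (L : Layer π P R V) (τR : L3 →* MulAut R) (hτR : ∀ (y : Y) (r : R), ((τR (π y) r : R) : Y) = y * r * y⁻¹)
    {t : L3} (ht1 : t ≠ 1) (τ : Y) (hτ : π τ = t) (hτ2 : τ * τ ∈ R) :
    letI := C.comm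
    Nat.card (fix (L.ρ t)) * Nat.card R * 2 ≤ Nat.card (fix (τR t)) * 16 := by
  classical
  haveI := E.normal
  letI := C.comm
  obtain ⟨q, hq, hqs⟩ := exists_quad L C
  have heq : ∀ σ v, q (L.ρ σ v) = τR σ (q v) := by
    intro σ v
    obtain ⟨y, rfl⟩ := E.surj σ
    obtain ⟨a, rfl⟩ := L.surj v
    rw [L.equiv y a ⟨_, Normal.conj_mem E.normal _ a.2 y⟩ rfl]
    apply Subtype.ext
    rw [hqs, hτR, hqs]
    show y * a * y⁻¹ * (y * a * y⁻¹) = _
    group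
  set N := (fix (τR t)).map R.subtype
  set K := L.pre (fix (L.ρ t))
  have hKP : K ≤ P := L.pre_le _
  have hNR : N ≤ R := Subgroup.map_subtype_le _
  have memN : ∀ r ∈ R, τ * r * τ⁻¹ = r → r ∈ N := fun r hr e =>
    ⟨⟨r, hr⟩, show τR t ⟨r, hr⟩ = ⟨r, hr⟩ by rw [← hτ]; exact Subtype.ext ((hτR τ _).trans e), rfl⟩
  have hNfix : ∀ n ∈ N, τ * n * τ⁻¹ = n := by
    rintro _ ⟨r, hr, rfl⟩
    have h := congrArg Subtype.val (show τR t r = r from hr)
    rw [← hτ, hτR] at h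
    exact h
  have hτ2N : τ * τ ∈ N := memN _ hτ2 (by group)
  have hK : ∀ k ∈ K, k * k ∈ N ∧ k⁻¹ * (τ * k * τ⁻¹) ∈ N := by
    intro k hk
    have hkP := hKP hk
    have hfix : L.ρ t (L.p ⟨k, hkP⟩) = L.p ⟨k, hkP⟩ := (L.mem_pre ⟨k, hkP⟩).1 hk
    constructor
    · refine ⟨q (L.p ⟨k, hkP⟩), show τR t _ = _ by rw [← heq, hfix], hqs ⟨k, hkP⟩⟩
    · have hd : k⁻¹ * (τ * k * τ⁻¹) ∈ R := (L.eq_iff ⟨k, hkP⟩ ⟨_, Normal.conj_mem E.normal k hkP τ⟩).1 (by
        rw [← L.equiv τ ⟨k, hkP⟩ ⟨_, Normal.conj_mem E.normal k hkP τ⟩ rfl, hτ, hfix])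
      refine memN _ hd ?_
      have hc : τ * τ * k * (τ * τ)⁻¹ = k := by
        rw [← C.cent k hkP _ hτ2, mul_inv_cancel_right]
      have e : τ * (k⁻¹ * (τ * k * τ⁻¹)) * τ⁻¹ = (τ * k * τ⁻¹)⁻¹ * (τ * τ * k * (τ * τ)⁻¹) := by group
      rw [e, hc]
      have e2 : (τ * k * τ⁻¹)⁻¹ * k = (k⁻¹ * (τ * k * τ⁻¹))⁻¹ := by group
      rw [e2]
      exact inv_eq_of_mul_eq_one_left (C.exp _ hd)
  have hcN : ∀ k ∈ K, ∀ n ∈ N, k * n = n * k := fun k hk n hn => C.cent k (hKP hk) n (hNR hn)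
  have hNK : N ≤ K := fun n hn => (L.mem_pre ⟨n, C.le (hNR hn)⟩).2 (by
    rw [(L.ker ⟨n, C.le (hNR hn)⟩).2 (hNR hn)]; exact one_mem _)
  have hτi : τ⁻¹ * τ⁻¹ ∈ N := by rw [← _root_.mul_inv_rev]; exact inv_mem hτ2N
  have hconj : ∀ k ∈ K, τ * k * τ⁻¹ ∈ K := fun k hk => by
    have := mul_mem hk (hNK (hK k hk).2)
    rwa [mul_inv_cancel_left] at this
  have hconj' : ∀ k ∈ K, τ⁻¹ * k * τ ∈ K := fun k hk => by
    have e : τ⁻¹ * k * τ = (τ * τ)⁻¹ * (τ * k * τ⁻¹) * (τ * τ) := by group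
    rw [e]
    exact mul_mem (mul_mem (inv_mem (hNK hτ2N)) (hconj k hk)) (hNK hτ2N)
  let U : Subgroup Y :=
    { carrier := {x | x ∈ K ∨ x * τ⁻¹ ∈ K}
      one_mem' := Or.inl (one_mem _)
      mul_mem' := by
        rintro x z (hx | hx) (hz | hz)
        · exact Or.inl (mul_mem hx hz)
        · exact Or.inr (by rw [mul_assoc]; exact mul_mem hx hz)
        · refine Or.inr ?_
          rw [show x * z * τ⁻¹ = x * τ⁻¹ * (τ * z * τ⁻¹) by group]
          exact mul_mem hx (hconj z hz)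
        · refine Or.inl ?_
          rw [show x * z = x * τ⁻¹ * (τ * (z * τ⁻¹) * τ⁻¹) * (τ * τ) by group]
          exact mul_mem (mul_mem hx (hconj _ hz)) (hNK hτ2N)
      inv_mem' := by
        rintro x (hx | hx)
        · exact Or.inl (inv_mem hx)
        · refine Or.inr ?_
          rw [show x⁻¹ * τ⁻¹ = τ⁻¹ * (x * τ⁻¹)⁻¹ * τ * (τ⁻¹ * τ⁻¹) by group]
          exact mul_mem (hconj' _ (inv_mem hx)) (hNK hτi) }
  have hcU : ∀ u ∈ U, ∀ n ∈ N, u * n = n * u := by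
    rintro u (hu | hu) n hn
    · exact hcN u hu n hn
    · have h2 : τ * n = n * τ := mul_inv_eq_iff_eq_mul.1 (hNfix n hn)
      calc u * n = u * τ⁻¹ * (τ * n) := by group
        _ = (u * τ⁻¹ * n) * τ := by rw [h2]; group
        _ = n * u := by rw [hcN _ hu n hn]; group
  have hnorm : U ≤ normalizer (N : Set Y) := fun u hu => by
    rw [mem_normalizer_iff]
    intro n
    refine ⟨fun hn => ?_, fun hn => ?_⟩
    · rwa [hcU u hu n hn, mul_inv_cancel_right]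
    · have h := hcU u⁻¹ (inv_mem hu) _ hn
      have e : u⁻¹ * (u * n * u⁻¹) * u = n := by group
      rw [h, inv_mul_cancel_right] at e
      rwa [← e]
  have hsqU : ∀ u ∈ U, u * u ∈ N := by
    rintro u (hu | hu)
    · exact (hK u hu).1
    · set k := u * τ⁻¹
      have e : u * u = k * k * (k⁻¹ * (τ * k * τ⁻¹)) * (τ * τ) := by simp only [k]; group
      rw [e]
      exact mul_mem (mul_mem (hK k hu).1 (hK k hu).2) hτ2N
  have hτP : τ ∉ P := fun h => ht1 (hτ ▸ E.mem.1 h)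
  have hU : Nat.card K * 2 ≤ Nat.card U := by
    let m : K × Fin 2 → U := fun x => ⟨if x.2 = 0 then x.1.1 else x.1.1 * τ, by
      split_ifs
      · exact Or.inl x.1.2
      · exact Or.inr (by rw [mul_inv_cancel_right]; exact x.1.2)⟩
    have hm : Function.Injective m := by
      rintro ⟨⟨k, hk⟩, i⟩ ⟨⟨k', hk'⟩, j⟩ e
      have e := congrArg Subtype.val e
      simp only [m] at e
      fin_cases i <;> fin_cases j <;> simp at e
      · rw [Prod.mk.injEq, Subtype.mk.injEq]; exact ⟨e, rfl⟩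
      · exact absurd (by rw [e, inv_mul_cancel_left] : k'⁻¹ * k = τ) fun h => hτP (h ▸ mul_mem (inv_mem (hKP hk')) (hKP hk))
      · exact absurd (by rw [← e, inv_mul_cancel_left] : k⁻¹ * k' = τ) fun h => hτP (h ▸ mul_mem (inv_mem (hKP hk)) (hKP hk'))
      · rw [Prod.mk.injEq, Subtype.mk.injEq]; exact ⟨e, rfl⟩
    have := Nat.card_le_card_of_injective m hm
    rwa [Nat.card_prod, Nat.card_fin] at this
  have hb := sq_subgroup_bound' E.rank hnorm hsqU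
  rw [card_map_of_injective R.subtype_injective] at hb
  rw [L.card_pre C.le] at hU
  omega

/-- a basis of a homocyclic group -/
theorem exists_basis {P₀ : Subgroup Y} (hab : ∀ a ∈ P₀, ∀ b ∈ P₀, a * b = b * a) (hexp : ∀ a ∈ P₀, a ^ 4 = 1)
    (hinj2 : ∀ a ∈ P₀, a * a = 1 → a ∈ R) {W : Type*} [CommGroup W] [Finite W] (hW : Nat.card W = 8)
    (hWe : ∀ w : W, w * w = 1) (p : P₀ →* W) (hp : Function.Surjective p) (hker : ∀ a : P₀, p a = 1 ↔ (a : Y) ∈ R)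
    (hcard : Nat.card P₀ = 64) : ∃ e : Vec4 ≃ P₀, ∀ x y, e (x + y) = e x * e y := by
  classical
  obtain ⟨i, hi⟩ := exists_coords hWe hW
  have hi1 : i 1 = 0 := by
    have := hi 1 1
    rw [mul_one] at this
    exact left_eq_add.1 this
  obtain ⟨a, ha⟩ := hp (i.symm ![1, 0, 0])
  obtain ⟨b, hb⟩ := hp (i.symm ![0, 1, 0])
  obtain ⟨c, hc⟩ := hp (i.symm ![0, 0, 1])
  have h4 : ∀ q : P₀, q ^ 4 = 1 := fun q => Subtype.ext (by rw [Subgroup.coe_pow]; exact hexp _ q.2)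
  letI : CommGroup P₀ := { (inferInstance : Group P₀) with mul_comm := fun x y => Subtype.ext (hab _ x.2 _ y.2) }
  let m : Vec4 → P₀ := fun x => a ^ (x 0).val * b ^ (x 1).val * c ^ (x 2).val
  have hm : ∀ x y, m (x + y) = m x * m y := fun x y => by
    simp only [m, Pi.add_apply, pow_val_add (h4 a), pow_val_add (h4 b), pow_val_add (h4 c)]
    ac_rfl
  have hpw : ∀ (w : W) (n : ℕ), i (w ^ n) = n • i w := by
    intro w n
    induction n with
    | zero => rw [pow_zero, hi1, zero_smul]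
    | succ n ih => rw [pow_succ, hi, ih, succ_nsmul]
  have hred : ∀ x, i (p (m x)) = red x := fun x => by
    simp only [m, map_mul, map_pow, hi, hpw, ha, hb, hc, i.apply_symm_apply]
    funext k
    fin_cases k <;> simp [red]
  have hm0 : ∀ x, m x = 1 → x = 0 := by
    intro x hx
    have h1 : red x = 0 := by rw [← hred, hx, map_one, hi1]
    obtain ⟨y, rfl⟩ := red_facts.1 x h1
    rw [hm] at hx
    have h2 : red y = 0 := by
      rw [← hred, show p (m y) = 1 from (hker _).2 (hinj2 _ (m y).2 (congrArg Subtype.val hx)), hi1]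
    exact red_facts.2.1 y h2
  have hinj : Function.Injective m := fun x y e => by
    refine sub_eq_zero.1 (hm0 _ ?_)
    have h := hm (x - y) y
    rw [sub_add_cancel, e] at h
    exact right_eq_mul.1 h
  exact ⟨Equiv.ofBijective m ((Nat.bijective_iff_injective_and_card m).2
    ⟨hinj, by rw [hcard, Nat.card_eq_fintype_card]; rfl⟩), hm⟩

theorem det_facts : (∀ x y : ZMod 4, x * y = 1 → x = 1 ∨ x = 3) ∧ (-1 : Mat4).det = 3 ∧ (3 : ZMod 4) * 3 = 1 ∧
    (3 : ZMod 4) ≠ 1 := by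
  decide +kernel

/-- an invariant hyperplane inverted by the outer coset -/
theorem no_inverted (E : Setup π P) [R.Normal] (hR8 : Nat.card R = 8) (C : Central P R)
    {V : Type u} [CommGroup V] [Finite V] (L : Layer π P R V) (hV : Nat.card V = 16) {W : Subgroup V}
    (hW : Nat.card W = 8) (hWinv : ∀ σ : L3, ∀ w ∈ W, L.ρ σ w ∈ W) :
    letI := C.comm
    ∀ q : V → R, IsQuad q → (∀ a : P, (q (L.p a) : Y) = (a : Y) * a) → (∀ u ∈ W, ∀ w ∈ W, q (u * w) = q u * q w) →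
      (∀ w ∈ W, q w = 1 → w = 1) → (∃ v₀ ∉ W, ∀ w ∈ W, pairing q v₀ w = q w) → False := by
  classical
  letI := C.comm
  rintro q hq hqs hmul hinj ⟨v₀, hv₀, hpair⟩
  haveI := E.normal
  set P₀ := L.pre W
  have hP₀P : P₀ ≤ P := L.pre_le _
  have memP₀ : ∀ a : P, (a : Y) ∈ P₀ ↔ L.p a ∈ W := fun a => L.mem_pre a
  have hRP₀ : R ≤ P₀ := fun r hr => (memP₀ ⟨r, C.le hr⟩).2 (by rw [(L.ker ⟨r, C.le hr⟩).2 hr]; exact one_mem _)
  haveI : P₀.Normal := ⟨fun n hn y => by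
    have hnP := hP₀P hn
    refine (memP₀ ⟨_, Normal.conj_mem E.normal n hnP y⟩).2 ?_
    rw [← L.equiv y ⟨n, hnP⟩ _ rfl]
    exact hWinv _ _ ((memP₀ ⟨n, hnP⟩).1 hn)⟩
  have hk : ∀ a b : Y, ∀ (ha : a ∈ P) (hb : b ∈ P),
      b * a * b⁻¹ * a⁻¹ = ((pairing q (L.p ⟨a, ha⟩) (L.p ⟨b, hb⟩) : R) : Y) := by
    intro a b ha hb
    have e2 := (C.sq_mul ha hb).2
    have e3 : ((q (L.p ⟨a, ha⟩ * L.p ⟨b, hb⟩) : R) : Y) = a * b * (a * b) := by
      rw [← map_mul, hqs]; rfl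
    rw [pairing, Subgroup.coe_mul, Subgroup.coe_mul, e3, hqs, hqs, e2]
    show b * a * b⁻¹ * a⁻¹ = b * a * b⁻¹ * a⁻¹ * (a * a) * (b * b) * (a * a) * (b * b)
    rw [mul_assoc (b * a * b⁻¹ * a⁻¹ * (a * a)) (b * b) (a * a), C.cent _ (mul_mem hb hb) _ (C.sq a ha), ← mul_assoc (b * a * b⁻¹ * a⁻¹ * (a * a)) (a * a) (b * b),
      mul_assoc (b * a * b⁻¹ * a⁻¹) (a * a) (a * a), C.exp _ (C.sq a ha), mul_one,
      mul_assoc (b * a * b⁻¹ * a⁻¹) (b * b) (b * b), C.exp _ (C.sq b hb), mul_one]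
  have hab : ∀ a ∈ P₀, ∀ b ∈ P₀, a * b = b * a := by
    intro a ha b hb
    have h := hk a b (hP₀P ha) (hP₀P hb)
    rw [pairing, hmul _ ((memP₀ ⟨a, hP₀P ha⟩).1 ha) _ ((memP₀ ⟨b, hP₀P hb⟩).1 hb), mul_comm (q _ * q _) (q _), ← mul_assoc,
      hq.expR, one_mul, hq.expR, Subgroup.coe_one] at h
    exact (mul_inv_eq_iff_eq_mul.1 (mul_inv_eq_one.1 h)).symm
  have hinj2 : ∀ a ∈ P₀, a * a = 1 → a ∈ R := fun a ha e => (L.ker ⟨a, hP₀P ha⟩).1
    (hinj _ ((memP₀ ⟨a, hP₀P ha⟩).1 ha) (Subtype.ext ((hqs ⟨a, hP₀P ha⟩).trans e)))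
  have hexp4 : ∀ a ∈ P₀, a ^ 4 = 1 := fun a ha => by
    rw [show (4 : ℕ) = 2 * 2 from rfl, pow_mul, pow_two, pow_two]
    exact C.exp _ (C.sq a (hP₀P ha))
  have hcard : Nat.card P₀ = 64 := by rw [L.card_pre C.le, hW, hR8]
  let p₀ : P₀ →* W := (L.p.comp (Subgroup.inclusion hP₀P)).codRestrict W fun a => (memP₀ ⟨a, hP₀P a.2⟩).1 a.2
  have hp₀ : Function.Surjective p₀ := fun w => by
    obtain ⟨a, ha⟩ := L.surj w.1
    exact ⟨⟨a, (memP₀ a).2 (by rw [ha]; exact w.2)⟩, Subtype.ext ha⟩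
  obtain ⟨e, he⟩ := exists_basis (R := R) hab hexp4 hinj2 hW (fun w : W => Subtype.ext (L.exp w)) p₀ hp₀
    (fun a => by rw [Subtype.ext_iff]; exact L.ker _) hcard
  let cj : Y → P₀ → P₀ := fun y a => ⟨y * a * y⁻¹, Normal.conj_mem inferInstance _ a.2 y⟩
  let g : Y → Vec4 →+ Vec4 := fun y => AddMonoidHom.mk' (fun x => e.symm (cj y (e x))) fun x x' => e.injective (by
    rw [e.apply_symm_apply, he, he, e.apply_symm_apply, e.apply_symm_apply]
    refine Subtype.ext ?_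
    show y * (((e x : P₀) : Y) * (e x' : P₀)) * y⁻¹ = y * (e x : P₀) * y⁻¹ * (y * (e x' : P₀) * y⁻¹)
    group)
  let A : Y → Mat4 := fun y => LinearMap.toMatrix' ((g y).toZModLinearMap 4)
  have hA : ∀ (y : Y) (x : Vec4), (e (A y *ᵥ x) : Y) = y * e x * y⁻¹ := fun y x => by
    rw [LinearMap.toMatrix'_mulVec]
    exact congrArg Subtype.val (e.apply_symm_apply _)
  have hext : ∀ M N : Mat4, (∀ x, M *ᵥ x = N *ᵥ x) → M = N := fun M N h => Matrix.ext_iff_mulVec.2 h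
  have hA1 : A 1 = 1 := hext _ _ fun x => e.injective (Subtype.ext (by rw [hA, Matrix.one_mulVec]; group))
  have hAmul : ∀ y y', A (y * y') = A y * A y' := fun y y' => hext _ _ fun x => e.injective (Subtype.ext (by
    rw [← Matrix.mulVec_mulVec, hA, hA, hA]; group))
  let χ : Y →* (ZMod 4)ˣ := MonoidHom.toHomUnits
    { toFun := fun y => (A y).det
      map_one' := by rw [hA1, det_one]
      map_mul' := fun y y' => by rw [hAmul, det_mul] }
  have hχv : ∀ y, (χ y : ZMod 4) = (A y).det := fun y => rfl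
  obtain ⟨a₀, ha₀⟩ := L.surj v₀
  have hdet3 : (A (a₀ : Y)).det = 3 := by
    rw [show A (a₀ : Y) = -1 from hext _ _ fun x => e.injective (Subtype.ext (by
      rw [hA, Matrix.neg_mulVec, Matrix.one_mulVec]
      set k := ((e x : P₀) : Y)
      have hkP : k ∈ P := hP₀P (e x).2
      have hneg : ((e (-x) : P₀) : Y) = k⁻¹ := by
        rw [eq_inv_iff_mul_eq_one, ← Subgroup.coe_mul, ← he, neg_add_cancel]
        have h00 := he 0 0
        rw [add_zero] at h00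
        rw [left_eq_mul.1 h00]; rfl
      rw [hneg]
      have h := hk k a₀ hkP a₀.2
      rw [hq.pairing_comm, show L.p ⟨(a₀ : Y), a₀.2⟩ = v₀ from ha₀, hpair _ ((memP₀ ⟨k, hkP⟩).1 (e x).2), hqs] at h
      have h2 : (a₀ : Y) * k * (a₀ : Y)⁻¹ = k * k * k := mul_inv_eq_iff_eq_mul.1 h
      rw [h2, eq_inv_iff_mul_eq_one, show k * k * k * k = k ^ 4 by rw [pow_succ, pow_succ, pow_succ, pow_one], hexp4 k (e x).2]))]
    exact det_facts.2.1
  set Y₁ := χ.ker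
  have hP1 : ∀ a ∈ P₀, χ a = 1 := fun a ha => Units.ext (by
    rw [hχv, show A a = 1 from hext _ _ fun x => e.injective (Subtype.ext (by
      rw [hA, Matrix.one_mulVec, hab a ha _ (e x).2, mul_inv_cancel_right])), det_one]; rfl)
  have hidx : W.index = 2 := by
    have := W.card_mul_index
    rw [hW, hV] at this
    omega
  have hPY : ∀ a ∈ P, a ∈ Y₁ → a ∈ P₀ := by
    intro a ha ha1
    by_contra hn
    have hm : L.p ⟨a, ha⟩ ∉ W := fun h => hn ((memP₀ ⟨a, ha⟩).2 h)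
    have hm2 : (a₀ : Y)⁻¹ * a ∈ P₀ := (memP₀ (a₀⁻¹ * ⟨a, ha⟩)).2 (by
      rw [map_mul, map_inv, inv_self' L.exp, ha₀]
      exact (Subgroup.mul_mem_iff_of_index_two hidx).2 (iff_of_false hv₀ hm))
    have h1 : χ ((a₀ : Y) * ((a₀ : Y)⁻¹ * a)) = χ a₀ := by rw [map_mul, hP1 _ hm2, mul_one]
    rw [mul_inv_cancel_left, (MonoidHom.mem_ker.1 ha1 : χ a = 1)] at h1
    have := congrArg Units.val h1
    rw [hχv, hdet3] at this
    exact det_facts.2.2.2 this.symm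
  let π₁ : Y₁ →* L3 := π.comp Y₁.subtype
  have E₁ : Setup π₁ (P₀.subgroupOf Y₁) := by
    refine ⟨fun σ => ?_, ?_, (E.two.to_le hP₀P).comap_of_injective _ Y₁.subtype_injective,
      Cfsg.Lib.LThreeRadical.sectional_sub E.rank Y₁⟩
    · obtain ⟨y, rfl⟩ := E.surj σ
      rcases det_facts.1 (χ y : ZMod 4) ((χ y)⁻¹ : (ZMod 4)ˣ) (Units.mul_inv _) with h | h
      · exact ⟨⟨y, MonoidHom.mem_ker.2 (Units.ext h)⟩, rfl⟩
      · refine ⟨⟨y * a₀, MonoidHom.mem_ker.2 (Units.ext ?_)⟩, ?_⟩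
        · rw [map_mul, Units.val_mul, h, hχv, hdet3, det_facts.2.2.1]; rfl
        · show π (y * a₀) = π y
          rw [map_mul, E.mem.1 a₀.2, mul_one]
    · ext y
      rw [MonoidHom.mem_ker, Subgroup.mem_subgroupOf]
      exact ⟨fun h => hPY _ (E.mem.2 h) y.2, fun h => E.mem.1 (hP₀P h)⟩
  set P₁ := P₀.subgroupOf Y₁
  set R₁ := R.subgroupOf Y₁
  haveI : R₁.Normal := Normal.comap inferInstance _
  have hP₀Y : P₀ ≤ Y₁ := fun a ha => MonoidHom.mem_ker.2 (hP1 a ha)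
  have hsq₁ : ∀ a ∈ P₁, a * a ∈ R₁ := fun a ha => mem_subgroupOf.2 (C.sq _ (hP₀P (mem_subgroupOf.1 ha)))
  have F₁ : Faithful P₁ R₁ := by
    intro y hy
    have hρ := subAct_injective L.exp L.le16 L.inj hWinv (by omega)
    have h1 : π (y : Y) = 1 := hρ (by
      rw [map_one]
      refine MulEquiv.ext fun w => Subtype.ext ?_
      rw [subAct_apply, MulAut.one_apply]
      obtain ⟨a, ha⟩ := L.surj w.1
      have haP₀ : (a : Y) ∈ P₀ := (memP₀ a).2 (by rw [ha]; exact w.2)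
      rw [← ha, L.equiv (y : Y) a ⟨_, Normal.conj_mem E.normal _ a.2 _⟩ rfl, L.eq_iff]
      have h := mem_subgroupOf.1 (hy ⟨a, hP₀Y haP₀⟩ (mem_subgroupOf.2 haP₀))
      have h2 : ((y : Y) * a * (y : Y)⁻¹)⁻¹ * a ∈ R := by
        have e : ((y : Y) * a * (y : Y)⁻¹)⁻¹ * a = (a : Y)⁻¹ * ((y : Y) * a * (y : Y)⁻¹ * (a : Y)⁻¹)⁻¹ * a := by group
        rw [e]
        have := Normal.conj_mem (inferInstance : R.Normal) _ (inv_mem h) (a : Y)⁻¹
        rwa [inv_inv] at this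
      exact h2)
    exact mem_subgroupOf.2 (hPY _ (E.mem.2 h1) y.2)
  have hR₁ : R₁ ≤ P₁ := fun r hr => mem_subgroupOf.2 (hRP₀ (mem_subgroupOf.1 hr))
  obtain ⟨V₁, iV, fV, ⟨L₁⟩⟩ := exists_layer E₁ hR₁ hsq₁ F₁
  have hcR : Nat.card R₁ = 8 := by rw [Nat.card_congr (Subgroup.subgroupOfEquivOfLe (hRP₀.trans hP₀Y)).toEquiv, hR8]
  have hcP : Nat.card P₁ = 64 := by rw [Nat.card_congr (Subgroup.subgroupOfEquivOfLe hP₀Y).toEquiv, hcard]
  refine no_homocyclic E₁ hR₁ hsq₁ (fun a ha b hb => Subtype.ext (hab _ (mem_subgroupOf.1 ha) _ (mem_subgroupOf.1 hb)))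
    (fun r hr => Subtype.ext (C.exp _ (mem_subgroupOf.1 hr))) hcR
    (fun a ha e => mem_subgroupOf.2 (hinj2 _ (mem_subgroupOf.1 ha) (congrArg Subtype.val e))) L₁ ?_
  have := L₁.card hR₁
  rw [hcP, hcR] at this
  omega

end Cfsg.Lib.LThreeRadical
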