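import Cfsg.Agent.SolvStruct.LThreeRadical.CyclicLayer

/-!
The squares of the radical have order two.
-/

set_option autoImplicit false
set_option linter.unusedSectionVars false
set_option linter.style.haveILetI false
set_option maxRecDepth 100000
set_option maxHeartbeats 1000000

namespace Cfsg.Lib.LThreeRadical

open Subgroup
open Cfsg.Lib.AltFiveRadical (IsQuad pairing)
open Cfsg.Lib.SymSixSection (fix inv_self' eq_of_mul_one)

universe u
variable {Y : Type u} [Group Y] [Finite Y] {π : Y →* L3} {P : Subgroup Y}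

theorem mem_two_cosets {Φ S : Subgroup Y} [S.Normal] (hcard : Nat.card (Φ.map (QuotientGroup.mk' S)) = 2) {z : Y}
    (hz : z ∈ Φ) (hzS : z ∉ S) {x : Y} (hx : x ∈ Φ) : x ∈ S ∨ z⁻¹ * x ∈ S := by
  set m := QuotientGroup.mk' S
  obtain ⟨c, -, hc⟩ := (Nat.card_eq_two_iff' (1 : Φ.map m)).1 hcard
  by_cases h : x ∈ S
  · exact Or.inl h
  refine Or.inr (QuotientGroup.eq.1 ?_)
  have h1 := hc ⟨m z, mem_map_of_mem m hz⟩ fun e => hzS ((QuotientGroup.eq_one_iff z).1 (congrArg Subtype.val e))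
  have h2 := hc ⟨m x, mem_map_of_mem m hx⟩ fun e => h ((QuotientGroup.eq_one_iff x).1 (congrArg Subtype.val e))
  exact congrArg Subtype.val (h1.trans h2.symm)

theorem cyclic_layer (E : Setup π P) {S : Subgroup Y} [S.Normal] {V : Type u} [CommGroup V] [Finite V]
    (L : Layer π P (sqs P) V) (hV : Nat.card V = 16) {W : Subgroup V} (hW : Nat.card W = 8)
    (hWinv : ∀ σ : L3, ∀ w ∈ W, L.ρ σ w ∈ W) (hmemW : ∀ a : P, L.p a ∈ W ↔ (a : Y) * a ∈ S)
    (hS2 : Nat.card S = 2) (hSP : S ≤ P) (hfixS : ∀ y : Y, ∀ r ∈ S, y * r * y⁻¹ = r) {z : Y} (hzΦ : z ∈ sqs P)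
    (hzS : z ∉ S) (hzc : ∀ y : Y, y * z * y⁻¹ = z) (hzz : z * z ∈ S) (hz1 : z * z ≠ 1)
    (htwo : ∀ x ∈ sqs P, x ∈ S ∨ z⁻¹ * x ∈ S) (hcomm : ∀ a ∈ P, ∀ b ∈ P, b * a * b⁻¹ * a⁻¹ ∈ S) : False := by
  classical
  haveI := E.normal
  set s := z * z with hs
  have hSel : ∀ r ∈ S, r = 1 ∨ r = s := by
    intro r hr
    obtain ⟨c, -, hc⟩ := (Nat.card_eq_two_iff' (1 : S)).1 hS2
    by_cases h : r = 1
    · exact Or.inl h
    exact Or.inr (congrArg Subtype.val ((hc ⟨r, hr⟩ fun e => h (congrArg Subtype.val e)).trans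
      (hc ⟨s, hzz⟩ fun e => hz1 (congrArg Subtype.val e)).symm))
  have hexpS : ∀ r ∈ S, r * r = 1 := by
    intro r hr
    have h := pow_card_eq_one' (x := (⟨r, hr⟩ : S))
    rw [hS2, pow_two] at h
    exact congrArg Subtype.val h
  have hcentS : ∀ a ∈ P, ∀ r ∈ S, a * r = r * a := fun a _ r hr => mul_inv_eq_iff_eq_mul.1 (hfixS a r hr)
  have hΦc : ∀ y : Y, ∀ x ∈ sqs P, y * x * y⁻¹ = x := by
    intro y x hx
    rcases htwo x hx with h | h
    · exact hfixS y x h
    · calc y * x * y⁻¹ = y * z * y⁻¹ * (y * (z⁻¹ * x) * y⁻¹) := by group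
        _ = x := by rw [hzc, hfixS y _ h, mul_inv_cancel_left]
  -- commutators form an invariant alternating pairing
  letI : CommGroup S := { (inferInstance : Group S) with
    mul_comm := fun a b => Subtype.ext (hcentS a.1 (hSP a.2) b.1 b.2) }
  let lift : V → P := fun v => Function.surjInv L.surj v
  have hlift : ∀ v, L.p (lift v) = v := Function.surjInv_eq L.surj
  let κ : P → P → S := fun a b => ⟨(b : Y) * a * (b : Y)⁻¹ * (a : Y)⁻¹, hcomm a a.2 b b.2⟩
  have hκs : ∀ a b, κ a b = κ b a := fun a b => by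
    have h : κ a b * κ b a = 1 := Subtype.ext (by
      show (b : Y) * a * (b : Y)⁻¹ * (a : Y)⁻¹ * ((a : Y) * b * (a : Y)⁻¹ * (b : Y)⁻¹) = 1
      group)
    exact (eq_of_mul_one (fun r : S => Subtype.ext (hexpS r r.2)) h).symm
  have hκl : ∀ a b c, κ (a * b) c = κ a c * κ b c := fun a b c => Subtype.ext (by
    show (c : Y) * ((a : Y) * b) * (c : Y)⁻¹ * ((a : Y) * b)⁻¹ = _
    calc _ = (c : Y) * a * (c : Y)⁻¹ * (((c : Y) * b * (c : Y)⁻¹ * (b : Y)⁻¹) * (a : Y)⁻¹) := by group
      _ = (c : Y) * a * (c : Y)⁻¹ * ((a : Y)⁻¹ * ((c : Y) * b * (c : Y)⁻¹ * (b : Y)⁻¹)) := by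
          rw [hcentS _ (inv_mem a.2) _ (hcomm b b.2 c c.2)]
      _ = _ := by simp only [κ, Subgroup.coe_mul]; group)
  have hκΦ : ∀ (a b : P), (a : Y) ∈ sqs P → κ a b = 1 := fun a b ha => Subtype.ext (by
    show (b : Y) * a * (b : Y)⁻¹ * (a : Y)⁻¹ = 1
    rw [hΦc _ _ ha, mul_inv_cancel])
  have hκcongr : ∀ a a' b : P, L.p a = L.p a' → κ a b = κ a' b := fun a a' b e => by
    have h := (L.eq_iff a a').1 e
    rw [show a' = a * (a⁻¹ * a') by group, hκl, hκΦ (a⁻¹ * a') b h, mul_one]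
  have hform := form_trivial L.exp L.le16 L.inj (fun r : S => Subtype.ext (hexpS r r.2))
    (fun u v => κ (lift u) (lift v))
    (fun x y w => by
      show κ (lift (x * y)) (lift w) = _
      rw [hκcongr (lift (x * y)) (lift x * lift y) _ (by rw [map_mul, hlift, hlift, hlift]), hκl])
    (fun x y => hκs _ _) (fun x => Subtype.ext (by show (lift x : Y) * lift x * (lift x : Y)⁻¹ * (lift x : Y)⁻¹ = 1; group))
    (fun x y => by
      obtain ⟨fl, hfl⟩ := E.surj fE
      let cj : P → P := fun a => ⟨fl * a * fl⁻¹, Normal.conj_mem E.normal _ a.2 fl⟩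
      have hc : ∀ v, L.p (lift (L.ρ fE v)) = L.p (cj (lift v)) := fun v => by
        rw [hlift, ← L.equiv fl (lift v) (cj (lift v)) rfl, hfl, hlift]
      show κ (lift (L.ρ fE x)) (lift (L.ρ fE y)) = κ (lift x) (lift y)
      rw [hκcongr _ _ _ (hc x), hκs, hκcongr _ _ _ (hc y), hκs]
      apply Subtype.ext
      calc ((κ (cj (lift x)) (cj (lift y)) : S) : Y) = fl * ((κ (lift x) (lift y) : S) : Y) * fl⁻¹ := by
            show fl * (lift y : Y) * fl⁻¹ * (fl * lift x * fl⁻¹) * (fl * lift y * fl⁻¹)⁻¹ * (fl * lift x * fl⁻¹)⁻¹ =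
              fl * ((lift y : Y) * lift x * (lift y : Y)⁻¹ * (lift x : Y)⁻¹) * fl⁻¹
            group
        _ = _ := hfixS fl _ (κ (lift x) (lift y)).2)
  have hab : ∀ a ∈ P, ∀ b ∈ P, a * b = b * a := by
    intro a ha b hb
    have h : κ ⟨a, ha⟩ ⟨b, hb⟩ = 1 := by
      have e := hform (L.p ⟨a, ha⟩) (L.p ⟨b, hb⟩)
      rwa [hκcongr _ ⟨a, ha⟩ _ (hlift _), hκs, hκcongr _ ⟨b, hb⟩ _ (hlift _), hκs] at e
    exact (mul_inv_eq_iff_eq_mul.1 (mul_inv_eq_one.1 (congrArg Subtype.val h))).symm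
  -- the natural coordinates
  obtain ⟨i, β, hi, hβ⟩ := exists_natural (fun w : W => Subtype.ext (L.exp w)) hW
    (subAct_injective L.exp L.le16 L.inj hWinv (by omega))
  let π' : Y →* L3 := β.toMonoidHom.comp π
  let ψ : Y → Vec2 := fun k => if h : ∃ h1 : k ∈ P, L.p ⟨k, h1⟩ ∈ W then i ⟨L.p ⟨k, h.1⟩, h.2⟩ else 0
  have hi1 : i 1 = 0 := by
    have := hi 1 1
    rw [mul_one] at this
    exact left_eq_add.1 this
  have hin : ∀ k, ∀ hk : k ∈ P, k * k = 1 → L.p ⟨k, hk⟩ ∈ W := fun k hk e =>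
    (hmemW ⟨k, hk⟩).2 (show k * k ∈ S by rw [e]; exact one_mem _)
  have hψ : ∀ k, ∀ (hk : k ∈ P) (e : k * k = 1), ψ k = i ⟨L.p ⟨k, hk⟩, hin k hk e⟩ := fun k hk e => by
    simp only [ψ]
    rw [dif_pos ⟨hk, hin k hk e⟩]
  have hcardΦ : Nat.card (sqs P) ≤ 4 := by
    let f : sqs P → Fin 2 × S := fun x =>
      if h : (x : Y) ∈ S then (0, ⟨x, h⟩) else (1, ⟨z⁻¹ * x, (htwo x x.2).resolve_left h⟩)
    have hf : Function.Injective f := by
      intro x y e
      simp only [f] at e
      split_ifs at e with h1 h2 h2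
      · exact Subtype.ext (congrArg (fun w : Fin 2 × S => (w.2 : Y)) e)
      · exact absurd (congrArg Prod.fst e) (by simp)
      · exact absurd (congrArg Prod.fst e) (by simp)
      · exact Subtype.ext (mul_left_cancel (congrArg (fun w : Fin 2 × S => (w.2 : Y)) e))
    have h := Nat.card_le_card_of_injective f hf
    rwa [Nat.card_prod, Nat.card_fin, hS2] at h
  have hsΦ : ∀ r ∈ S, r ∈ sqs P := fun r hr => by
    rcases hSel r hr with rfl | rfl
    · exact one_mem _
    · exact mul_mem hzΦ hzΦ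
  refine CyclicData.contradiction (π := π') (P := P) (s := s) (z := z) (ψ := ψ)
    { surj := β.surjective.comp E.surj
      ker := by rw [← E.ker]; ext y; exact map_eq_one_iff β β.injective
      rank := E.rank
      ab := hab
      zz := rfl
      ss := hexpS s hzz
      s1 := hz1
      zP := sqs_le P hzΦ
      zc := hzc
      sqP := ?_
      mul := ?_
      kerψ := ?_
      equiv := ?_
      card := ?_ }
  · intro k hk
    rcases htwo _ (sq_mem_sqs hk) with h | h
    · rcases hSel _ h with e | e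
      · exact ⟨0, by rw [e]; exact (pow_zero z).symm⟩
      · exact ⟨2, by rw [e, hs]; exact (pow_two z).symm⟩
    · have e0 : k * k = z * (z⁻¹ * (k * k)) := (mul_inv_cancel_left _ _).symm
      rcases hSel _ h with e | e <;> rw [e] at e0
      · exact ⟨1, by rw [e0, mul_one]; exact (pow_one z).symm⟩
      · refine ⟨3, ?_⟩
        rw [e0, hs]
        show z * (z * z) = z ^ 3
        rw [pow_succ', pow_two]
  · intro a ha b hb ha2 hb2
    have hab2 : a * b * (a * b) = 1 := by
      rw [show a * b * (a * b) = a * (b * a) * b by group, hab b hb a ha,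
        show a * (a * b) * b = a * a * (b * b) by group, ha2, hb2, mul_one]
    rw [hψ _ (mul_mem ha hb) hab2, hψ a ha ha2, hψ b hb hb2, ← hi]
    exact congrArg i (Subtype.ext (map_mul L.p ⟨a, ha⟩ ⟨b, hb⟩))
  · intro a ha ha2 h
    rw [hψ a ha ha2, ← hi1] at h
    have h1 := (L.ker ⟨a, ha⟩).1 (congrArg Subtype.val (i.injective h))
    rcases htwo a h1 with h2 | h2
    · exact hSel a h2
    · exfalso
      apply hz1
      have e : a * a = z * z * ((z⁻¹ * a) * (z⁻¹ * a)) := by
        rw [show z * z * ((z⁻¹ * a) * (z⁻¹ * a)) = z * (a * z⁻¹) * a by group, hab a ha _ (inv_mem (sqs_le P hzΦ)),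
          mul_inv_cancel_left]
      rw [hexpS _ h2, mul_one, ha2] at e
      exact e.symm
  · intro y a ha ha2
    have hc : y * a * y⁻¹ ∈ P := Normal.conj_mem E.normal _ ha y
    have hc2 : y * a * y⁻¹ * (y * a * y⁻¹) = 1 := by
      rw [show y * a * y⁻¹ * (y * a * y⁻¹) = y * (a * a) * y⁻¹ by group, ha2, mul_one, mul_inv_cancel]
    rw [hψ _ hc hc2, hψ a ha ha2]
    show _ = act (β (π y)) _
    rw [← hβ]
    exact congrArg i (Subtype.ext (L.equiv y ⟨a, ha⟩ ⟨_, hc⟩ rfl).symm)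
  · have h := L.card_pre (sqs_le P) W
    have h4 : 4 ≤ Nat.card (sqs P) := by
      let f : Fin 4 → sqs P := fun j => ⟨z ^ (j : ℕ), (sqs P).pow_mem hzΦ _⟩
      have hord : orderOf z = 4 := by
        refine orderOf_eq_prime_pow (p := 2) (n := 1) ?_ ?_
        · rw [pow_one, pow_two]; exact hz1
        · rw [show 2 ^ (1 + 1) = 2 * 2 from rfl, pow_mul, pow_two, pow_two]; exact hexpS _ hzz
      have hf : Function.Injective f := fun i j e => by
        have h := congrArg Subtype.val e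
        exact Fin.ext (pow_injOn_Iio_orderOf (by simp [hord]) (by simp [hord]) h)
      have := Nat.card_le_card_of_injective f hf
      rwa [Nat.card_fin] at this
    have hsub : (L.pre W : Set Y) ⊆ {k : Y | k ∈ P ∧ k ^ 4 = 1} := fun k hk => by
      refine ⟨L.pre_le W hk, ?_⟩
      rw [show (4 : ℕ) = 2 * 2 from rfl, pow_mul, pow_two, pow_two]
      exact hexpS _ ((hmemW ⟨k, L.pre_le W hk⟩).1 ((L.mem_pre ⟨k, L.pre_le W hk⟩).1 hk))
    refine le_trans ?_ (Set.ncard_le_ncard hsub (Set.toFinite _))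
    rw [← Nat.card_coe_set_eq, SetLike.coe_sort_coe, h, hW]
    omega

theorem natural_layer (E : Setup π P) {S : Subgroup Y} [S.Normal] {V : Type u} [CommGroup V] [Finite V]
    (L : Layer π P (sqs P) V) (hV : Nat.card V = 16) (F : Faithful P (sqs P)) {W : Subgroup V} (hW : Nat.card W = 8)
    (hWinv : ∀ σ : L3, ∀ w ∈ W, L.ρ σ w ∈ W) (hmemW : ∀ a : P, L.p a ∈ W ↔ (a : Y) * a ∈ S)
    (hSΦ : S ≤ sqs P) (hS8 : Nat.card S = 8) (C : Central P (sqs P)) (hΦ16 : Nat.card (sqs P) = 16)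
    (hcS : ∀ a ∈ P, ∀ r ∈ S, a * r = r * a) (τS : L3 →* MulAut S)
    (hτS : ∀ (y : Y) (r : S), ((τS (π y) r : S) : Y) = y * r * y⁻¹) (hinjS : Function.Injective τS) : False := by
  classical
  haveI := E.normal
  haveI := sqs_normal P
  letI := C.comm
  letI : CommGroup S := { (inferInstance : Group S) with
    mul_comm := fun a b => Subtype.ext (hcS a.1 (C.le (hSΦ a.2)) b.1 b.2) }
  have hexpS : ∀ r : S, r * r = 1 := fun r => Subtype.ext (C.exp r (hSΦ r.2))
  have hexpΦ : ∀ r : (sqs P), r * r = 1 := fun r => Subtype.ext (C.exp r r.2)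
  obtain ⟨τΦ, hτΦ⟩ := exists_act E (R := (sqs P)) C.cent
  have hinjΦ : Function.Injective τΦ := by
    rcases hom_dichotomy τΦ with h | h
    · exfalso
      obtain ⟨r, hr⟩ := Subgroup.ne_bot_iff_exists_ne_one.1 (fun e => by rw [e, Subgroup.card_bot] at hS8; omega : S ≠ ⊥)
      refine hr (nat_seven hexpS hS8 hinjS fE_pow.1 fE_pow.2 ?_)
      obtain ⟨fl, hfl⟩ := E.surj fE
      have h1 := congrArg Subtype.val (DFunLike.congr_fun (DFunLike.congr_fun h (π fl)) (⟨r, hSΦ r.2⟩ : (sqs P)))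
      rw [hτΦ] at h1
      rw [← hfl]
      exact Subtype.ext ((hτS fl r).trans h1)
    · exact h
  set SΦ := S.subgroupOf (sqs P)
  have hSΦc : Nat.card SΦ = 8 := by rw [Nat.card_congr (Subgroup.subgroupOfEquivOfLe hSΦ).toEquiv, hS8]
  have hSΦinv : ∀ σ : L3, ∀ w ∈ SΦ, τΦ σ w ∈ SΦ := by
    intro σ w hw
    obtain ⟨y, rfl⟩ := E.surj σ
    rw [mem_subgroupOf, hτΦ]
    exact Normal.conj_mem inferInstance _ (mem_subgroupOf.1 hw) y
  rcases coset_cases τΦ hexpΦ hΦ16.le hinjΦ hΦ16 hSΦc hSΦinv with ⟨a, ha, hfix⟩ | ⟨hmove, -⟩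
  · have hya : ∀ y : Y, y * a * y⁻¹ = a := fun y => (hτΦ y a).symm.trans (congrArg Subtype.val (hfix (π y)))
    have haS : (a : Y) ∉ S := fun h => ha (mem_subgroupOf.2 h)
    haveI : (zpowers (a : Y)).Normal := ⟨fun n hn y => by
      rcases zpowers_two (C.exp _ a.2) hn with rfl | rfl
      · simp
      · rw [hya]; exact mem_zpowers _⟩
    set M := zpowers (a : Y)
    have hMΦ : M ≤ (sqs P) := zpowers_le.2 a.2
    have hMc : Nat.card M = 2 := by
      rw [Nat.card_zpowers]
      exact orderOf_eq_prime (by rw [pow_two, C.exp _ a.2]) fun e => haS (e ▸ one_mem S)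
    set m := QuotientGroup.mk' M
    haveI : ((sqs P).map m).Normal := Normal.map inferInstance _ (QuotientGroup.mk'_surjective _)
    have hc8 : Nat.card ((sqs P).map m) = 8 := by
      have := card_map_quot M (sqs P) hMΦ
      rw [hMc, hΦ16] at this
      change Nat.card ((sqs P).map m) * 2 = 16 at this
      omega
    have hinjm : Function.Injective fun r : S => m (r : Y) := by
      intro r r' e
      have h : (r : Y)⁻¹ * r' ∈ M := QuotientGroup.eq.1 e
      rcases zpowers_two (C.exp _ a.2) h with h1 | h1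
      · exact Subtype.ext (inv_mul_eq_one.1 h1)
      · exact absurd (h1 ▸ mul_mem (inv_mem r.2) r'.2) haS
    have hsurjm : ∀ x ∈ (sqs P).map m, ∃ r : S, m (r : Y) = x := by
      intro x hx
      let g : S → (sqs P).map m := fun r => ⟨m r, mem_map_of_mem m (hSΦ r.2)⟩
      obtain ⟨r, hr⟩ := ((Nat.bijective_iff_injective_and_card g).2
        ⟨fun r r' e => hinjm (congrArg Subtype.val e), by rw [hS8, hc8]⟩).2 ⟨x, hx⟩
      exact ⟨r, congrArg Subtype.val hr⟩
    have hne : (sqs P).map m ≠ ⊥ := fun e => by rw [e, Subgroup.card_bot] at hc8; omega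
    obtain ⟨h2, -, -⟩ := top_layer (E.quotient M (hMΦ.trans C.le)) (sqs_map _ _) hne (F.quotient hMΦ) (by
      intro N hN hle
      haveI := hN
      by_cases hb : N = ⊥
      · exact Or.inl hb
      refine Or.inr (le_antisymm hle fun x hx => ?_)
      obtain ⟨⟨n, hn⟩, hn1⟩ := Subgroup.ne_bot_iff_exists_ne_one.1 hb
      obtain ⟨r₀, hr₀⟩ := hsurjm n (hle hn)
      obtain ⟨r, hr⟩ := hsurjm x hx
      by_cases hr1 : r = 1
      · rw [← hr, hr1, Subgroup.coe_one, map_one]; exact one_mem _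
      have hr₀1 : r₀ ≠ 1 := fun e => hn1 (Subtype.ext (by
        show n = 1
        rw [← hr₀, e, Subgroup.coe_one, map_one]))
      obtain ⟨σ, hσ⟩ := nat_trans hexpS hS8 hinjS hr₀1 hr1
      obtain ⟨y, rfl⟩ := E.surj σ
      rw [← hr, ← hσ, hτS, map_mul, map_mul, map_inv, hr₀]
      exact Normal.conj_mem hN _ hn _)
    change Nat.card ((sqs P).map m) = 2 at h2
    omega
  -- no fixed element in the coset
  obtain ⟨q, hq, hqs⟩ := exists_quad L C
  have heq : ∀ σ v, q (L.ρ σ v) = τΦ σ (q v) := by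
    intro σ v
    obtain ⟨y, rfl⟩ := E.surj σ
    obtain ⟨k, rfl⟩ := L.surj v
    rw [L.equiv y k ⟨_, Normal.conj_mem E.normal _ k.2 y⟩ rfl]
    apply Subtype.ext
    rw [hqs, hτΦ, hqs]
    show y * k * y⁻¹ * (y * k * y⁻¹) = _
    group
  obtain ⟨htt, ht1, hu4⟩ := (⟨rel_facts.2.2.2.2.1, rel_facts.2.2.2.2.2.1, rel_facts.2.2.2.1⟩ :
    tE * tE = 1 ∧ tE ≠ 1 ∧ uE ^ 4 = 1)
  have hout : ∀ v ∉ W, L.ρ tE v ≠ v := by
    intro v hv e
    obtain ⟨k, rfl⟩ := L.surj v
    refine hmove tE htt ht1 (q (L.p k)) (fun h => hv ((hmemW k).2 ?_)) (by rw [← heq, e])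
    have := mem_subgroupOf.1 h
    rwa [hqs] at this
  obtain ⟨x₀, hx₀, hlift⟩ := exists_lift_tE E L
  have hWe : ∀ w : W, w * w = 1 := fun w => Subtype.ext (L.exp w)
  have hWi := subAct_injective L.exp L.le16 L.inj hWinv (by omega)
  have hx₀W : x₀ ∈ W := by
    by_contra h
    refine hout x₀ h ?_
    rw [tE, map_mul, MulAut.mul_apply, hx₀, hx₀]
  obtain ⟨w, hw⟩ := nat_fix_four hWe hW hWi (σ := uE) ht1 hu4 (v := ⟨x₀, hx₀W⟩) (Subtype.ext hx₀)
  obtain ⟨τ, hτP, hτ, hpτ⟩ := hlift w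
  have hτ2 : τ * τ ∈ (sqs P) := (L.ker ⟨_, hτP⟩).1 (by
    have h := congrArg Subtype.val hw
    rw [hpτ, show x₀ = (w : V) * L.ρ tE w from h, mul_comm (L.ρ tE (w : V)) w, L.exp])
  have hb := section_bound E C L τΦ hτΦ ht1 τ hτ hτ2
  have hfV : Nat.card (fix (L.ρ tE)) = 4 := by
    rw [← nat_fix_inv hWe hW hWi htt ht1]
    refine (Nat.card_congr ⟨fun w => ⟨((w : W) : V), show L.ρ tE _ = _ from congrArg Subtype.val w.2⟩, fun v =>
      ⟨⟨v, by by_contra h; exact hout v h v.2⟩, Subtype.ext v.2⟩, fun w => rfl, fun v => rfl⟩).symm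
  have hfΦ : Nat.card (fix (τΦ tE)) = 4 := by
    rw [← nat_fix_inv hexpS hS8 hinjS htt ht1]
    have hin : ∀ v : fix (τΦ tE), ((v : (sqs P)) : Y) ∈ S := fun v => by
      by_contra h
      exact hmove tE htt ht1 v.1 (fun h' => h (mem_subgroupOf.1 h')) v.2
    obtain ⟨y, hy⟩ := E.surj tE
    have hconv : ∀ (r : Y) (hS' : r ∈ S), τS tE ⟨r, hS'⟩ = ⟨r, hS'⟩ ↔ τΦ tE ⟨r, hSΦ hS'⟩ = ⟨r, hSΦ hS'⟩ := by
      intro r hS'
      rw [← hy, Subtype.ext_iff, Subtype.ext_iff, hτS, hτΦ]
    exact Nat.card_congr ⟨fun v => ⟨⟨_, hin v⟩, (hconv _ (hin v)).2 v.2⟩,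
      fun r => ⟨⟨_, hSΦ r.1.2⟩, (hconv _ r.1.2).1 r.2⟩, fun v => rfl, fun r => rfl⟩
  rw [hfV, hfΦ, hΦ16] at hb
  omega

theorem third_layer (E : Setup π P) {S : Subgroup Y} [S.Normal] (F : Faithful P (sqs P)) (hS1 : S ≠ ⊥)
    (hle : S ≤ sqs P) (hmin : ∀ N : Subgroup Y, N.Normal → N ≤ S → N = ⊥ ∨ N = S)
    (hcard : Nat.card ((sqs P).map (QuotientGroup.mk' S)) = 2)
    (habm : ∀ a ∈ P.map (QuotientGroup.mk' S), ∀ b ∈ P.map (QuotientGroup.mk' S), a * b = b * a)
    (h32 : Nat.card (P.map (QuotientGroup.mk' S)) = 32) : False := by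
  classical
  haveI := E.normal
  haveI := sqs_normal P
  set Φ := sqs P with hΦdef
  set m := QuotientGroup.mk' S
  have hSP : S ≤ P := hle.trans (sqs_le P)
  obtain ⟨hcS, hexpS⟩ := central_of_minimal E hSP hS1 hmin
  have hcomm : ∀ a ∈ P, ∀ b ∈ P, b * a * b⁻¹ * a⁻¹ ∈ S := fun a ha b hb => (QuotientGroup.eq_one_iff _).1 (by
    show m (b * a * b⁻¹ * a⁻¹) = 1
    rw [map_mul, map_mul, map_mul, map_inv, map_inv, habm _ (mem_map_of_mem m hb) _ (mem_map_of_mem m ha)]
    group)
  obtain ⟨a, ha, haS⟩ : ∃ a ∈ P, a * a ∉ S := by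
    by_contra hno
    push Not at hno
    have h : Φ.map m = ⊥ := by
      rw [Subgroup.map_eq_bot_iff, QuotientGroup.ker_mk']
      exact sqs_le_iff.2 hno
    rw [h, Subgroup.card_bot] at hcard
    omega
  set z := a * a with hz
  have hzΦ : z ∈ Φ := sq_mem_sqs ha
  have htwo : ∀ x ∈ Φ, x ∈ S ∨ z⁻¹ * x ∈ S := fun x hx => mem_two_cosets hcard hzΦ haS hx
  have hzP : ∀ w ∈ P, w * z = z * w := by
    intro w hw
    set k := w * a * w⁻¹ * a⁻¹ with hk
    have hkS : k ∈ S := hcomm a ha w hw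
    refine mul_inv_eq_iff_eq_mul.1 ?_
    calc w * z * w⁻¹ = (k * a) * (k * a) := by simp only [hz, hk]; group
      _ = k * (a * k) * a := by group
      _ = k * k * (a * a) := by rw [hcS a ha k hkS]; group
      _ = z := by rw [hexpS k hkS, one_mul]
  have hcent : ∀ w ∈ P, ∀ x ∈ Φ, w * x = x * w := by
    intro w hw x hx
    rcases htwo x hx with h | h
    · exact hcS w hw x h
    · calc w * x = w * z * (z⁻¹ * x) := by group
        _ = z * (w * (z⁻¹ * x)) := by rw [hzP w hw]; group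
        _ = x * w := by rw [hcS w hw _ h]; group
  have hΦsq : ∀ x ∈ Φ, x * x ∈ S ∧ (z * z = 1 → x * x = 1) := by
    intro x hx
    have hzz : z * z ∈ S := by
      rcases htwo (z * z) (mul_mem hzΦ hzΦ) with h | h
      · exact h
      · rw [inv_mul_cancel_left] at h; exact absurd h haS
    rcases htwo x hx with h | h
    · exact ⟨by rw [hexpS x h]; exact one_mem _, fun _ => hexpS x h⟩
    · have e : x * x = z * z * ((z⁻¹ * x) * (z⁻¹ * x)) := by
        have e1 := hcent z (sqs_le P hzΦ) x hx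
        rw [show z * z * ((z⁻¹ * x) * (z⁻¹ * x)) = z * (x * z⁻¹) * x by group,
          ← hcent z⁻¹ (inv_mem (sqs_le P hzΦ)) x hx, mul_inv_cancel_left]
      rw [hexpS _ h, mul_one] at e
      exact ⟨e ▸ hzz, fun h' => e.trans h'⟩
  have hzz : z * z ∈ S := (hΦsq z hzΦ).1
  obtain ⟨V, iV, fV, ⟨L⟩⟩ := exists_layer E (R := Φ) (sqs_le P) (fun k hk => sq_mem_sqs hk) F
  have hcΦ := card_map_quot S Φ hle
  rw [hcard] at hcΦ
  have hcP := card_map_quot S P hSP
  rw [h32, L.card (sqs_le P)] at hcP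
  have hV : Nat.card V = 16 := by
    have hpos : 0 < Nat.card S := Nat.card_pos
    nlinarith
  -- the invariant hyperplane
  let Ω : Subgroup Y :=
    { carrier := {k | k ∈ P ∧ k * k ∈ S}
      one_mem' := ⟨one_mem _, by rw [mul_one]; exact one_mem _⟩
      mul_mem' := fun {k l} hk hl => ⟨mul_mem hk.1 hl.1, by
        have e : k * l * (k * l) = k * (l * k * l⁻¹ * k⁻¹) * (k * (l * l)) := by group
        rw [e, hcS k hk.1 _ (hcomm k hk.1 l hl.1), mul_assoc, ← mul_assoc k k]
        exact mul_mem (hcomm k hk.1 l hl.1) (mul_mem hk.2 hl.2)⟩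
      inv_mem' := fun {k} hk => ⟨inv_mem hk.1, by rw [← _root_.mul_inv_rev]; exact inv_mem hk.2⟩ }
  have hΦΩ : ∀ x ∈ Φ, x ∈ Ω := fun x hx => ⟨sqs_le P hx, (hΦsq x hx).1⟩
  set W := (Ω.subgroupOf P).map L.p
  have hmemW : ∀ k : P, L.p k ∈ W ↔ (k : Y) * k ∈ S := by
    intro k
    refine ⟨fun ⟨l, hl, e⟩ => ?_, fun h => ⟨k, mem_subgroupOf.2 ⟨k.2, h⟩, rfl⟩⟩
    have := mul_mem (mem_subgroupOf.1 hl) (hΦΩ _ ((L.eq_iff l k).1 e))
    rw [mul_inv_cancel_left] at this
    exact this.2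
  have hWinv : ∀ σ : L3, ∀ w ∈ W, L.ρ σ w ∈ W := by
    rintro σ _ ⟨k, hk, rfl⟩
    obtain ⟨y, rfl⟩ := E.surj σ
    rw [L.equiv y k ⟨_, Normal.conj_mem E.normal _ k.2 y⟩ rfl, hmemW]
    have := Normal.conj_mem (inferInstance : S.Normal) _ (mem_subgroupOf.1 hk).2 y
    show y * k * y⁻¹ * (y * k * y⁻¹) ∈ S
    rwa [show y * k * y⁻¹ * (y * k * y⁻¹) = y * ((k : Y) * k) * y⁻¹ by group]
  have hW : Nat.card W = 8 := by
    have hidx : W.index = 2 := by
      rw [Subgroup.index_eq_two_iff]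
      refine ⟨L.p ⟨a, ha⟩, fun v => ?_⟩
      obtain ⟨k, rfl⟩ := L.surj v
      rw [← map_mul, hmemW, hmemW]
      set l := ((k * ⟨a, ha⟩ : P) : Y) with hl
      have hdec : l * l ∈ S ↔ z⁻¹ * ((k : Y) * k) ∈ S := by
        have e : l * l = (k : Y) * (a * k * a⁻¹ * (k : Y)⁻¹) * ((k : Y) * (a * a)) := by
          simp only [hl, Subgroup.coe_mul]; group
        rw [e, hcS k k.2 _ (hcomm k k.2 a ha), mul_assoc, ← mul_assoc (k : Y) k,
          Subgroup.mul_mem_cancel_left _ (hcomm k k.2 a ha)]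
        have e2 : (k : Y) * k * z = z * z * (z⁻¹ * ((k : Y) * k)) := by
          rw [show z * z * (z⁻¹ * ((k : Y) * k)) = z * ((k : Y) * k) by group, hzP _ (mul_mem k.2 k.2)]
        rw [e2, Subgroup.mul_mem_cancel_left _ hzz]
      rw [hdec]
      rcases htwo _ (sq_mem_sqs k.2) with h | h
      · exact Or.inr ⟨h, fun h' => haS (by
          have := mul_mem h (inv_mem h')
          rw [_root_.mul_inv_rev, inv_inv, mul_inv_cancel_left] at this
          exact this)⟩
      · exact Or.inl ⟨h, fun h' => haS (by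
          have := mul_mem h' (inv_mem h)
          rw [_root_.mul_inv_rev, inv_inv, mul_inv_cancel_left] at this
          exact this)⟩
    have := W.card_mul_index
    rw [hidx, hV] at this
    omega
  letI : CommGroup S :=
    { (inferInstance : Group S) with mul_comm := fun x y => Subtype.ext (hcS x.1 (hSP x.2) y.1 y.2) }
  have hexpS' : ∀ r : S, r * r = 1 := fun r => Subtype.ext (hexpS r r.2)
  have hS16 : Nat.card S ≤ 16 := by
    have := Cfsg.Lib.SectionalRank.sectional_bound E.rank (N := ⊥) (U := S) (by rw [normalizer_eq_top]; exact le_top)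
      (fun u hu => by rw [hexpS u hu]; exact one_mem _)
    rwa [relIndex_bot_left] at this
  obtain ⟨τS, hτS⟩ := exists_act E (R := S) hcS
  have hzconj : ∀ y : Y, ∃ r ∈ S, y * z * y⁻¹ = z * r := by
    intro y
    have h := Normal.conj_mem (inferInstance : Φ.Normal) z hzΦ y
    rcases htwo _ h with h' | h'
    · have := Normal.conj_mem (inferInstance : S.Normal) _ h' y⁻¹
      rw [show y⁻¹ * (y * z * y⁻¹) * y⁻¹⁻¹ = z by group] at this
      exact absurd this haS
    · exact ⟨_, h', (mul_inv_cancel_left z _).symm⟩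
  rcases hom_dichotomy τS with htriv | hinjS
  · have hfixS : ∀ y : Y, ∀ r ∈ S, y * r * y⁻¹ = r := fun y r hr => by
      rw [← hτS y ⟨r, hr⟩, htriv]
      rfl
    have hS2 := card_eq_two_of_trivial E hSP hS1 hmin hfixS
    letI : CommGroup Φ :=
      { (inferInstance : Group Φ) with mul_comm := fun x y => Subtype.ext (hcent x.1 (sqs_le P x.2) y.1 y.2) }
    obtain ⟨τΦ, hτΦ⟩ := exists_act E (R := Φ) hcent
    have htrivΦ : τΦ = 1 := by
      rcases hom_dichotomy τΦ with h | h
      · exact h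
      exfalso
      have h1 := Nat.card_le_card_of_injective τΦ h
      rw [card_L3] at h1
      have h2 : Nat.card (MulAut Φ) ≤ Nat.card (Equiv.Perm Φ) :=
        Nat.card_le_card_of_injective (fun e : MulAut Φ => e.toEquiv) fun e e' he =>
          MulEquiv.ext fun x => Equiv.congr_fun he x
      rw [Nat.card_perm] at h2
      rw [hS2] at hcΦ
      change 2 * 2 = Nat.card Φ at hcΦ
      rw [← hcΦ] at h2
      rw [show Nat.factorial (2 * 2) = 24 from rfl] at h2
      omega
    have hzc : ∀ y : Y, y * z * y⁻¹ = z := fun y => by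
      rw [← hτΦ y ⟨z, hzΦ⟩, htrivΦ]
      rfl
    by_cases hz1 : z * z = 1
    · have C : Central P Φ := ⟨sqs_le P, hcent, fun x hx => (hΦsq x hx).2 hz1, fun k hk => sq_mem_sqs hk⟩
      letI := C.comm
      obtain ⟨q, hq, hqs⟩ := exists_quad L C
      have hinv : ∀ σ v, q (L.ρ σ v) = q v := by
        intro σ v
        obtain ⟨y, rfl⟩ := E.surj σ
        obtain ⟨w, rfl⟩ := L.surj v
        rw [L.equiv y w ⟨_, Normal.conj_mem E.normal _ w.2 y⟩ rfl]
        apply Subtype.ext
        rw [hqs, hqs]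
        have h1 := congrArg Subtype.val (DFunLike.congr_fun (DFunLike.congr_fun htrivΦ (π y)) (⟨_, C.sq _ w.2⟩ : Φ))
        rw [hτΦ] at h1
        calc _ = y * ((w : Y) * w) * y⁻¹ := by group
          _ = _ := h1
      have hhom := invariant_quad L.exp L.le16 L.inj hq hinv
      have hWi := subAct_injective L.exp L.le16 L.inj hWinv (by omega)
      have hWe : ∀ w : W, w * w = 1 := fun w => Subtype.ext (L.exp w)
      have hval : ∀ w : W, (q (w : V) : Y) ∈ S := fun w => by
        obtain ⟨k, hk⟩ := L.surj (w : V)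
        rw [← hk, hqs]
        exact (hmemW k).1 (hk.symm ▸ w.2)
      have hzero : ∀ w : W, q (w : V) = 1 := by
        obtain ⟨w₁, hw₁, hq1⟩ : ∃ w₁ : W, w₁ ≠ 1 ∧ q (w₁ : V) = 1 := by
          obtain ⟨i, hi⟩ := exists_coords hWe hW
          have hu : i.symm ![1, 0, 0] ≠ 1 := fun e => by
            have h := congrArg i e
            have h1 : i 1 = 0 := by
              have := hi 1 1
              rw [mul_one] at this
              exact left_eq_add.1 this
            rw [i.apply_symm_apply, h1] at h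
            exact absurd h (by decide)
          have hv : i.symm ![0, 1, 0] ≠ 1 := fun e => by
            have h := congrArg i e
            have h1 : i 1 = 0 := by
              have := hi 1 1
              rw [mul_one] at this
              exact left_eq_add.1 this
            rw [i.apply_symm_apply, h1] at h
            exact absurd h (by decide)
          by_cases h1 : q ((i.symm ![1, 0, 0] : W) : V) = 1
          · exact ⟨_, hu, h1⟩
          by_cases h2 : q ((i.symm ![0, 1, 0] : W) : V) = 1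
          · exact ⟨_, hv, h2⟩
          refine ⟨i.symm ![1, 0, 0] * i.symm ![0, 1, 0], fun e => ?_, ?_⟩
          · have h := congrArg i (eq_of_mul_one hWe e)
            rw [i.apply_symm_apply, i.apply_symm_apply] at h
            exact absurd h (by decide)
          · obtain ⟨c, -, hc⟩ := (Nat.card_eq_two_iff' (1 : S)).1 hS2
            have e1 := hc ⟨_, hval (i.symm ![1, 0, 0])⟩ fun e => h1 (Subtype.ext (congrArg (fun r : S => (r : Y)) e))
            have e2 := hc ⟨_, hval (i.symm ![0, 1, 0])⟩ fun e => h2 (Subtype.ext (congrArg (fun r : S => (r : Y)) e))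
            have e3 : q ((i.symm ![1, 0, 0] : W) : V) = q ((i.symm ![0, 1, 0] : W) : V) :=
              Subtype.ext (congrArg (fun r : S => (r : Y)) (e1.trans e2.symm))
            rw [Subgroup.coe_mul, hhom, e3]
            exact hq.expR _
        intro w
        by_cases hw : w = 1
        · rw [hw, Subgroup.coe_one]; exact hq.map_one'
        obtain ⟨σ, rfl⟩ := nat_trans hWe hW hWi hw₁ hw
        rw [subAct_apply, hinv]
        exact hq1
      have hle' : Φ ≤ zpowers z := sqs_le_iff.2 fun k hk => by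
        by_cases h : L.p ⟨k, hk⟩ ∈ W
        · rw [← hqs ⟨k, hk⟩, hzero ⟨_, h⟩]; exact one_mem _
        · have hidx : W.index = 2 := by
            have := W.card_mul_index
            rw [hW, hV] at this
            omega
          have haW : L.p ⟨a, ha⟩ ∉ W := fun h' => haS ((hmemW ⟨a, ha⟩).1 h')
          have h2 : L.p ⟨k, hk⟩ * L.p ⟨a, ha⟩ ∈ W := (Subgroup.mul_mem_iff_of_index_two hidx).2 (iff_of_false h haW)
          have h3 := hzero ⟨_, h2⟩
          change q (L.p ⟨k, hk⟩ * L.p ⟨a, ha⟩) = 1 at h3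
          rw [hhom] at h3
          rw [← hqs ⟨k, hk⟩, (eq_of_mul_one hq.expR h3).symm, hqs]
          exact mem_zpowers _
      have h1 := Nat.card_le_card_of_injective _ (Subgroup.inclusion_injective hle')
      rw [Nat.card_zpowers] at h1
      have h2 : orderOf z ≤ 2 := orderOf_le_of_pow_eq_one two_pos (by rw [pow_two, hz1])
      rw [hS2] at hcΦ
      change 2 * 2 = Nat.card Φ at hcΦ
      change Nat.card Φ ≤ orderOf z at h1
      omega
    · exact cyclic_layer E L hV hW hWinv hmemW hS2 hSP hfixS hzΦ haS hzc hzz hz1 htwo hcomm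
  · have hS8 : Nat.card S = 8 := by
      rcases card_cases τS hexpS' hS16 hinjS with h8 | h16
      · exact h8
      exfalso
      rcases reducible τS hexpS' hS16 hinjS h16 with ⟨r, hr1, hrfix⟩ | hinv
      · haveI : (zpowers (r : Y)).Normal := ⟨fun n hn y => by
          rcases zpowers_two (hexpS r r.2) hn with rfl | rfl
          · simp
          · rw [← hτS, hrfix]; exact mem_zpowers _⟩
        rcases hmin (zpowers (r : Y)) inferInstance (zpowers_le.2 r.2) with h | h
        · exact hr1 (Subtype.ext (zpowers_eq_bot.1 h))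
        · rw [← h, Nat.card_zpowers] at h16
          have := orderOf_le_of_pow_eq_one (x := (r : Y)) two_pos (by rw [pow_two, hexpS r r.2])
          omega
      · have hW' := (commSeven_facts τS hexpS' hS16 hinjS h16).1
        haveI : ((commSeven τS).map S.subtype).Normal := ⟨by
          rintro _ ⟨w, hw, rfl⟩ y
          exact ⟨τS (π y) w, hinv _ w hw, hτS y w⟩⟩
        have hc : Nat.card ((commSeven τS).map S.subtype) = 8 := by
          rw [card_map_of_injective S.subtype_injective, hW']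
        rcases hmin ((commSeven τS).map S.subtype) inferInstance (Subgroup.map_subtype_le _) with h | h
        · rw [h, Subgroup.card_bot] at hc; omega
        · rw [h, h16] at hc; omega
    have hz1 : z * z = 1 := by
      refine congrArg Subtype.val (nat_seven hexpS' hS8 hinjS fE_pow.1 fE_pow.2 (w := ⟨z * z, hzz⟩) ?_ :
        (⟨z * z, hzz⟩ : S) = 1)
      obtain ⟨fl, hfl⟩ := E.surj fE
      obtain ⟨r, hr, e⟩ := hzconj fl
      rw [← hfl]
      refine Subtype.ext ((hτS fl _).trans ?_)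
      show fl * (z * z) * fl⁻¹ = z * z
      rw [show fl * (z * z) * fl⁻¹ = fl * z * fl⁻¹ * (fl * z * fl⁻¹) by group, e,
        show z * r * (z * r) = z * (r * z) * r by group, ← hcS z (sqs_le P hzΦ) r hr,
        show z * (z * r) * r = z * z * (r * r) by group, hexpS r hr, mul_one]
    have C : Central P Φ := ⟨sqs_le P, hcent, fun x hx => (hΦsq x hx).2 hz1, fun k hk => sq_mem_sqs hk⟩
    refine natural_layer E L hV F hW hWinv hmemW hle hS8 C ?_ hcS τS hτS hinjS
    rw [hS8] at hcΦ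
    exact hcΦ.symm

end Cfsg.Lib.LThreeRadical
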