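import Cfsg.Agent.SolvStruct.LThreeRadical.Sections

/-!
The top layer of a radical with quotient the linear group of degree three.
-/

set_option autoImplicit false
set_option linter.unusedSectionVars false
set_option linter.style.haveILetI false
set_option maxRecDepth 100000
set_option maxHeartbeats 1000000

namespace Cfsg.Lib.LThreeRadical

open Subgroup
open Cfsg.Lib.AltFiveRadical (IsQuad pairing)
open Cfsg.Lib.SymSixSection (fix inv_self' eq_of_mul_one)

universe u
variable {Y : Type u} [Group Y] [Finite Y] {π : Y →* L3} {P R : Subgroup Y}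

theorem card_map_quot (M H : Subgroup Y) [M.Normal] (hMH : M ≤ H) :
    Nat.card (H.map (QuotientGroup.mk' M)) * Nat.card M = Nat.card H := by
  let f := (QuotientGroup.mk' M).subgroupMap H
  have hf : Function.Surjective f := (QuotientGroup.mk' M).subgroupMap_surjective H
  have hk : f.ker = M.subgroupOf H := by
    ext a
    rw [MonoidHom.mem_ker, mem_subgroupOf, Subtype.ext_iff]
    exact QuotientGroup.eq_one_iff _
  have h := f.ker.card_mul_index
  rw [Subgroup.index_ker, MonoidHom.range_eq_top.2 hf, Subgroup.card_top, hk,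
    Nat.card_congr (Subgroup.subgroupOfEquivOfLe hMH).toEquiv] at h
  rw [mul_comm, h]

theorem zpowers_two {G : Type*} [Group G] {a : G} (ha : a * a = 1) {g : G} (hg : g ∈ zpowers a) : g = 1 ∨ g = a := by
  obtain ⟨j, rfl⟩ := mem_zpowers_iff.1 hg
  rcases Int.even_or_odd' j with ⟨k, rfl | rfl⟩
  · left
    rw [_root_.zpow_mul, _root_.zpow_two, ha, _root_.one_zpow]
  · right
    rw [_root_.zpow_add, _root_.zpow_one, _root_.zpow_mul, _root_.zpow_two, ha, _root_.one_zpow, one_mul]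

/-- lifts of the chosen involution -/
theorem exists_lift_tE (E : Setup π P) [R.Normal] {V : Type u} [CommGroup V] [Finite V] (L : Layer π P R V) :
    ∃ x₀ : V, L.ρ uE x₀ = x₀ ∧ ∀ v : V, ∃ (τ : Y) (h : τ * τ ∈ P), π τ = tE ∧ L.p ⟨τ * τ, h⟩ = x₀ * (L.ρ tE v * v) := by
  obtain ⟨ul, hul⟩ := E.surj uE
  have hπ : π (ul * ul) = tE := by rw [map_mul, hul]; rfl
  have hx : ul * ul * (ul * ul) ∈ P := E.mem.2 (by rw [map_mul, hπ]; exact rel_facts.2.2.2.2.1)
  refine ⟨L.p ⟨_, hx⟩, ?_, fun v => ?_⟩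
  · have h := L.equiv ul ⟨_, hx⟩ ⟨_, hx⟩ (by group)
    rwa [hul] at h
  obtain ⟨y, rfl⟩ := L.surj v
  have hτ : π (ul * ul * y) = tE := by rw [map_mul, hπ, E.mem.1 y.2, mul_one]
  have h2 : (ul * ul * y) * (ul * ul * y) ∈ P := E.mem.2 (by rw [map_mul, hτ]; exact rel_facts.2.2.2.2.1)
  refine ⟨_, h2, hτ, ?_⟩
  set yc : P := ⟨(ul * ul)⁻¹ * y * (ul * ul)⁻¹⁻¹, Normal.conj_mem E.normal _ y.2 _⟩
  have e : (⟨(ul * ul * y) * (ul * ul * y), h2⟩ : P) = ⟨_, hx⟩ * (yc * y) := Subtype.ext (by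
    show _ = ul * ul * (ul * ul) * ((ul * ul)⁻¹ * y * (ul * ul)⁻¹⁻¹ * y)
    simp [mul_assoc])
  rw [e, map_mul, map_mul, ← L.equiv (ul * ul)⁻¹ y yc rfl, map_inv, hπ,
    inv_eq_of_mul_eq_one_left rel_facts.2.2.2.2.1]

theorem card_fix_lift {V R : Type*} [CommGroup V] [Finite V] [CommGroup R] [Finite R] (ρ : L3 →* MulAut V)
    (τ : L3 →* MulAut R) (q : V → R) (hqhom : ∀ u v, q (u * v) = q u * q v) (heq : ∀ σ v, q (ρ σ v) = τ σ (q v))
    {z : V} (hqker : ∀ v, q v = 1 ↔ (v = 1 ∨ v = z)) (hzfix : ∀ σ, ρ σ z = z) (hex : ∀ v, ρ tE v ≠ v * z)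
    (hexp : ∀ v : V, v * v = 1) (hsurj : Function.Surjective q) (heR : ∀ r : R, r * r = 1)
    (hfix : Nat.card (fix (τ tE)) = 4) (hz1 : z ≠ 1 := by assumption) : Nat.card (fix (ρ tE)) = 8 := by
  let f : V →* R := MonoidHom.mk' q hqhom
  let g : fix (ρ tE) →* fix (τ tE) := (f.comp (fix (ρ tE)).subtype).codRestrict _ fun v => by
    show τ tE (q (v : V)) = q (v : V)
    rw [← heq, v.2]
  have hg : Function.Surjective g := fun r => by
    obtain ⟨v, hv⟩ := hsurj r.1
    have hr' : τ tE r.1 = r.1 := r.2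
    refine ⟨⟨v, ?_⟩, Subtype.ext hv⟩
    show ρ tE v = v
    have h1 : q (ρ tE v * v) = 1 := by rw [hqhom, heq, hv, hr', heR]
    rcases (hqker _).1 h1 with e | e
    · exact (eq_of_mul_one hexp e).symm
    · refine absurd ?_ (hex v)
      rw [← e, mul_left_comm, hexp, mul_one]
  have hk : Nat.card g.ker = 2 := by
    have hzmem : z ∈ fix (ρ tE) := hzfix tE
    have : (g.ker : Set (fix (ρ tE))) = {1, ⟨z, hzmem⟩} := by
      ext v
      rw [SetLike.mem_coe, MonoidHom.mem_ker, Set.mem_insert_iff, Set.mem_singleton_iff, Subtype.ext_iff, Subtype.ext_iff,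
        Subtype.ext_iff]
      exact hqker v.1
    rw [← SetLike.coe_sort_coe, this, Nat.card_coe_set_eq,
      Set.ncard_pair fun e => hz1 (congrArg Subtype.val e).symm]
  have := g.ker.card_mul_index
  rw [Subgroup.index_ker, MonoidHom.range_eq_top.2 hg, Subgroup.card_top, hk, hfix] at this
  omega

theorem no_fixed_coset (E : Setup π P) [R.Normal] (C : Central P R) (hR8 : Nat.card R = 8) {V : Type u} [CommGroup V]
    [Finite V] (L : Layer π P R V) (hV : Nat.card V = 16) (τR : L3 →* MulAut R)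
    (hτR : ∀ (y : Y) (r : R), ((τR (π y) r : R) : Y) = y * r * y⁻¹) (hinjR : Function.Injective τR) :
    letI := C.comm
    ∀ q : V → R, IsQuad q → (∀ a : P, (q (L.p a) : Y) = (a : Y) * a) → ∀ z : V, z ≠ 1 → (∀ σ, L.ρ σ z = z) →
      (∀ u v, q (u * v) = q u * q v) → (∀ v, q v = 1 ↔ (v = 1 ∨ v = z)) →
      (∀ σ : L3, (∀ v, L.ρ σ v = v ∨ L.ρ σ v = v * z) → σ = 1) → False := by
  classical
  letI := C.comm
  intro q hq hqs z hz1 hzfix hqhom hqker hfaith
  haveI := E.normal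
  have heR : ∀ r : R, r * r = 1 := hq.expR
  have heq : ∀ σ v, q (L.ρ σ v) = τR σ (q v) := by
    intro σ v
    obtain ⟨y, rfl⟩ := E.surj σ
    obtain ⟨a, rfl⟩ := L.surj v
    rw [L.equiv y a ⟨_, Normal.conj_mem E.normal _ a.2 y⟩ rfl]
    apply Subtype.ext
    rw [hqs, hτR, hqs]
    show y * a * y⁻¹ * (y * a * y⁻¹) = _
    group
  -- the group is abelian
  have hab : ∀ a ∈ P, ∀ b ∈ P, a * b = b * a := by
    intro a ha b hb
    obtain ⟨-, e⟩ := C.sq_mul ha hb
    have e2 : a * b * (a * b) = a * a * (b * b) := by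
      have := congrArg Subtype.val (hqhom (L.p ⟨a, ha⟩) (L.p ⟨b, hb⟩))
      rw [← map_mul, Subgroup.coe_mul, hqs, hqs, hqs] at this
      exact this
    rw [e2, mul_assoc (b * a * b⁻¹ * a⁻¹)] at e
    exact (mul_inv_eq_iff_eq_mul.1 (mul_inv_eq_one.1 (mul_eq_right.1 e.symm))).symm
  have hsurj : Function.Surjective q := by
    let f : V →* R := MonoidHom.mk' q hqhom
    have hk : f.ker = zpowers z := by
      ext v
      rw [MonoidHom.mem_ker]
      refine ⟨fun h => ?_, fun h => ?_⟩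
      · rcases (hqker v).1 h with rfl | rfl
        · exact one_mem _
        · exact mem_zpowers _
      · exact (hqker v).2 (zpowers_two (L.exp z) h)
    have h := f.ker.card_mul_index
    rw [Subgroup.index_ker, hk, Nat.card_zpowers, orderOf_eq_prime (p := 2) (by rw [pow_two, L.exp]) hz1, hV] at h
    have htop : f.range = ⊤ := eq_top_of_card_eq _ (by omega)
    exact MonoidHom.range_eq_top.1 htop
  set Zc := L.pre (zpowers z)
  have hZP : Zc ≤ P := L.pre_le _
  have memZ : ∀ a : P, (a : Y) ∈ Zc ↔ L.p a ∈ zpowers z := fun a => L.mem_pre a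
  have hRZ : R ≤ Zc := fun r hr => (memZ ⟨r, C.le hr⟩).2 (by rw [(L.ker ⟨r, C.le hr⟩).2 hr]; exact one_mem _)
  haveI : Zc.Normal := ⟨fun n hn y => by
    refine (memZ ⟨_, Normal.conj_mem E.normal n (hZP hn) y⟩).2 ?_
    rw [← L.equiv y ⟨n, hZP hn⟩ _ rfl]
    rcases zpowers_two (L.exp z) ((memZ ⟨n, hZP hn⟩).1 hn) with e | e <;> rw [e]
    · rw [map_one]; exact one_mem _
    · rw [hzfix]; exact mem_zpowers _⟩
  have hZsq : ∀ a ∈ Zc, a * a = 1 := fun a ha => by
    rw [← hqs ⟨a, hZP ha⟩, (hqker _).2 (zpowers_two (L.exp z) ((memZ ⟨a, hZP ha⟩).1 ha))]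
    rfl
  have hZ16 : Nat.card Zc = 16 := by
    rw [L.card_pre C.le, Nat.card_zpowers, orderOf_eq_prime (p := 2) (by rw [pow_two, L.exp]) hz1, hR8]
  obtain ⟨τZ, hτZ⟩ := exists_act E (R := Zc) fun a ha r hr => hab a ha r (hZP hr)
  letI : CommGroup Zc :=
    { (inferInstance : Group Zc) with mul_comm := fun a b => Subtype.ext (hab a.1 (hZP a.2) b.1 (hZP b.2)) }
  have hinjZ : Function.Injective τZ := by
    rcases hom_dichotomy τZ with h | h
    · exfalso
      obtain ⟨r, hr⟩ := Subgroup.ne_bot_iff_exists_ne_one.1 (fun e => by rw [e, Subgroup.card_bot] at hR8; omega : R ≠ ⊥)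
      refine hr (nat_seven heR hR8 hinjR fE_pow.1 fE_pow.2 ?_)
      obtain ⟨fl, hfl⟩ := E.surj fE
      have h1 := congrArg Subtype.val (DFunLike.congr_fun (DFunLike.congr_fun h (π fl)) (⟨r, hRZ r.2⟩ : Zc))
      rw [hτZ] at h1
      rw [← hfl]
      exact Subtype.ext ((hτR fl r).trans h1)
    · exact h
  set RZ := R.subgroupOf Zc
  have hRZc : Nat.card RZ = 8 := by rw [Nat.card_congr (Subgroup.subgroupOfEquivOfLe hRZ).toEquiv, hR8]
  have hRZinv : ∀ σ : L3, ∀ w ∈ RZ, τZ σ w ∈ RZ := by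
    intro σ w hw
    obtain ⟨y, rfl⟩ := E.surj σ
    rw [mem_subgroupOf, hτZ]
    exact Normal.conj_mem inferInstance _ (mem_subgroupOf.1 hw) y
  rcases coset_cases τZ (fun a => Subtype.ext (hZsq a a.2)) hZ16.le hinjZ hZ16 hRZc hRZinv with
    ⟨a, ha, hfix⟩ | ⟨hmove, -⟩
  · -- quotient by the fixed element
    have hya : ∀ y : Y, y * a * y⁻¹ = a := fun y => (hτZ y a).symm.trans (congrArg Subtype.val (hfix (π y)))
    have haR : (a : Y) ∉ R := fun h => ha (mem_subgroupOf.2 h)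
    haveI : (zpowers (a : Y)).Normal := ⟨fun n hn y => by
      rcases zpowers_two (hZsq _ a.2) hn with rfl | rfl
      · simp
      · rw [hya]; exact mem_zpowers _⟩
    set M := zpowers (a : Y)
    have hMZ : M ≤ Zc := zpowers_le.2 a.2
    have hMc : Nat.card M = 2 := by
      rw [Nat.card_zpowers]
      exact orderOf_eq_prime (by rw [pow_two, hZsq _ a.2]) fun e => haR (e ▸ one_mem R)
    set m := QuotientGroup.mk' M
    have hms : Function.Surjective m := QuotientGroup.mk'_surjective M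
    have FZ : Faithful P Zc := fun y hy => E.mem.2 (hfaith _ fun v => by
      obtain ⟨b, rfl⟩ := L.surj v
      set bc : P := ⟨y * b * y⁻¹, Normal.conj_mem E.normal _ b.2 y⟩
      rw [L.equiv y b bc rfl]
      have h : L.p (bc * b⁻¹) ∈ zpowers z := (memZ (bc * b⁻¹)).1 (hy b b.2)
      rw [map_mul, map_inv] at h
      rcases zpowers_two (L.exp z) h with e | e
      · exact Or.inl (mul_inv_eq_one.1 e)
      · exact Or.inr (by rw [mul_comm (L.p b) z, ← e, inv_mul_cancel_right]))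
    haveI : (Zc.map m).Normal := Normal.map inferInstance _ hms
    have hsqZ : ∀ b ∈ P, b * b ∈ Zc := fun b hb => hRZ (C.sq b hb)
    have hsq' : ∀ b ∈ P.map m, b * b ∈ Zc.map m := by
      rintro _ ⟨b, hb, rfl⟩
      exact ⟨b * b, hsqZ b hb, map_mul m b b⟩
    have hRM : Zc.map m ≤ P.map m := Subgroup.map_mono hZP
    obtain ⟨V', iV, fV, ⟨L'⟩⟩ := exists_layer (E.quotient M (hMZ.trans hZP)) hRM hsq' (FZ.quotient hMZ)
    have hcR' : Nat.card (Zc.map m) = 8 := by
      have := card_map_quot M Zc hMZ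
      rw [hMc, hZ16] at this
      change Nat.card (Zc.map m) * 2 = 16 at this
      omega
    have hcP' : Nat.card (P.map m) = 64 := by
      have := card_map_quot M P (hMZ.trans hZP)
      rw [hMc, L.card C.le, hV, hR8] at this
      change Nat.card (P.map m) * 2 = 16 * 8 at this
      omega
    refine no_homocyclic (E.quotient M (hMZ.trans hZP)) hRM hsq' ?_ ?_ hcR' ?_ L' ?_
    · rintro _ ⟨b, hb, rfl⟩ _ ⟨c, hc, rfl⟩
      rw [← map_mul, hab b hb c hc, map_mul]
    · rintro _ ⟨b, hb, rfl⟩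
      rw [← map_mul, hZsq b hb, map_one]
    · rintro _ ⟨b, hb, rfl⟩ e
      rw [← map_mul] at e
      have h : b * b ∈ M := (QuotientGroup.eq_one_iff _).1 e
      rcases zpowers_two (hZsq _ a.2) h with h1 | h1
      · refine ⟨b, (memZ ⟨b, hb⟩).2 ?_, rfl⟩
        rcases (hqker _).1 (Subtype.ext ((hqs ⟨b, hb⟩).trans h1)) with e' | e' <;> rw [e']
        · exact one_mem _
        · exact mem_zpowers _
      · exact absurd (h1 ▸ C.sq b hb) haR
    · have := L'.card hRM
      rw [hcP', hcR'] at this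
      omega
  -- no fixed element in the coset
  have hmove' : ∀ (τ : Y), π τ * π τ = 1 → π τ ≠ 1 → ∀ x ∈ Zc, τ * x * τ⁻¹ = x → x ∈ R := by
    intro τ h2 h1 x hx e
    by_contra hn
    exact hmove (π τ) h2 h1 ⟨x, hx⟩ (fun h => hn (mem_subgroupOf.1 h)) (Subtype.ext ((hτZ τ _).trans e))
  by_cases hex : ∃ (t : L3) (v : V), t * t = 1 ∧ t ≠ 1 ∧ L.ρ t v = v * z
  · obtain ⟨t, v, ht2, ht1, htv⟩ := hex
    obtain ⟨τ, rfl⟩ := E.surj t
    obtain ⟨k, rfl⟩ := L.surj v
    set kc : P := ⟨τ * k * τ⁻¹, Normal.conj_mem E.normal _ k.2 τ⟩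
    rw [L.equiv τ k kc rfl] at htv
    have hpx : L.p (kc * k⁻¹) = z := by rw [map_mul, map_inv, htv, mul_comm (L.p k) z, mul_inv_cancel_right]
    have hxR : ((kc * k⁻¹ : P) : Y) ∉ R := fun h => hz1 (hpx ▸ (L.ker _).2 h)
    have hxZ : ((kc * k⁻¹ : P) : Y) ∈ Zc := (memZ _).2 (hpx ▸ mem_zpowers z)
    have hττ : τ * τ ∈ P := E.mem.2 (by rw [map_mul, ht2])
    refine hxR (hmove' τ ht2 ht1 _ hxZ ?_)
    have hc : τ * τ * k * (τ * τ)⁻¹ = k := by rw [hab _ hττ _ k.2, mul_inv_cancel_right]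
    calc τ * ((kc * k⁻¹ : P) : Y) * τ⁻¹ = (τ * τ * k * (τ * τ)⁻¹) * (τ * k * τ⁻¹)⁻¹ := by
          show τ * (τ * k * τ⁻¹ * (k : Y)⁻¹) * τ⁻¹ = _
          group
      _ = ((kc * k⁻¹ : P) : Y)⁻¹ := by
          rw [hc]
          show _ = (τ * k * τ⁻¹ * (k : Y)⁻¹)⁻¹
          group
      _ = _ := inv_eq_of_mul_eq_one_left (hZsq _ hxZ)
  push Not at hex
  obtain ⟨x₀, hx₀, hlift⟩ := exists_lift_tE E L
  obtain ⟨hfour, htt, ht1⟩ := (⟨rel_facts.2.2.2.1, rel_facts.2.2.2.2.1, rel_facts.2.2.2.2.2.1⟩ :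
    uE ^ 4 = 1 ∧ tE * tE = 1 ∧ tE ≠ 1)
  obtain ⟨r, hr⟩ := nat_fix_four heR hR8 hinjR (σ := uE) ht1 hfour (v := q x₀) (by rw [← heq, hx₀])
  obtain ⟨w, rfl⟩ := hsurj r
  obtain ⟨τ, hτP, hτ, hpτ⟩ := hlift w
  have hqτ : q (L.p ⟨τ * τ, hτP⟩) = 1 := by
    rw [hpτ, hqhom, hqhom, heq, hr, mul_comm (τR tE (q w)) (q w)]
    exact heR _
  have hτR2 : τ * τ ∈ R := hmove' τ (by rw [hτ, htt]) (by rw [hτ]; exact ht1) _
    ((memZ ⟨_, hτP⟩).2 (by
      rcases (hqker _).1 hqτ with e | e <;> rw [e]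
      · exact one_mem _
      · exact mem_zpowers _)) (by group)
  have hb := section_bound E C L τR hτR ht1 τ hτ hτR2
  have hfix4 := nat_fix_inv heR hR8 hinjR htt ht1
  have hfix8 := card_fix_lift L.ρ τR q hqhom heq hqker hzfix (fun v => hex tE v htt ht1) L.exp hsurj heR hfix4
  rw [hfix8, hR8, hfix4] at hb
  omega

theorem top_layer (E : Setup π P) [R.Normal] (hdef : R = sqs P) (hne : R ≠ ⊥) (F : Faithful P R)
    (hmin : ∀ N : Subgroup Y, N.Normal → N ≤ R → N = ⊥ ∨ N = R) :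
    Nat.card R = 2 ∧ (∀ a ∈ P, ∀ b ∈ P, a * b = b * a) ∧ Nat.card P = 32 := by
  classical
  haveI := E.normal
  have hR : R ≤ P := hdef ▸ sqs_le P
  have hsq : ∀ a ∈ P, a * a ∈ R := fun a ha => hdef ▸ sq_mem_sqs ha
  obtain ⟨hcent, hexp⟩ := central_of_minimal E hR hne hmin
  have C : Central P R := ⟨hR, hcent, hexp, hsq⟩
  obtain ⟨V, iV, fV, ⟨L⟩⟩ := exists_layer E hR hsq F
  obtain ⟨τR, hτR⟩ := exists_act E (R := R) hcent
  letI := C.comm
  obtain ⟨q, hq, hqs⟩ := exists_quad L C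
  have heq : ∀ σ v, q (L.ρ σ v) = τR σ (q v) := by
    intro σ v
    obtain ⟨y, rfl⟩ := E.surj σ
    obtain ⟨a, rfl⟩ := L.surj v
    rw [L.equiv y a ⟨_, Normal.conj_mem E.normal _ a.2 y⟩ rfl]
    apply Subtype.ext
    rw [hqs, hτR, hqs]
    show y * a * y⁻¹ * (y * a * y⁻¹) = _
    group
  have hnontriv : ∃ v, q v ≠ 1 := by
    by_contra h
    push Not at h
    refine hne (eq_bot_iff.2 ?_)
    rw [hdef, sqs_le_iff]
    intro a ha
    rw [Subgroup.mem_bot]
    exact (hqs ⟨a, ha⟩).symm.trans (congrArg Subtype.val (h _))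
  have hhom_ab : (∀ u v, q (u * v) = q u * q v) → ∀ a ∈ P, ∀ b ∈ P, a * b = b * a := by
    intro hhom a ha b hb
    obtain ⟨-, e⟩ := C.sq_mul ha hb
    have e2 : a * b * (a * b) = a * a * (b * b) := by
      have := congrArg Subtype.val (hhom (L.p ⟨a, ha⟩) (L.p ⟨b, hb⟩))
      rw [← map_mul, Subgroup.coe_mul, hqs, hqs, hqs] at this
      exact this
    rw [e2, mul_assoc (b * a * b⁻¹ * a⁻¹)] at e
    exact (mul_inv_eq_iff_eq_mul.1 (mul_inv_eq_one.1 (mul_eq_right.1 e.symm))).symm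
  have hR16 := C.card_le E
  have hexpR : ∀ r : R, r * r = 1 := fun r => Subtype.ext (hexp r r.2)
  rcases hom_dichotomy τR with htriv | hinjR
  · have hinv : ∀ σ v, q (L.ρ σ v) = q v := fun σ v => by rw [heq, htriv]; rfl
    have hhom := invariant_quad L.exp L.le16 L.inj hq hinv
    have hR2 := card_eq_two_of_trivial E hR hne hmin fun y r hr => by
      rw [← hτR y ⟨r, hr⟩, htriv]
      rfl
    refine ⟨hR2, hhom_ab hhom, ?_⟩
    rcases card_cases L.ρ L.exp L.le16 L.inj with h8 | h16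
    · exfalso
      obtain ⟨v, hv⟩ := hnontriv
      have hv1 : v ≠ 1 := fun e => hv (by rw [e, hq.map_one'])
      have hall : ∀ w, w ≠ 1 → q w = q v := fun w hw => by
        obtain ⟨σ, rfl⟩ := nat_trans L.exp h8 L.inj hv1 hw
        exact hinv σ v
      obtain ⟨w, hw⟩ : ∃ w : V, w ≠ 1 ∧ w ≠ v := by
        by_contra hno
        push Not at hno
        have : (Set.univ : Set V) ⊆ {1, v} := fun w _ => by
          by_cases h : w = 1
          · exact Or.inl h
          · exact Or.inr (hno w h)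
        have h2 := Set.ncard_le_ncard this
        rw [Set.ncard_univ, h8] at h2
        exact absurd (h2.trans (Set.ncard_insert_le _ _)) (by rw [Set.ncard_singleton]; omega)
      have h := hall (v * w) fun e => hw.2 (eq_of_mul_one L.exp e)
      rw [hhom, hall w hw.1, hexpR] at h
      exact hv h.symm
    · rw [L.card hR, h16, hR2]
  · exfalso
    rcases card_cases τR hexpR hR16 hinjR with h8 | h16
    · rcases card_cases L.ρ L.exp L.le16 L.inj with hV8 | hV16
      · obtain ⟨hinj, hhom⟩ := natural_linear L.exp hV8 L.inj hexpR h8 hinjR hq.map_one' heq hnontriv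
        refine no_homocyclic E hR hsq (hhom_ab hhom) hexp h8 (fun a ha e => ?_) L hV8
        exact (L.ker ⟨a, ha⟩).1 (hinj (a₂ := 1) ((Subtype.ext ((hqs ⟨a, ha⟩).trans e)).trans hq.map_one'.symm))
      rcases quad_sixteen hq hV16 L.inj h8 hinjR heq hnontriv with
        ⟨z, hz1, hzfix, hhom, hker, hfaith, -⟩ | ⟨W, hW, hWinv, hzero | ⟨hhom, hinj, hv₀⟩⟩
      · exact no_fixed_coset E C h8 L hV16 τR hτR hinjR q hq hqs z hz1 hzfix hhom hker hfaith
      · have h := sq_subgroup_bound' E.rank (N := ⊥) (U := L.pre W) (by rw [normalizer_eq_top]; exact le_top)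
          fun g hg => by
            rw [← hqs ⟨g, L.pre_le W hg⟩, hzero _ ((L.mem_pre ⟨g, L.pre_le W hg⟩).1 hg)]
            exact one_mem _
        rw [L.card_pre hR, hW, h8, Subgroup.card_bot] at h
        omega
      · exact no_inverted E h8 C L hV16 hW hWinv q hq hqs hhom hinj hv₀
    · -- no faithful minimal layer of order sixteen
      rcases reducible τR hexpR hR16 hinjR h16 with ⟨z, hz1, hzfix⟩ | hinv
      · haveI : (zpowers (z : Y)).Normal := ⟨fun n hn y => by
          rcases zpowers_two (hexp z z.2) hn with rfl | rfl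
          · simp
          · rw [← hτR, hzfix]; exact mem_zpowers _⟩
        rcases hmin (zpowers (z : Y)) inferInstance (zpowers_le.2 z.2) with h | h
        · exact hz1 (Subtype.ext (zpowers_eq_bot.1 h))
        · rw [← h, Nat.card_zpowers] at h16
          have := orderOf_le_of_pow_eq_one (x := (z : Y)) two_pos (by rw [pow_two, hexp z z.2])
          omega
      · have hW := (commSeven_facts τR hexpR hR16 hinjR h16).1
        haveI : ((commSeven τR).map R.subtype).Normal := ⟨by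
          rintro _ ⟨w, hw, rfl⟩ y
          exact ⟨τR (π y) w, hinv _ w hw, hτR y w⟩⟩
        have hc : Nat.card ((commSeven τR).map R.subtype) = 8 := by
          rw [card_map_of_injective R.subtype_injective, hW]
        rcases hmin ((commSeven τR).map R.subtype) inferInstance (Subgroup.map_subtype_le _) with h | h
        · rw [h, Subgroup.card_bot] at hc; omega
        · rw [h, h16] at hc; omega

end Cfsg.Lib.LThreeRadical
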